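import Cfsg.Agent.H103.Tor.Iface
import Cfsg.Agent.H516.OddFrame
import Cfsg.Agent.S1313
import Cfsg.Agent.OrdCrit.Main
import Cfsg.Agent.FastGrp
import Cfsg.Agent.Prune
set_option linter.all false

section
prune_inst 0x7f00000000000000000000000000000000000000000000000000000000000000000000000000000000000000000000000000000000000000000000000000000000000000000000000000000000000000003fffffffffffffffffffffffffffbeffbdffffffff

-- part: H33/Tor/Kill
section
set_option linter.all false
open scoped Cfsg.Agent.FastGrp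

/-!
# S3235: tools for the sporadic rows (helper33)

* `Kill p G` : no subgroup of `G` has `Pr p`;
* `Target.card_lt` : a target group has order less than the cube of its `p`-part; `kill_of_row`;
* `exists_component` : if `O_p(H) = 1` then a subgroup with `Pr p` lies in a component;
* `no_inv` : `Pr p A` does not hold if `A` centralises an involution `z` with `O_p(C(z)) = 1` whose components are
  killed.
-/

set_option autoImplicit false

namespace Cfsg.Agent.H33.Tor

open Subgroup Cfsg Cfsg.Agent.H103.Tor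
open Cfsg.Agent.SignalizersComponents.Components

universe u v

/-- no subgroup of `G` has `Pr p` -/
def Kill (p : ℕ) (G : Type*) [Group G] : Prop := ∀ A : Subgroup G, ¬ Pr p A

section Basic

variable {p : ℕ} {G : Type*} [Group G] {H : Type*} [Group H]

theorem Kill.row (h : Kill p G) : Row p G := fun A hA => absurd hA (h A)

theorem Kill.congr (e : G ≃* H) (h : Kill p G) : Kill p H :=
  fun A hA => h _ (hA.map_equiv e.symm)

/-- `A` lies in the image of a killed group -/
theorem Kill.not_of_le {f : H →* G} (hf : Function.Injective f) (h : Kill p H) {A : Subgroup G}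
    (hA : A ≤ f.range) : ¬ Pr p A := by
  intro hP
  have h1 : (A.comap f).map f = A := by
    rw [Subgroup.map_comap_eq, inf_eq_right.2 hA]
  exact h (A.comap f) (Pr.of_injective hf (by rwa [h1]))

theorem Kill.of_not_dvd (h : ¬ p ∣ Nat.card G) : Kill p G := by
  intro _ hA
  exact h (hA.card ▸ Subgroup.card_subgroup_dvd_card _)

/-- every subgroup of order `p` is conjugate into a killed subgroup if `p² ∤ |G|`, resp. if the subgroup contains a
Sylow `p`-subgroup -/
theorem Kill.of_sylow [Finite G] (hp : p.Prime) {f : H →* G} (hf : Function.Injective f) (h : Kill p H)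
    (hi : ¬ p ∣ f.range.index) : Kill p G := by
  have hpf := Fact.mk hp
  intro A hA
  obtain ⟨P, hP⟩ : ∃ P : Sylow p G, (P : Subgroup G) ≤ f.range := by
    obtain ⟨Q⟩ : Nonempty (Sylow p f.range) := inferInstance
    have h1 : Nat.card Q = p ^ (Nat.card G).factorization p := by
      rw [Sylow.card_eq_multiplicity]
      congr 1
      have h2 := Subgroup.card_mul_index f.range
      rw [← h2, Nat.factorization_mul Nat.card_pos.ne' (Subgroup.index_ne_zero_of_finite), Finsupp.add_apply,
        Nat.factorization_eq_zero_of_not_dvd hi, add_zero]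
    have h2 : Nat.card ((Q : Subgroup f.range).map f.range.subtype) = p ^ (Nat.card G).factorization p := by
      rw [← h1]
      exact (Nat.card_congr ((Q : Subgroup f.range).equivMapOfInjective _ (Subgroup.subtype_injective _)).toEquiv).symm
    refine ⟨Sylow.ofCard _ h2, ?_⟩
    show (Q : Subgroup f.range).map f.range.subtype ≤ f.range
    exact Subgroup.map_subtype_le _
  have hAp : IsPGroup p A := IsPGroup.of_card (n := 1) (by rw [hA.card, pow_one])
  obtain ⟨Q, hQ⟩ := hAp.exists_le_sylow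
  obtain ⟨g, hg⟩ := MulAction.exists_smul_eq G Q P
  have h3 : cj g A ≤ f.range := by
    refine le_trans ?_ hP
    rw [← hg]
    exact Subgroup.map_mono hQ
  exact h.not_of_le hf h3 (hA.conj g)

end Basic

/-! ### the order bound -/

section Card

theorem card_lt_psp {F : Type} [Field F] [Fintype F] {p : ℕ} (hp : p.Prime) [CharP F p] {m : ℕ} (hm : 1 ≤ m) :
    Nat.card (PSp m F) < (ordProj[p] (Nat.card (PSp m F))) ^ 3 := by
  obtain ⟨k, hk, hq⟩ := OrdCrit.exists_pow (F := F) hp
  have hq2 := OrdCrit.two_le hp hk hq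
  have h1 := S0245.result (F := F) rfl m
  have h2 := S0246.result (F := F) rfl m hm
  have h3 := Subgroup.card_mul_index (Subgroup.center ↥(Matrix.symplecticGroup (Fin m) F))
  rw [h1, h2] at h3
  refine OrdCrit.cube_of hp hq ?_ h3 ?_ Nat.card_pos.ne'
  · exact Nat.Coprime.coprime_dvd_left (Nat.gcd_dvd_right _ _) (OrdCrit.coprime_sub hp hk hq)
  · refine (OrdCrit.prod_lt hq2 hm).trans_le (Nat.pow_le_pow_right (by omega) ?_)
    nlinarith

theorem card_lt_psu {F : Type} [Field F] [Fintype F] {p : ℕ} (hp : p.Prime) [CharP F p] {n q : ℕ}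
    (hF : Fintype.card F = q ^ 2) (hn : 2 ≤ n) :
    Nat.card (PSU n F q) < (ordProj[p] (Nat.card (PSU n F q))) ^ 3 := by
  rcases Nat.lt_or_ge 2 n with h3 | h3
  · exact OrdCrit.psu hp hF h3
  obtain rfl : n = 2 := le_antisymm h3 hn
  obtain ⟨k, hk, hq⟩ := OrdCrit.root_pow hp (by norm_num) (OrdCrit.exists_pow (F := F) hp) hF
  have hq2 := OrdCrit.two_le hp hk hq
  have h := S0280.result (F := F) hF 2 (by omega)
  rw [Finset.prod_range_succ, Finset.prod_range_one, if_pos (by decide), if_neg (by decide), zero_add,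
    mul_left_comm, mul_left_comm (q ^ _), pow_one] at h
  have h' := Nat.eq_of_mul_eq_mul_left (show 0 < q + 1 by omega) h
  have h2 : Nat.gcd 2 (q + 1) * Nat.card (PSU 2 F q) = q ^ 1 * (q ^ (1 + 1) - 1) := by
    rw [pow_one]; exact h'
  refine OrdCrit.cube_of hp hq ?_ h2 ?_ Nat.card_pos.ne'
  · exact Nat.Coprime.coprime_dvd_left (Nat.gcd_dvd_right _ _) (OrdCrit.coprime_add hp hk hq)
  · have : 0 < q ^ 2 := by positivity
    show q ^ 2 - 1 < q ^ 2
    omega

/-- a target group has order less than the cube of its `p`-part -/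
theorem Target.card_lt {p : ℕ} (hp : p.Prime) {X : Type*} [Group X] (h : Target p X) :
    Nat.card X < (ordProj[p] (Nat.card X)) ^ 3 := by
  obtain ⟨F, i1, i2, hF, h⟩ := h
  have : CharP F p := by rw [← hF]; exact ringChar.charP F
  rcases h with ⟨m, hm, ⟨e⟩⟩ | ⟨n, q, hn, hq, ⟨e⟩⟩
  · rw [Nat.card_congr e.toEquiv]; exact card_lt_psp hp hm
  · rw [Nat.card_congr e.toEquiv]; exact card_lt_psu hp hq hn

/-- the order of `X` excludes `Target p X` for all `p ≥ 5` -/
def Ok (N : ℕ) : Prop := ∀ p : ℕ, p.Prime → 5 ≤ p → (ordProj[p] N) ^ 3 ≤ N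

theorem kill_of_row {p : ℕ} (hp : p.Prime) (hp5 : 5 ≤ p) {X : Type*} [Group X] (h : Row p X)
    (hN : Ok (Nat.card X)) : Kill p X := by
  intro A hA
  have h1 := Target.card_lt hp (h A hA)
  have h2 := hN p hp hp5
  omega

/-- the check of `Ok N` : `l` is the list of the maximal prime powers of `N` prime to `6` -/
def chk (N : ℕ) : ℕ → List ℕ → Bool
  | M, [] => (6 ^ 64 % M == 0)
  | M, c :: l => (M % c == 0) && (Nat.gcd c (M / c) == 1) && decide (c ^ 3 ≤ N) && chk N (M / c) l

theorem chk_spec {N : ℕ} (hN : 1 ≤ N) (l : List ℕ) : ∀ M : ℕ, M ≠ 0 → chk N M l = true →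
    ∀ q f : ℕ, q.Prime → 5 ≤ q → q ^ f ∣ M → (q ^ f) ^ 3 ≤ N := by
  induction l with
  | nil =>
    intro M hM h q f hq hq5 hd
    simp only [chk, beq_iff_eq] at h
    rcases Nat.eq_zero_or_pos f with rfl | hf
    · simpa using hN
    have h1 : M ∣ 6 ^ 64 := Nat.dvd_of_mod_eq_zero h
    have h2 : q ∣ 6 ^ 64 := ((dvd_pow_self q hf.ne').trans hd).trans h1
    have h3 : q ∣ 2 * 3 := by
      have := hq.dvd_of_dvd_pow h2
      simpa using this
    rcases (hq.dvd_mul).1 h3 with h4 | h4
    · have := Nat.le_of_dvd (by norm_num) h4; omega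
    · have := Nat.le_of_dvd (by norm_num) h4; omega
  | cons c l ih =>
    intro M hM h q f hq hq5 hd
    simp only [chk, Bool.and_eq_true, beq_iff_eq, decide_eq_true_eq] at h
    obtain ⟨⟨⟨h1, h2⟩, h3⟩, h4⟩ := h
    rcases Nat.eq_zero_or_pos f with rfl | hf
    · simpa using hN
    have h5 : c ∣ M := Nat.dvd_of_mod_eq_zero h1
    have h6 : c * (M / c) = M := Nat.mul_div_cancel' h5
    have hc0 : c ≠ 0 := by
      rintro rfl
      rw [zero_mul] at h6
      exact hM h6.symm
    have hM0 : M / c ≠ 0 := by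
      intro h0
      rw [h0, mul_zero] at h6
      exact hM h6.symm
    rw [← h6] at hd
    have h7 : IsPrimePow (q ^ f) := hq.isPrimePow.pow hf.ne'
    rcases (Nat.Coprime.isPrimePow_dvd_mul (by exact h2) h7).1 hd with h8 | h8
    · exact (Nat.pow_le_pow_left (Nat.le_of_dvd (Nat.pos_of_ne_zero hc0) h8) 3).trans h3
    · exact ih _ hM0 h4 q f hq hq5 h8

theorem ok_of_chk {N : ℕ} (l : List ℕ) (hN : N ≠ 0) (h : chk N N l = true) : Ok N := by
  intro p hp hp5
  exact chk_spec (Nat.one_le_iff_ne_zero.2 hN) l N hN h p _ hp hp5 (Nat.ordProj_dvd N p)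

end Card

/-! ### components -/

section Comp

variable {p : ℕ} {H : Type u} [Group H] [Finite H]

/-- a subnormal `p`-subgroup of `P ≤ N`, `N` subnormal, is trivial if `p` does not divide the order of `F(H)` -/
theorem eq_bot_of_subnormal (hp : p.Prime) (hF : ¬ p ∣ Nat.card (fittingSubgroup H)) {N : Subgroup H}
    (hN : N.IsSubnormal) {P : Subgroup H} (hPN : P ≤ N) (hP : IsPGroup p P)
    (hPn : ∀ n ∈ N, ∀ x ∈ P, n * x * n⁻¹ ∈ P) : P = ⊥ := by
  have hpf := Fact.mk hp
  have h2 : (P.subgroupOf N).Normal := by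
    constructor
    intro x hx g
    rw [mem_subgroupOf] at hx ⊢
    exact hPn g g.2 x hx
  have h3 : P.IsSubnormal := by
    have h4 := h2.isSubnormal.trans' hN
    rwa [Subgroup.subgroupOf_map_subtype, inf_eq_left.2 hPN] at h4
  have h5 : Group.IsNilpotent P := hP.isNilpotent
  have h6 := SignalizersComponents.FStarNormal.le_fitting_of_subnormal h3 h5
  by_contra hne
  apply hF
  have h7 : p ∣ Nat.card P := by
    obtain ⟨k, hk⟩ := IsPGroup.iff_card.1 hP
    rcases Nat.eq_zero_or_pos k with rfl | hk0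
    · rw [pow_zero, Subgroup.card_eq_one] at hk
      exact absurd hk hne
    · rw [hk]; exact dvd_pow_self p hk0.ne'
  exact h7.trans (Subgroup.card_dvd_of_le h6)

/-- if `O_p(H) = 1` then `A` lies in a component of `H` -/
theorem exists_component (hp : p.Prime) (hp5 : 5 ≤ p) {A : Subgroup H} (hA : Pr p A) (hO : pCore p H = ⊥) :
    ∃ K : Subgroup H, IsComponent K ∧ A ≤ K ∧ ¬ p ∣ Nat.card (center K) := by
  have hpf := Fact.mk hp
  have hFn : (fittingSubgroup H).Normal := SignalizersComponents.ComponentExists.fittingSubgroup_normal H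
  have hLn : (layer H).Normal := layer_normal H
  have hF := H516.not_dvd_card_fitting (H := H) (p := p) hO
  have hcF : Cm A (fittingSubgroup H) :=
    hA.centralize_of_not_dvd hp hp5 (fun a _ n hn => hFn.conj_mem n hn a) hF
  have hnot : ¬ (Cm A (layer H)) := by
    intro hcL
    have h1 : A ≤ centralizer (generalizedFittingSubgroup H : Set H) := by
      intro a ha
      have h2 : generalizedFittingSubgroup H ≤ centralizer ({a} : Set H) := by
        refine sup_le ?_ ?_
        · intro x hx
          rw [mem_centralizer_singleton_iff]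
          exact (hcL a ha x hx).symm
        · intro x hx
          rw [mem_centralizer_singleton_iff]
          exact (hcF a ha x hx).symm
      rw [mem_centralizer_iff]
      intro x hx
      exact mem_centralizer_singleton_iff.1 (h2 hx)
    have h3 : A ≤ fittingSubgroup H := fun a ha => TwoFusion.FStarControl.centralizer_genFitting_le_fitting (h1 ha)
    exact hF (hA.card ▸ Subgroup.card_dvd_of_le h3)
  have hAL : A ≤ layer H := by
    by_contra hAL
    apply hnot
    refine hA.centralize hp hp5 (fun a _ n hn => hLn.conj_mem n hn a) hAL ?_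
    intro P hPL hP hPn
    exact eq_bot_of_subnormal hp hF hLn.isSubnormal hPL hP hPn
  by_contra hcon
  push Not at hcon
  apply hnot
  intro a ha x hx
  have h1 : layer H ≤ centralizer ({a} : Set H) := by
    rw [layer_le_iff]
    intro K hK
    have hAK : ¬ A ≤ K := fun h => hF ((hcon K hK h).trans (H516.card_center_component hK))
    have h2 : Cm A K := by
      refine hA.centralize hp hp5 ?_ hAK ?_
      · intro b hb n hn
        exact (mem_normalizer_iff.1 (layer_le_normalizer_component hK (hAL hb)) n).1 hn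
      · intro P hPK hP hPn
        exact eq_bot_of_subnormal hp hF hK.1 hPK hP hPn
    intro y hy
    rw [mem_centralizer_singleton_iff]
    exact (h2 a ha y hy).symm
  exact (mem_centralizer_singleton_iff.1 (h1 hx)).symm

/-- if `O_p(H) = 1` and the components modulo their centres are killed then `H` is killed -/
theorem kill_of_components (hp : p.Prime) (hp5 : 5 ≤ p) (hO : pCore p H = ⊥)
    (hK : ∀ K : Subgroup H, IsComponent K → Kill p (K ⧸ center K)) : Kill p H := by
  intro A hA
  obtain ⟨K, hKc, hAK, hZ⟩ := exists_component hp hp5 hA hO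
  have h1 := hA.subgroupOf hAK
  refine hK K hKc _ (h1.map hp hp5 (QuotientGroup.mk' (center K)) (QuotientGroup.mk'_surjective _) ?_)
  rw [QuotientGroup.ker_mk']
  intro h2
  exact hZ (h1.card ▸ Subgroup.card_dvd_of_le h2)

end Comp

/-! ### centralisers of involutions -/

section Inv

variable {p : ℕ} {G : Type u} [Group G] [Finite G]

theorem map_center_equiv {X Y : Type*} [Group X] [Group Y] (e : X ≃* Y) :
    (center X).map (e : X →* Y) = center Y := by
  ext y
  rw [mem_center_iff]
  constructor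
  · rintro ⟨x, hx, rfl⟩ g
    have h1 := (mem_center_iff.1 hx) (e.symm g)
    have h2 := congrArg e h1
    rw [map_mul, map_mul, MulEquiv.apply_symm_apply] at h2
    exact h2
  · intro h
    refine ⟨e.symm y, ?_, e.apply_symm_apply y⟩
    show e.symm y ∈ center X
    rw [mem_center_iff]
    intro g
    apply e.injective
    rw [map_mul, map_mul, MulEquiv.apply_symm_apply]
    exact h (e g)

/-- `A` does not centralise the element `z` if `O_p(C(z)) = 1` and the components of `C(z)` are killed -/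
theorem not_le_centralizer (hp : p.Prime) (hp5 : 5 ≤ p) {A : Subgroup G} (hA : Pr p A) {z : G}
    (hO : pCore p (centralizer ({z} : Set G)) = ⊥)
    (hK : ∀ K : Subgroup G, IsComponentOf K (centralizer ({z} : Set G)) → Kill p (K ⧸ center K)) :
    ¬ A ≤ centralizer ({z} : Set G) := by
  intro hAz
  refine kill_of_components hp hp5 hO (fun K hK' => ?_) _ (hA.subgroupOf hAz)
  have h1 : IsComponentOf (K.map (centralizer ({z} : Set G)).subtype) (centralizer ({z} : Set G)) := by
    refine ⟨Subgroup.map_subtype_le _, ?_⟩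
    have : (K.map (centralizer ({z} : Set G)).subtype).subgroupOf (centralizer ({z} : Set G)) = K :=
      Subgroup.comap_map_eq_self_of_injective (Subgroup.subtype_injective _) K
    rwa [this]
  have h2 := hK _ h1
  let e : ↥K ≃* ↥(K.map (centralizer ({z} : Set G)).subtype) :=
    K.equivMapOfInjective _ (Subgroup.subtype_injective _)
  exact h2.congr (QuotientGroup.congr _ _ e.symm (map_center_equiv e.symm))

end Inv

end Cfsg.Agent.H33.Tor

private theorem dce_e68c5bbbf8b0 : _root_.True := by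
  try have : _root_.True := by simp only [_root_.Cfsg.Agent.H33.Tor.chk.eq_2]
  try have : _root_.True := by simp only [_root_.Cfsg.Agent.H33.Tor.chk.eq_def]
  try have : _root_.True := by simp only [_root_.Cfsg.Agent.H33.Tor.chk.eq_1]
  exact _root_.True.intro
end

-- part: H33/Tor/Facts
section
set_option linter.all false
open scoped Cfsg.Agent.FastGrp

-- part: H33/Tor/Count
section
/-!
# S3235: counting (helper33)

* `comm_of_four` : if `t` acts on `A` as `a ↦ a⁴` and `y` commutes with `t` then `A` commutes with `y A y⁻¹`, provided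
  `16 ^ c ≢ 1 (mod p)`, `c = |C(A)|`;
* `card_cent_le` : `p |C(t)| ≤ (c - 1) c`;
* `count_small` : `p |G| ≤ c² (p + (c - 1) c)`;
* `count_inv` : if `4 ^ k ≡ -1 (mod p)` then `|G| ≤ c² (1 + |C(z)|)` for an involution `z`.
-/

set_option autoImplicit false

namespace Cfsg.Agent.H33.Tor

open Subgroup Cfsg Cfsg.Agent.H103.Tor

universe u

section

variable {p : ℕ} {G : Type u} [Group G] [Finite G] {A : Subgroup G}

omit [Finite G] in
theorem pow_conj {t a : G} {n : ℕ} (h : t * a * t⁻¹ = a ^ n) (k : ℕ) : t ^ k * a * (t ^ k)⁻¹ = a ^ n ^ k := by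
  induction k with
  | zero => simp
  | succ k ih =>
    rw [pow_succ', pow_succ, mul_inv_rev]
    calc t * t ^ k * a * ((t ^ k)⁻¹ * t⁻¹) = t * (t ^ k * a * (t ^ k)⁻¹) * t⁻¹ := by group
      _ = t * a ^ n ^ k * t⁻¹ := by rw [ih]
      _ = (t * a * t⁻¹) ^ n ^ k := by rw [conj_pow]
      _ = (a ^ n) ^ n ^ k := by rw [h]
      _ = a ^ (n ^ k * n) := by rw [← pow_mul, mul_comm]

omit [Finite G] in
theorem exists_gen (hp : p.Prime) {A : Subgroup G} (hA : Nat.card A = p) :
    ∃ a ∈ A, orderOf a = p ∧ A = zpowers a := by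
  obtain ⟨a, h1, h2, h3⟩ := Cfsg.Agent.H333.SLTwoLine.exists_gen hp A hA
  exact ⟨a, h1, h2, h3⟩

theorem comm_of_four (hp : p.Prime) (hp5 : 5 ≤ p) (hA : Pr p A) {t : G} (ht : ∀ a ∈ A, t * a * t⁻¹ = a ^ 4)
    (hc : ¬ 16 ^ Nat.card (centralizer (A : Set G)) ≡ 1 [MOD p]) {y : G} (hy : t * y = y * t) :
    Cm A (cj y A) := by
  by_contra hcon
  have hP := hA.exists_pair hp hp5 hcon
  have h2 : ¬ p ∣ 2 := fun h => by have := Nat.le_of_dvd (by norm_num) h; omega
  obtain ⟨d, -, hd1, hd2, -, -⟩ := hP.exists_sq hp hp5 2 h2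
  have htB : ∀ b ∈ cj y A, t * b * t⁻¹ = b ^ 4 := by
    rintro _ ⟨a, ha, rfl⟩
    show t * (y * a * y⁻¹) * t⁻¹ = (y * a * y⁻¹) ^ 4
    have h3 : t * (y * a * y⁻¹) * t⁻¹ = y * (t * a * t⁻¹) * y⁻¹ := by
      calc t * (y * a * y⁻¹) * t⁻¹ = (t * y) * a * (t * y)⁻¹ := by group
        _ = (y * t) * a * (y * t)⁻¹ := by rw [hy]
        _ = y * (t * a * t⁻¹) * y⁻¹ := by group
    rw [h3, ht a ha, conj_pow]
  -- `s = d⁻¹ t` centralises `A` and acts on `cj y A` as `b ↦ b ^ 16`
  set s := d⁻¹ * t with hs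
  have hsA : s ∈ centralizer (A : Set G) := by
    rw [mem_centralizer_iff]
    intro a ha
    have h3 : d * a * d⁻¹ = t * a * t⁻¹ := by rw [hd1 a ha, ht a ha]; norm_num
    rw [hs]
    calc a * (d⁻¹ * t) = d⁻¹ * (d * a * d⁻¹) * t := by group
      _ = d⁻¹ * (t * a * t⁻¹) * t := by rw [h3]
      _ = d⁻¹ * t * a := by group
  have hsB : ∀ b ∈ cj y A, s * b * s⁻¹ = b ^ 16 := by
    intro b hb
    have h3 : s * b * s⁻¹ = d⁻¹ * (t * b * t⁻¹) * d := by rw [hs]; group
    have h4 : d⁻¹ * b ^ 4 * d = (d⁻¹ * b * d) ^ 4 := by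
      have := conj_pow (a := d⁻¹) (b := b) (i := 4)
      rw [inv_inv] at this
      exact this.symm
    rw [h3, htB b hb, h4, hd2 b hb, ← pow_mul]
    norm_num
  obtain ⟨b, hb, hbo, -⟩ := exists_gen (G := G) hp (A := cj y A) (by rw [card_cj, hA.card])
  have h5 := pow_conj (hsB b hb) (Nat.card (centralizer (A : Set G)))
  have h6 : s ^ Nat.card (centralizer (A : Set G)) = 1 := by
    have := pow_card_eq_one' (x := (⟨s, hsA⟩ : centralizer (A : Set G)))
    exact congrArg Subtype.val this
  rw [h6, one_mul, inv_one, mul_one] at h5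
  apply hc
  have h7 : b ^ 1 = b ^ 16 ^ Nat.card (centralizer (A : Set G)) := by rw [pow_one]; exact h5
  rw [pow_eq_pow_iff_modEq, hbo] at h7
  exact h7.symm

theorem card_cent_le (hp : p.Prime) (hp5 : 5 ≤ p) (hA : Pr p A) {t : G} (ht : ∀ a ∈ A, t * a * t⁻¹ = a ^ 4)
    (hc : ¬ 16 ^ Nat.card (centralizer (A : Set G)) ≡ 1 [MOD p]) :
    p * Nat.card (centralizer ({t} : Set G)) ≤
      (Nat.card (centralizer (A : Set G)) - 1) * Nat.card (centralizer (A : Set G)) := by
  classical
  obtain ⟨a, haA, hao, hAa⟩ := exists_gen hp hA.card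
  have ha1 : a ≠ 1 := by
    rintro rfl
    rw [orderOf_one] at hao
    exact hp.one_lt.ne hao
  set C := centralizer (A : Set G) with hC
  set T := centralizer ({t} : Set G) with hT
  set D : Subgroup T := (C.subgroupOf T) with hD
  -- `p |D| ≤ |C|`
  have hD1 : p * Nat.card D ≤ Nat.card C := by
    rw [← hA.card, ← Nat.card_prod]
    refine Nat.card_le_card_of_injective (fun x : A × D => (⟨x.1 * (x.2 : T), ?_⟩ : C)) ?_
    · refine C.mul_mem ?_ x.2.2
      rw [hC, mem_centralizer_iff]
      intro b hb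
      exact (Cm.self hp hA.card b hb x.1 x.1.2)
    · rintro ⟨a1, d1⟩ ⟨a2, d2⟩ h
      have h1 : (a1 : G) * ((d1 : T) : G) = a2 * ((d2 : T) : G) := congrArg Subtype.val h
      have h2 : (a2 : G)⁻¹ * a1 = ((d2 : T) : G) * ((d1 : T) : G)⁻¹ := by
        rw [inv_mul_eq_iff_eq_mul, ← mul_assoc, ← h1]; group
      have h3 : (a2 : G)⁻¹ * a1 ∈ A := A.mul_mem (A.inv_mem a2.2) a1.2
      have h4 : (a2 : G)⁻¹ * a1 ∈ T := by
        rw [h2]; exact T.mul_mem (d2 : T).2 (T.inv_mem (d1 : T).2)
      have h5 := ht _ h3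
      have h6 : t * ((a2 : G)⁻¹ * a1) * t⁻¹ = (a2 : G)⁻¹ * a1 := by
        have := mem_centralizer_singleton_iff.1 h4
        rw [← this]; group
      rw [h6] at h5
      have h7 : ((a2 : G)⁻¹ * a1) = 1 := by
        by_contra hne
        have h8 : orderOf ((a2 : G)⁻¹ * a1) = p := by
          have h9 : orderOf ((a2 : G)⁻¹ * a1) ∣ p := by
            have := orderOf_dvd_natCard (⟨_, h3⟩ : A)
            rwa [Subgroup.orderOf_mk, hA.card] at this
          rcases (Nat.dvd_prime hp).1 h9 with h10 | h10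
          · exact absurd (orderOf_eq_one_iff.1 h10) hne
          · exact h10
        have h11 : ((a2 : G)⁻¹ * a1) ^ 3 = 1 := by
          have h12 : ((a2 : G)⁻¹ * a1) * ((a2 : G)⁻¹ * a1) ^ 3 = ((a2 : G)⁻¹ * a1) * 1 := by
            rw [← pow_succ', mul_one]; exact h5.symm
          exact mul_left_cancel h12
        have h13 := orderOf_dvd_of_pow_eq_one h11
        rw [h8] at h13
        have := Nat.le_of_dvd (by norm_num) h13
        omega
      have h8 : (a1 : G) = a2 := by
        rw [inv_mul_eq_one] at h7; exact h7.symm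
      have h9 : ((d1 : T) : G) = (d2 : T) := by
        rw [h8] at h1; exact mul_left_cancel h1
      exact Prod.ext (Subtype.ext h8) (Subtype.ext (Subtype.ext h9))
  -- the fibres
  have hT1 : Nat.card T ≤ (Nat.card C - 1) * Nat.card D := by
    have hfib : Nat.card (T ⧸ D) ≤ Nat.card C - 1 := by
      have h1 : Nat.card {c : C // c ≠ 1} = Nat.card C - 1 := by
        have := Fintype.ofFinite C
        rw [Nat.card_eq_fintype_card, Nat.card_eq_fintype_card, Fintype.card_subtype_compl,
          Fintype.card_subtype_eq]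
      rw [← h1]
      have hmem : ∀ y : T, (y : G) * a * (y : G)⁻¹ ∈ C := by
        intro y
        have h2 := comm_of_four hp hp5 hA ht hc (y := y) (mem_centralizer_singleton_iff.1 y.2).symm
        rw [hC, mem_centralizer_iff]
        intro b hb
        exact h2 b hb _ (conj_mem_cj haA)
      refine Nat.card_le_card_of_injective (Quotient.lift (s := QuotientGroup.leftRel D)
        (fun y : T => (⟨⟨(y : G) * a * (y : G)⁻¹, hmem y⟩, ?_⟩ : {c : C // c ≠ 1})) ?_) ?_
      · intro h
        apply ha1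
        have h2 : (y : G) * a * (y : G)⁻¹ = 1 := congrArg Subtype.val h
        have h3 : a = (y : G)⁻¹ * ((y : G) * a * (y : G)⁻¹) * y := by group
        rw [h3, h2]; group
      · intro y z h
        rw [← Quotient.eq_iff_equiv, Quotient.eq, QuotientGroup.leftRel_apply] at h
        have h2 : (y : G)⁻¹ * z ∈ C := h
        rw [hC, mem_centralizer_iff] at h2
        have h3 := h2 a haA
        refine Subtype.ext (Subtype.ext ?_)
        show (y : G) * a * (y : G)⁻¹ = (z : G) * a * (z : G)⁻¹
        calc (y : G) * a * (y : G)⁻¹ = y * (a * ((y : G)⁻¹ * z)) * (z : G)⁻¹ := by group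
          _ = y * (((y : G)⁻¹ * z) * a) * (z : G)⁻¹ := by rw [h3]
          _ = (z : G) * a * (z : G)⁻¹ := by group
      · intro q1 q2
        induction q1 using Quotient.inductionOn with | _ y
        induction q2 using Quotient.inductionOn with | _ z
        intro h
        have h2 : (y : G) * a * (y : G)⁻¹ = (z : G) * a * (z : G)⁻¹ := congrArg (fun x => ((x : C) : G)) (congrArg Subtype.val h)
        apply Quotient.sound
        show (QuotientGroup.leftRel D) y z
        rw [QuotientGroup.leftRel_apply]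
        show (y : G)⁻¹ * z ∈ C
        rw [hC, mem_centralizer_iff]
        intro b hb
        rw [SetLike.mem_coe, hAa] at hb
        obtain ⟨i, rfl⟩ := hb
        have e1 : Commute a ((y : G)⁻¹ * z) := by
          show a * ((y : G)⁻¹ * z) = ((y : G)⁻¹ * z) * a
          calc a * ((y : G)⁻¹ * z) = (y : G)⁻¹ * ((y : G) * a * (y : G)⁻¹) * z := by group
            _ = (y : G)⁻¹ * ((z : G) * a * (z : G)⁻¹) * z := by rw [h2]
            _ = ((y : G)⁻¹ * z) * a := by group
        exact e1.zpow_left i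
    rw [Subgroup.card_eq_card_quotient_mul_card_subgroup D]
    exact Nat.mul_le_mul_right _ hfib
  calc p * Nat.card T ≤ p * ((Nat.card C - 1) * Nat.card D) := Nat.mul_le_mul_left _ hT1
    _ = (Nat.card C - 1) * (p * Nat.card D) := by ring
    _ ≤ (Nat.card C - 1) * Nat.card C := Nat.mul_le_mul_left _ hD1

/-- `p |G| ≤ c² (p + (c - 1) c)`, `c = |C(A)|` -/
theorem count_small (hp : p.Prime) (hp5 : 5 ≤ p) (hA : Pr p A) {g₀ : G} (hg₀ : ¬ Cm A (cj g₀ A))
    (hc : ¬ 16 ^ Nat.card (centralizer (A : Set G)) ≡ 1 [MOD p]) :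
    p * Nat.card G ≤ Nat.card (centralizer (A : Set G)) ^ 2 *
      (p + (Nat.card (centralizer (A : Set G)) - 1) * Nat.card (centralizer (A : Set G))) := by
  obtain ⟨t, ht, -, -, h1⟩ := hA.count hp hp5 hg₀
  have h2 := card_cent_le hp hp5 hA ht hc
  set c := Nat.card (centralizer (A : Set G))
  calc p * Nat.card G ≤ p * (c ^ 2 * (1 + Nat.card (centralizer ({t} : Set G)))) := Nat.mul_le_mul_left _ h1
    _ = c ^ 2 * (p + p * Nat.card (centralizer ({t} : Set G))) := by ring
    _ ≤ _ := Nat.mul_le_mul_left _ (Nat.add_le_add_left h2 _)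

/-- if `4 ^ k ≡ -1 (mod p)` then the element `t` of `Pr.count` has even order -/
theorem count_inv (hp : p.Prime) (hp5 : 5 ≤ p) (hA : Pr p A) {g₀ : G} (hg₀ : ¬ Cm A (cj g₀ A)) {k : ℕ}
    (hk : p ∣ 4 ^ k + 1) : ∃ z : G, orderOf z = 2 ∧
      Nat.card G ≤ Nat.card (centralizer (A : Set G)) ^ 2 * (1 + Nat.card (centralizer ({z} : Set G))) := by
  obtain ⟨t, ht, -, -, h1⟩ := hA.count hp hp5 hg₀
  obtain ⟨a, haA, hao, -⟩ := exists_gen hp hA.card
  have heven : Even (orderOf t) := by
    rw [← Nat.not_odd_iff_even]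
    intro hodd
    have h2 := pow_conj (pow_conj (ht a haA) k) (orderOf t)
    rw [← pow_mul, mul_comm k, pow_mul, pow_orderOf_eq_one, one_pow, one_mul, inv_one, mul_one] at h2
    have h3 : a ^ 1 = a ^ ((4 ^ k) ^ orderOf t) := by rw [pow_one]; exact h2
    rw [pow_eq_pow_iff_modEq, hao] at h3
    -- `(4 ^ k) ^ odd ≡ -1`
    have h4 : p ∣ (4 ^ k) ^ orderOf t + 1 := by
      have h5 : (4 ^ k + 1) ∣ (4 ^ k) ^ orderOf t + 1 ^ orderOf t := hodd.nat_add_dvd_pow_add_pow (4 ^ k) 1
      rw [one_pow] at h5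
      exact hk.trans h5
    have h6 : (4 ^ k) ^ orderOf t + 1 ≡ 1 + 1 [MOD p] := (h3.symm.add_right 1)
    have h7 : p ∣ 1 + 1 := (h6.dvd_iff dvd_rfl).1 h4
    have := Nat.le_of_dvd (by norm_num) h7
    omega
  obtain ⟨n, hn⟩ := heven.two_dvd
  have hn0 : n ≠ 0 := by
    rintro rfl
    rw [mul_zero] at hn
    exact (orderOf_pos t).ne' hn
  refine ⟨t ^ n, ?_, h1.trans (Nat.mul_le_mul_left _ (Nat.add_le_add_left ?_ 1))⟩
  · rw [orderOf_pow, hn, Nat.gcd_eq_right (Dvd.intro_left 2 rfl)]
    exact Nat.mul_div_cancel _ (Nat.pos_of_ne_zero hn0)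
  · apply Nat.card_le_card_of_injective (Subgroup.inclusion ?_) (Subgroup.inclusion_injective _)
    intro x hx
    rw [mem_centralizer_singleton_iff] at hx ⊢
    exact (Commute.pow_right (show Commute x t from hx) n)

omit [Finite G] in
theorem centralizer_zpowers (x : G) : centralizer (zpowers x : Set G) = centralizer ({x} : Set G) := by
  ext y
  rw [mem_centralizer_iff, mem_centralizer_singleton_iff]
  constructor
  · intro h
    exact (h x (mem_zpowers x)).symm
  · rintro h z ⟨i, rfl⟩
    exact ((show Commute x y from h.symm).zpow_left i)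

end

end Cfsg.Agent.H33.Tor
end

-- part: H33/Tor/Facts
section
/-!
# S3235: the facts used of a sporadic group (helper33)

`Facts p G` : every element `x` of order `p`
* commutes with an involution, or
* has a small centraliser, `c² (p + (c - 1) c) < p |G|` and `16 ^ c ≢ 1 (mod p)`, or
* `4 ^ k ≡ -1 (mod p)` and `c² (1 + |C(z)|) < |G|` for all involutions `z`.
-/

set_option autoImplicit false

namespace Cfsg.Agent.H33.Tor

open Subgroup Cfsg Cfsg.Agent.H103.Tor

universe u v

/-- `x` commutes with an involution -/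
def Ev {G : Type u} [Group G] (x : G) : Prop := ∃ z : G, orderOf z = 2 ∧ z * x = x * z

/-- the centraliser of `x` is small -/
def Sm (p : ℕ) {G : Type u} [Group G] (x : G) : Prop :=
  (¬ 16 ^ Nat.card (centralizer ({x} : Set G)) ≡ 1 [MOD p]) ∧
    Nat.card (centralizer ({x} : Set G)) ^ 2 *
      (p + (Nat.card (centralizer ({x} : Set G)) - 1) * Nat.card (centralizer ({x} : Set G))) < p * Nat.card G

/-- the centraliser of `x` is small compared with those of the involutions -/
def Iv (p : ℕ) {G : Type u} [Group G] (x : G) : Prop :=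
  (∃ k : ℕ, p ∣ 4 ^ k + 1) ∧ ∀ z : G, orderOf z = 2 →
    Nat.card (centralizer ({x} : Set G)) ^ 2 * (1 + Nat.card (centralizer ({z} : Set G))) < Nat.card G

/-- the facts -/
def Facts (p : ℕ) (G : Type u) [Group G] : Prop :=
  ∀ x : G, orderOf x = p → Ev x ∨ Sm p x ∨ Iv p x

section

variable {p : ℕ} {G : Type u} [Group G]

theorem Ev.of_even [Finite G] {x : G} (h : 2 ∣ Nat.card (centralizer ({x} : Set G))) : Ev x := by
  have : Fact (Nat.Prime 2) := ⟨Nat.prime_two⟩
  obtain ⟨z, hz⟩ := exists_prime_orderOf_dvd_card' 2 h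
  refine ⟨z, by rw [Subgroup.orderOf_coe]; exact hz, ?_⟩
  exact mem_centralizer_singleton_iff.1 z.2

theorem ev_iff [Finite G] {x : G} : Ev x ↔ 2 ∣ Nat.card (centralizer ({x} : Set G)) := by
  refine ⟨fun h => ?_, Ev.of_even⟩
  obtain ⟨z, hz, h1⟩ := h
  have h2 := orderOf_dvd_natCard (⟨z, mem_centralizer_singleton_iff.2 h1⟩ : centralizer ({x} : Set G))
  rwa [Subgroup.orderOf_mk, hz] at h2

/-- a self-centralising element of order `p ≥ 7` -/
theorem Sm.of_card (hp : p.Prime) (hp7 : 7 ≤ p) {x : G} (h : Nat.card (centralizer ({x} : Set G)) = p)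
    (hG : p ^ 3 < Nat.card G) : Sm p x := by
  refine ⟨?_, ?_⟩
  · rw [h]
    intro h1
    have hpf := Fact.mk hp
    have h2 : (16 : ZMod p) ^ p = 1 := by
      have := (ZMod.natCast_eq_natCast_iff _ _ _).2 h1
      push_cast at this
      exact this
    rw [ZMod.pow_card] at h2
    have h3 : ((15 : ℕ) : ZMod p) = 0 := by
      push_cast
      have : (15 : ZMod p) = 16 - 1 := by norm_num
      rw [this, h2, sub_self]
    rw [ZMod.natCast_eq_zero_iff] at h3
    have h4 : p ∣ 3 * 5 := h3
    rcases hp.dvd_mul.1 h4 with h5 | h5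
    · have := Nat.le_of_dvd (by norm_num) h5; omega
    · have := Nat.le_of_dvd (by norm_num) h5; omega
  · rw [h]
    have h1 : p + (p - 1) * p = p * p := by
      obtain ⟨q, rfl⟩ : ∃ q, p = q + 1 := ⟨p - 1, by omega⟩
      rw [Nat.add_sub_cancel]
      ring
    rw [h1]
    calc p ^ 2 * (p * p) = p * p ^ 3 := by ring
      _ < p * Nat.card G := Nat.mul_lt_mul_of_pos_left hG hp.pos

theorem Facts.self (hp : p.Prime) (hp7 : 7 ≤ p)
    (h : ∀ x : G, orderOf x = p → Nat.card (centralizer ({x} : Set G)) = p) (hG : p ^ 3 < Nat.card G) : Facts p G :=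
  fun x hx => Or.inr (Or.inl (Sm.of_card hp hp7 (h x hx) hG))

theorem Facts.even [Finite G] (h : ∀ x : G, orderOf x = p → 2 ∣ Nat.card (centralizer ({x} : Set G))) : Facts p G :=
  fun x hx => Or.inl (Ev.of_even (h x hx))

/-- numerical version for a given centraliser order -/
theorem Sm.of_eq {c N : ℕ} {x : G} (h : Nat.card (centralizer ({x} : Set G)) = c) (hN : Nat.card G = N)
    (h1 : 16 ^ c % p ≠ 1 % p) (h2 : c ^ 2 * (p + (c - 1) * c) < p * N) : Sm p x := by
  unfold Sm
  rw [h, hN]
  exact ⟨h1, h2⟩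

theorem Iv.of_le {b c N : ℕ} {x : G} (h : Nat.card (centralizer ({x} : Set G)) ≤ c)
    (hz : ∀ z : G, orderOf z = 2 → Nat.card (centralizer ({z} : Set G)) ≤ b) (hN : Nat.card G = N)
    (k : ℕ) (hk : p ∣ 4 ^ k + 1) (h2 : c ^ 2 * (1 + b) < N) : Iv p x := by
  refine ⟨⟨k, hk⟩, fun z hz' => ?_⟩
  rw [hN]
  refine lt_of_le_of_lt ?_ h2
  exact Nat.mul_le_mul (Nat.pow_le_pow_left h 2) (Nat.add_le_add_left (hz z hz') 1)

theorem Facts.congr {H : Type v} [Group H] (e : G ≃* H) (h : Facts p G) : Facts p H := by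
  have hc : ∀ x : H, Nat.card (centralizer ({e.symm x} : Set G)) = Nat.card (centralizer ({x} : Set H)) := by
    intro x
    refine Nat.card_congr
      { toFun := fun y => ⟨e y, ?_⟩
        invFun := fun y => ⟨e.symm y, ?_⟩
        left_inv := fun y => Subtype.ext (e.symm_apply_apply _)
        right_inv := fun y => Subtype.ext (e.apply_symm_apply _) }
    · have h1 := mem_centralizer_singleton_iff.1 y.2
      rw [mem_centralizer_singleton_iff]
      have h2 := congrArg e h1
      rwa [map_mul, map_mul, MulEquiv.apply_symm_apply] at h2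
    · have h1 := mem_centralizer_singleton_iff.1 y.2
      rw [mem_centralizer_singleton_iff, ← map_mul, h1, map_mul]
  intro x hx
  rcases h (e.symm x) (by rw [MulEquiv.orderOf_eq, hx]) with ⟨z, hz, h1⟩ | h1 | ⟨hk, h1⟩
  · left
    refine ⟨e z, by rw [MulEquiv.orderOf_eq, hz], ?_⟩
    have := congrArg e h1
    rwa [map_mul, map_mul, MulEquiv.apply_symm_apply] at this
  · right; left
    unfold Sm at h1 ⊢
    rwa [hc, Nat.card_congr e.toEquiv] at h1
  · right; right
    refine ⟨hk, fun z hz => ?_⟩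
    have h2 := h1 (e.symm z) (by rw [MulEquiv.orderOf_eq, hz])
    rwa [hc, hc, Nat.card_congr e.toEquiv] at h2

end

/-- **the kill from the facts** -/
theorem kill_of_facts {p : ℕ} (hp : p.Prime) (hp5 : 5 ≤ p) {G : Type u} [Group G] [Finite G] [IsSimpleGroup G]
    (hna : ¬ IsMulCommutative G)
    (hinv : ∀ z : G, orderOf z = 2 → ∀ A : Subgroup G, Pr p A → ¬ A ≤ centralizer ({z} : Set G))
    (hF : Facts p G) : Kill p G := by
  intro A hA
  obtain ⟨x, hxA, hxo, hAx⟩ := exists_gen hp hA.card
  obtain ⟨g₀, hg₀⟩ := hA.exists_noncomm_simple hp hp5 (fun h => hna ⟨⟨h⟩⟩)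
  have hc : centralizer (A : Set G) = centralizer ({x} : Set G) := by rw [hAx]; exact centralizer_zpowers x
  rcases hF x hxo with ⟨z, hz, h1⟩ | ⟨h1, h2⟩ | ⟨⟨k, hk⟩, h2⟩
  · refine hinv z hz A hA ?_
    rw [hAx, zpowers_le]
    exact mem_centralizer_singleton_iff.2 h1.symm
  · rw [← hc] at h1 h2
    have h3 := count_small hp hp5 hA hg₀ h1
    omega
  · obtain ⟨z, hz, h3⟩ := count_inv hp hp5 hA hg₀ hk
    have h4 := h2 z hz
    rw [hc] at h3
    omega

/-- without components: no element of order `p` of `G` commutes with an involution -/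
theorem kill_of_odd {p : ℕ} (hp : p.Prime) (hp5 : 5 ≤ p) {G : Type u} [Group G] [Finite G] [IsSimpleGroup G]
    (hna : ¬ IsMulCommutative G) (hF : ∀ x : G, orderOf x = p → Sm p x ∨ Iv p x) : Kill p G := by
  intro A hA
  obtain ⟨x, hxA, hxo, hAx⟩ := exists_gen hp hA.card
  obtain ⟨g₀, hg₀⟩ := hA.exists_noncomm_simple hp hp5 (fun h => hna ⟨⟨h⟩⟩)
  have hc : centralizer (A : Set G) = centralizer ({x} : Set G) := by rw [hAx]; exact centralizer_zpowers x
  rcases hF x hxo with ⟨h1, h2⟩ | ⟨⟨k, hk⟩, h2⟩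
  · rw [← hc] at h1 h2
    have h3 := count_small hp hp5 hA hg₀ h1
    omega
  · obtain ⟨z, hz, h3⟩ := count_inv hp hp5 hA hg₀ hk
    have h4 := h2 z hz
    rw [hc] at h3
    omega

end Cfsg.Agent.H33.Tor
end
end
end
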