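import Cfsg.Agent.H33.Tor.Facts
import Cfsg.Agent.H516.GoodSpor
import Cfsg.Agent.H291.RowsI
import Cfsg.Agent.M23.Sylow23
import Cfsg.Agent.H954.OutAllD
import Cfsg.Agent.H461.T5.Cube
import Cfsg.Agent.H573.Spor.HSFive_m3
import Cfsg.Agent.H573.Spor.McLFive
import Cfsg.Agent.H647.SpF.HSMcL
import Cfsg.Agent.H757.WkHSThree
import Cfsg.Agent.CoOneType.CoAp
import Cfsg.Agent.CoOneType.CoQZ
import Cfsg.Agent.CoOneType.CoW
import Cfsg.Agent.H71.Tor.JTwo
import Cfsg.Agent.H305.SepJ1
import Cfsg.Agent.H898.J3Cent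
import Cfsg.Agent.H463.Tor.TorM
import Cfsg.Agent.H603.SporElim
import Cfsg.Agent.H19.Odd.HeEl7
import Cfsg.Agent.LieClassical.SmallIso
import Cfsg.Agent.Held.HeldCardEq_m3
import Cfsg.Agent.H723.Spor.JFour
import Cfsg.Agent.H633.ElJ4
import Cfsg.Agent.J2.HundredGens
import Cfsg.Agent.J2Sylow.SporSylow
import Cfsg.Agent.S0276
import Cfsg.Agent.H296.Fr.RowRu
import Cfsg.Agent.H461.T5.Ru
import Cfsg.Agent.H493.Sep.RowLy_m3
import Cfsg.Agent.SporRec.LyG2.LyEmb
import Cfsg.Agent.Ly.IndexEq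
import Cfsg.Agent.TypeM.FactsAut
import Cfsg.Agent.KFacts.ON.Words_m3
import Cfsg.Agent.H19.Odd.ON
import Cfsg.Agent.H968.Tor.FiFour
import Cfsg.Agent.H14.Tor.FactsHe
import Cfsg.Agent.Lib.DivFast
import Cfsg.Agent.H103.Tor.Iface
import Cfsg.Agent.H536.T5.HNRow
import Cfsg.Agent.SigZeroHN.Main
import Cfsg.Agent.H845.HNNineteen
import Cfsg.Agent.HN.TwoClasses
import Cfsg.Agent.H502.TO.Main
import Cfsg.Agent.H723.Spor.Th
import Cfsg.Agent.H874.Tor.Tools
import Cfsg.Agent.H874.Tor.SuzFive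
import Cfsg.Agent.H812.SuzSeven_m3
import Cfsg.Agent.H265.SuzCent
import Cfsg.Agent.H874.Tor.CoOneSeven
import Cfsg.Agent.H874.Tor.CoTwoThree
import Cfsg.Agent.CoOneType.Thirteen
import Cfsg.Agent.KFacts.Baby.RowB_m3
import Cfsg.Agent.H792.Sp.BFive
import Cfsg.Agent.H609.Inv.Base
import Cfsg.Agent.S2540
import Cfsg.Agent.H609.T5.MMidFive
import Cfsg.Agent.H800.ME.Final
import Cfsg.Agent.Schreier.MTwelve
import Cfsg.Agent.FastGrp
import Cfsg.Agent.Prune
set_option linter.all false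

section
prune_inst 0x7ffcbdf9afb82ddeffff7e7fffd9dffe1994dfffafdff94bffecebff3fff230649c56bad8de0d0fe1ef6e23410b87853f9ffceffe36bdc7ffffd5ff45ffbee5ff7ffbd0c51d6a8341ffe6ffffbf07f8e7f3fffffffffffffffffffffffffffbeffbfffffffff

-- part: H33/Tor/Inv_mg
section
set_option linter.all false
open scoped Cfsg.Agent.FastGrp

-- part: H33/Tor/Inv
section
/-!
# S3235: no subgroup with `Pr` centralises an involution of a sporadic group (helper33)

* `IHyp p G` : the rows of the smaller simple groups;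
* `no_inv` : if `G` is sporadic and `A` has `Pr p` then `A` centralises no involution, except possibly `p = 5` and
  `G = M₁₂`, `J₁` or `J₂`.
-/

set_option autoImplicit false

namespace Cfsg.Agent.H33.Tor

open Subgroup Cfsg Cfsg.Agent.H103.Tor
open Cfsg.Agent.H287 Cfsg.Agent.NotCT Cfsg.Agent.CTwoTab
open Cfsg.Agent.SignalizersComponents.Components

universe u v w

/-- the rows of the smaller simple groups -/
def IHyp (p : ℕ) (G : Type u) [Group G] : Prop :=
  ∀ (K : Type u) [Group K] [Finite K] [IsSimpleGroup K], Nat.card K < Nat.card G →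
    (¬ ∀ x y : K, x * y = y * x) → H103.Tor.Row p K

theorem quot_na {K : Type u} [Group K] (hK : IsQuasisimple K) : ¬ IsMulCommutative (K ⧸ center K) := by
  intro hc
  have hf : Group.IsNilpotent (K ⧸ Subgroup.center K) := open scoped IsMulCommutative in inferInstance
  have h3 : Group.IsNilpotent K := Group.of_quotient_center_nilpotent hf
  exact quasisimple_not_isSolvable hK inferInstance

theorem IHyp.quasi {p : ℕ} {G : Type u} [Group G] [Finite G] (ih : IHyp p G) {K : Subgroup G} (hK' : K ≠ ⊤)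
    (hK : IsQuasisimple K) : H103.Tor.Row p (K ⧸ center K) := by
  have hs : IsSimpleGroup (K ⧸ center K) := hK.2
  refine ih _ ?_ (fun hc => quot_na hK ⟨⟨hc⟩⟩)
  calc Nat.card (K ⧸ Subgroup.center K) ≤ Nat.card K := Nat.card_le_card_of_surjective _ QuotientGroup.mk_surjective
    _ < Nat.card G := by
      refine lt_of_le_of_ne (Subgroup.card_le_card_group K) fun h => hK' ?_
      exact (Subgroup.card_eq_iff_eq_top K).1 h

/-- a component of a subgroup is quasisimple -/
theorem quasi_of_component {G : Type u} [Group G] {K H : Subgroup G} (hK : IsComponentOf K H) : IsQuasisimple K :=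
  isQuasisimple_of_mulEquiv (Subgroup.subgroupOfEquivOfLe hK.1) hK.2.2

section

variable {p : ℕ} {G : Type u} [Group G] [Finite G] [IsSimpleGroup G]

omit [IsSimpleGroup G] in
theorem pCore_centralizer (hp : p.Prime) (hp5 : 5 ≤ p) (h : IsSporadicGroup G ∨ Lie.IsoTits G) {z : G}
    (hz : orderOf z = 2) : pCore p (centralizer ({z} : Set G)) = ⊥ :=
  H516.pCore_eq_bot_of_core hp (by omega) (H516.core_of_spor h z hz)

/-- `A` centralises no involution if the components of the involution centralisers have orders excluding the target -/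
theorem no_inv_of_forall (hp : p.Prime) (hp5 : 5 ≤ p) (h : IsSporadicGroup G ∨ Lie.IsoTits G) (ih : IHyp p G)
    {z : G} (hz : orderOf z = 2)
    (hK : ∀ K : Subgroup G, IsComponentOf K (centralizer ({z} : Set G)) →
      ¬ Target p (K ⧸ center K)) {A : Subgroup G} (hA : Pr p A) : ¬ A ≤ centralizer ({z} : Set G) := by
  refine not_le_centralizer hp hp5 hA (pCore_centralizer hp hp5 h hz) fun K hKc B hB => ?_
  refine hK K hKc (ih.quasi ?_ (quasi_of_component hKc) B hB)
  intro hK'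
  have hc : center G = ⊥ := OddHalf.Soft.center_eq_bot (H516.not_comm_of_spor h)
  have h1 : centralizer ({z} : Set G) = ⊤ := top_le_iff.1 (hK' ▸ hKc.1)
  have h2 : z ∈ center G := by
    rw [mem_center_iff]
    intro g
    exact mem_centralizer_singleton_iff.1 (h1 ▸ mem_top g)
  rw [hc, mem_bot] at h2
  rw [h2, orderOf_one] at hz
  omega

theorem no_inv_of_compCard (hp : p.Prime) (hp5 : 5 ≤ p) (h : IsSporadicGroup G ∨ Lie.IsoTits G) (ih : IHyp p G)
    {S : ℕ → ℕ → Prop} (hS : CompCard S G) (hok : ∀ a b, S a b → Ok b) {z : G} (hz : orderOf z = 2)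
    {A : Subgroup G} (hA : Pr p A) : ¬ A ≤ centralizer ({z} : Set G) := by
  refine no_inv_of_forall hp hp5 h ih hz (fun K hK hT => ?_) hA
  have h1 := Target.card_lt hp hT
  have h2 := hok _ _ (hS z hz K hK) p hp hp5
  omega

end

/-- `|Aut G| < |G|²` -/
theorem card_mulAut_lt {G : Type u} [Group G] [Finite G] [IsSimpleGroup G] (hna : ¬ IsMulCommutative G)
    (hK : IsKnownSimple' G) : Nat.card (MulAut G) < Nat.card G ^ 2 := by
  obtain ⟨χ, hχ⟩ := H685.Acd.exists_nonlinear hna
  have h1 := H954.OutAllD.od hna hK χ hχ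
  have h2 := M23.Sylow23.degree_sq_le χ
  have h3 : Nat.card (MulAut G) = Nat.card (Cfsg.Out G) * Nat.card (Inn G) :=
    Subgroup.card_eq_card_quotient_mul_card_subgroup _
  have h4 : Nat.card (Inn G) ≤ Nat.card G :=
    Nat.card_le_card_of_surjective (MulAut.conj : G →* MulAut G).rangeRestrict
      (MulAut.conj : G →* MulAut G).rangeRestrict_surjective
  have h5 : 0 < Nat.card G := Nat.card_pos
  rw [h3, pow_two]
  calc Nat.card (Cfsg.Out G) * Nat.card (Inn G) ≤ Nat.card (Cfsg.Out G) * Nat.card G := Nat.mul_le_mul_left _ h4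
    _ < Nat.card G * Nat.card G := Nat.mul_lt_mul_of_pos_right (h1.trans_le h2) h5

/-- the 7-part and 5-part of the order of `²E₆(2)` -/
theorem e6_part {q f : ℕ} (hq : q.Prime) (hq5 : 5 ≤ q) (h : q ^ f ∣ 76532479683774853939200) : q ^ f ≤ 49 := by
  have h1 : (q ^ f) ^ 3 ≤ 49 ^ 3 := by
    rcases Nat.eq_zero_or_pos f with rfl | hf
    · norm_num
    have key : ∀ M : ℕ, M ≠ 0 → ∀ l : List ℕ, chk (49 ^ 3) M l = true → q ^ f ∣ M → (q ^ f) ^ 3 ≤ 49 ^ 3 :=
      fun M hM l hl hd => chk_spec (by norm_num) l M hM hl q f hq hq5 hd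
    exact key _ (by norm_num) [25, 49, 11, 13, 17, 19] (by decide +kernel) h
  by_contra hcon
  push Not at hcon
  have := Nat.pow_lt_pow_left hcon (by norm_num : (3 : ℕ) ≠ 0)
  omega

/-- the components of the involution centralisers of the Baby Monster -/
theorem comp_b {p : ℕ} (hp : p.Prime) (hp5 : 5 ≤ p) {X : Type u} [Group X] [Finite X] (h : Spor.IsoB X)
    (hcl : ∀ (L : Type u) [Group L] [Finite L] [IsSimpleGroup L], IsKnownSimple' L)
    {z : X} (hz : orderOf z = 2) {K : Subgroup X} (hK : IsComponentOf K (centralizer ({z} : Set X))) :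
    ¬ Target p (K ⧸ center K) := by
  intro hT
  obtain ⟨K4, _, _, hK4⟩ := H291.BabyTab.exists_field
  obtain ⟨f⟩ := h
  have h1 := isComponentOf_map f hK
  rw [map_centralizer_singleton] at h1
  have h2 := (H291.BabyTab.table K4 hK4 (f z) (by rw [MulEquiv.orderOf_eq, hz]) _ h1).congr (subMap f K).symm
  have : Finite (Lie.twistedE6 K4 2) :=
    Nat.finite_of_card_ne_zero (by rw [H291.BabyTab.card_E K4 hK4]; norm_num)
  have hE : center (Lie.twistedE6 K4 2) = ⊥ := CpAut.TwoInner.center_eq_bot_of_card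
    (MonsterN.EInst.isSimple K4 hK4) (by rw [H291.BabyTab.card_E K4 hK4]; norm_num)
  have hq := quasi_of_component hK
  have hs : IsSimpleGroup (K ⧸ center K) := hq.2
  have h3 := h2.cases hE (MulEquiv.refl (↥K ⧸ center ↥K))
  rw [H291.BabyTab.card_E K4 hK4] at h3
  have h4 := Target.card_lt hp hT
  rcases h3 with h3 | ⟨h3, h5⟩
  · rw [h3] at h4
    have h6 : Ok 76532479683774853939200 := ok_of_chk [25, 49, 11, 13, 17, 19] (by norm_num) (by decide +kernel)
    have := h6 p hp hp5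
    omega
  · have h6 := e6_part hp hp5 ((Nat.ordProj_dvd (Nat.card (K ⧸ center K)) p).trans h3)
    have h7 := Nat.pow_le_pow_left h6 3
    have h8 := card_mulAut_lt (quot_na hq) (hcl (K ⧸ center K))
    have h9 : Nat.card (K ⧸ center K) ^ 2 ≤ (49 ^ 3) ^ 2 := Nat.pow_le_pow_left (h4.le.trans h7) 2
    omega

/-- **No subgroup with `Pr` centralises an involution of a sporadic group**, except possibly for `p = 5` and
`M₁₂`, `J₁`, `J₂`. -/
theorem no_inv {p : ℕ} (hp : p.Prime) (hp5 : 5 ≤ p) {G : Type u} [Group G] [Finite G] [IsSimpleGroup G]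
    (hcl : ∀ (L : Type u) [Group L] [Finite L] [IsSimpleGroup L], IsKnownSimple' L)
    (ih : IHyp p G) (h : IsSporadicGroup G) (hex : p = 5 → ¬ (Spor.IsoM12 G ∨ Spor.IsoJ1 G ∨ Spor.IsoJ2 G))
    {z : G} (hz : orderOf z = 2) {A : Subgroup G} (hA : Pr p A) : ¬ A ≤ centralizer ({z} : Set G) := by
  have hc : center G = ⊥ := OddHalf.Soft.center_eq_bot (H516.not_comm_of_spor (Or.inl h))
  have row : ∀ {S : ℕ → ℕ → Prop}, CompCard S G → (∀ a b, S a b → Ok b) → ¬ A ≤ centralizer ({z} : Set G) :=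
    fun hS hok => no_inv_of_compCard hp hp5 (Or.inl h) ih hS hok hz hA
  have fix : ∀ {S : ℕ → ℕ → Prop}, FixCard S G → (∀ a b, S a b → Ok b) → ¬ A ≤ centralizer ({z} : Set G) :=
    fun hS hok => row (hS.compCard hc) hok
  have o60 : p ≠ 5 → (60 : ℕ) < (ordProj[p] 60) ^ 3 → False := by
    intro h5 h6
    have h7 : ¬ p ∣ 60 := by
      intro h8
      have h9 : p ∣ 2 * 2 * 3 * 5 := by norm_num; exact h8
      rcases hp.dvd_mul.1 h9 with h10 | h10
      · rcases hp.dvd_mul.1 h10 with h11 | h11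
        · rcases hp.dvd_mul.1 h11 with h12 | h12 <;>
          · have := Nat.le_of_dvd (by norm_num) h12; omega
        · have := Nat.le_of_dvd (by norm_num) h11; omega
      · have := Nat.le_of_dvd (by norm_num) h10; omega
    rw [Nat.factorization_eq_zero_of_not_dvd h7] at h6
    norm_num at h6
  have r60 : ∀ {S : ℕ → ℕ → Prop}, p ≠ 5 → CompCard S G → (∀ a b, S a b → b = 60) →
      ¬ A ≤ centralizer ({z} : Set G) := by
    intro S h5 hS hok
    refine no_inv_of_forall hp hp5 (Or.inl h) ih hz (fun K hK hT => ?_) hA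
    have h1 := Target.card_lt hp hT
    rw [hok _ _ (hS z hz K hK)] at h1
    exact o60 h5 h1
  have h20160 : Ok 20160 := ok_of_chk [5, 7] (by norm_num) (by decide +kernel)
  have hu6 : Ok 9196830720 := ok_of_chk [5, 7, 11] (by norm_num) (by decide +kernel)
  have hfi : Ok 64561751654400 := ok_of_chk [25, 7, 11, 13] (by norm_num) (by decide +kernel)
  rcases h with h | h | h | h | h | h | h | h | h | h | h | h | h | h | h | h | h | h | h | h | h | h | h | h | h | h
  · exact fix (fix_m11 h) (fun _ _ h => h.elim)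
  · exact r60 (fun h5 => hex h5 (Or.inl h)) (compCard_m12 h) (fun a b h => h.2)
  · exact row (compCard_m22 h) (fun _ _ h => h.elim)
  · exact fix (fix_m23 h) (fun _ _ h => h.elim)
  · exact fix (fix_m24 h) (fun _ _ h => h.elim)
  · exact r60 (fun h5 => hex h5 (Or.inr (Or.inl h))) (compCard_j1 h) (fun a b h => h.2)
  · exact r60 (fun h5 => hex h5 (Or.inr (Or.inr h))) (compCard_j2 h) (fun a b h => h.2)
  · exact row (compCard_j3 h) (fun _ _ h => h.elim)
  · exact fix (fix_j4 h) (fun _ _ h => h.elim)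
  · refine fix (fix_co1 h) (fun a b h => ?_)
    rw [h.2]
    exact ok_of_chk [25, 7, 13] (by norm_num) (by decide +kernel)
  · exact fix (fix_co2 h) (fun _ _ h => h.elim)
  · refine fix (fix_co3 h) (fun a b h => ?_)
    rcases h with h | h
    · rw [h.2]; exact ok_of_chk [5, 7] (by norm_num) (by decide +kernel)
    · rw [h.2]; exact ok_of_chk [5, 11] (by norm_num) (by decide +kernel)
  · refine row (TwoAlt.compCard_mcl h) (fun a b h => ?_)
    rw [h.2]; exact h20160
  · refine row (compCard_hs h) (fun a b h => ?_)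
    rw [h.2]; exact ok_of_chk [5] (by norm_num) (by decide +kernel)
  · refine row (compCard_suz h) (fun a b h => ?_)
    rw [h.2]; exact h20160
  · refine row (compCard_he h) (fun a b h => ?_)
    rw [h.2]; exact h20160
  · refine row (compCard_ru h) (fun a b h => ?_)
    rw [h.2]; exact ok_of_chk [5, 7, 13] (by norm_num) (by decide +kernel)
  · refine row (InnON.compCard h) (fun a b h => ?_)
    rw [h.2]; exact h20160
  · refine row (TwoAlt.compCard_ly h) (fun a b h => ?_)
    rw [h.2]; exact ok_of_chk [25, 7, 11] (by norm_num) (by decide +kernel)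
  · refine row (compCard_fi22 h) (fun a b h => ?_)
    rw [h.2]; exact hu6
  · refine fix (fix_fi23 h) (fun a b h => ?_)
    rcases h with h | h
    · rw [h.2]; exact hfi
    · rw [h.1]; exact hu6
  · refine row (compCard_fi24 h) (fun a b h => ?_)
    rw [h.2]; exact hfi
  · refine row (compCard_hn h) (fun a b h => ?_)
    rw [h.2]; exact ok_of_chk [125, 7, 11] (by norm_num) (by decide +kernel)
  · exact fix (fix_th h) (fun _ _ h => h.elim)
  · exact no_inv_of_forall hp hp5 (Or.inl (by unfold IsSporadicGroup; simp only [h, true_or, or_true])) ih hz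
      (fun K hK => comp_b hp hp5 h hcl hz hK) hA
  · refine fix (fix_m h) (fun a b h => ?_)
    rw [h.2]
    exact ok_of_chk [15625, 49, 11, 13, 17, 19, 23, 31, 47] (by norm_num) (by decide +kernel)

end Cfsg.Agent.H33.Tor
end

-- part: H14/Tor/Cube
section
/-!
# S3235: the central elements of order `p` of a Sylow subgroup of order `p ^ 3` (helper14)
-/

set_option autoImplicit false

namespace Cfsg.Agent.H14.Tor

open Subgroup Cfsg.Agent.H33.Tor

universe u

variable {G : Type u} [Group G] [Finite G] {p : ℕ} [Fact p.Prime]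

theorem closure_facts (h4 : ¬ p ^ 4 ∣ Nat.card G) {a b c : G} (ha : a ^ p = 1) (hb : b ^ p = 1)
    (hc : c ^ p = 1) (hc1 : c ≠ 1) (hac : a * c = c * a) (hbc : b * c = c * b) (hab : a * b = b * a * c) :
    IsPGroup p (closure ({a, b} : Set G)) ∧ Nat.card (closure ({a, b} : Set G)) = p ^ 3 ∧
      ¬ ∀ u v : closure ({a, b} : Set G), u * v = v * u := by
  have hp : p.Prime := Fact.out
  obtain ⟨Q, hQ, haQ, hbQ⟩ := Cfsg.Agent.H573.exists_pgroup_of_class_two (p := p) (a := a) (b := b) (c := c) (i := 1) (j := 1)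
    (k := 1) (by rw [pow_one, ha]) (by rw [pow_one, hb]) (by rw [pow_one, hc]) hac hbc hab
  have hle : _root_.Subgroup.closure ({a, b} : Set G) ≤ Q := by
    rw [closure_le]
    rintro z (rfl | rfl)
    · exact haQ
    · exact hbQ
  have hP : IsPGroup p (closure ({a, b} : Set G)) := hQ.to_le hle
  have hna : ¬ ∀ u v : closure ({a, b} : Set G), u * v = v * u := by
    intro hcomm
    have h1 := congrArg Subtype.val (hcomm ⟨a, _root_.Subgroup.subset_closure (by simp)⟩ ⟨b, _root_.Subgroup.subset_closure (by simp)⟩)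
    change a * b = b * a at h1
    rw [hab] at h1
    exact hc1 (mul_eq_left.1 h1)
  obtain ⟨n, hn⟩ := IsPGroup.iff_card.1 hP
  have hn3 : 3 ≤ n := by
    by_contra hlt
    have hn2 : n ≤ 2 := by omega
    apply hna
    interval_cases n
    · have h1 : Subsingleton (closure ({a, b} : Set G)) := (Nat.card_eq_one_iff_unique.1 (by simpa only [_root_.Subgroup.card_eq_one, _root_.Subgroup.closure_eq_bot_iff, _root_.Set.subset_singleton_iff, _root_.Set.mem_insert_iff, _root_.Set.mem_singleton_iff, _root_.forall_eq_or_imp, _root_.forall_eq, _root_.pow_zero] using hn)).1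
      exact fun u v => Subsingleton.elim _ _
    · have h1 : IsCyclic (closure ({a, b} : Set G)) := isCyclic_of_prime_card (p := p) (by simpa only [_root_.pow_one] using hn)
      let _ := IsCyclic.commGroup (α := (closure ({a, b} : Set G)))
      exact fun u v => mul_comm u v
    · exact fun u v => (IsPGroup.isMulCommutative_of_card_eq_prime_sq hn).1.1 u v
  have hn4 : n < 4 := by
    by_contra hge
    apply h4
    exact (pow_dvd_pow p (not_lt.1 hge)).trans (hn ▸ card_subgroup_dvd_card _)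
  refine ⟨hP, ?_, hna⟩
  rw [hn]
  congr 1
  omega

/-- an element with centralizer of order divisible by `p ^ 3` is conjugate to a power of `c` -/
theorem exists_conj_pow (h4 : ¬ p ^ 4 ∣ Nat.card G) {a b c : G} (ha : a ^ p = 1) (hb : b ^ p = 1)
    (hc : c ^ p = 1) (hc1 : c ≠ 1) (hac : a * c = c * a) (hbc : b * c = c * b) (hab : a * b = b * a * c)
    {x : G} (hx : orderOf x = p) (h3 : p ^ 3 ∣ Nat.card (centralizer ({x} : Set G))) :
    ∃ (g : G) (k : ℕ), g * x * g⁻¹ = c ^ k := by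
  have hp : p.Prime := Fact.out
  obtain ⟨hK, hKc, hna⟩ := closure_facts h4 ha hb hc hc1 hac hbc hab
  set K := _root_.Subgroup.closure ({a, b} : Set G) with hKdef
  -- a Sylow subgroup of the centralizer
  let R : Sylow p (centralizer ({x} : Set G)) := default
  have hR4 : ¬ p ^ 4 ∣ Nat.card (centralizer ({x} : Set G)) := fun h => h4 (h.trans (card_subgroup_dvd_card _))
  have hRc : Nat.card (R : Subgroup (centralizer ({x} : Set G))) = p ^ 3 := Cfsg.Agent.H573.card_sylow_of R h3 hR4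
  have hxC : x ∈ centralizer ({x} : Set G) := mem_centralizer_singleton_iff.2 rfl
  let x' : centralizer ({x} : Set G) := ⟨x, hxC⟩
  have hxc : ∀ y : centralizer ({x} : Set G), x' * y = y * x' := fun y =>
    Subtype.ext (mem_centralizer_singleton_iff.1 y.2).symm
  have hxR : x' ∈ (R : Subgroup (centralizer ({x} : Set G))) := by
    have h1 : IsPGroup p (zpowers x') := by
      refine IsPGroup.of_card (n := 1) ?_
      rw [Nat.card_zpowers, pow_one, ← hx]
      exact Subgroup.orderOf_mk _ _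
    have h2 : (zpowers x').Normal := by
      refine ⟨fun y hy g => ?_⟩
      obtain ⟨k, rfl⟩ := mem_zpowers_iff.1 hy
      have h3 : g * x' ^ k * g⁻¹ = x' ^ k := by
        have h4 : Commute (x' ^ k) g := Commute.zpow_left (hxc g) k
        rw [← h4.eq, mul_inv_cancel_right]
      rw [h3]
      exact zpow_mem (mem_zpowers x') k
    exact (h1.le_sylow_of_normal R) (mem_zpowers x')
  let R' : Subgroup G := (R : Subgroup (centralizer ({x} : Set G))).map (centralizer ({x} : Set G)).subtype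
  have hR' : IsPGroup p R' := R.isPGroup'.map _
  have hR'c : Nat.card R' = p ^ 3 := (Subgroup.card_subtype _ _).trans hRc
  have hxR' : x ∈ R' := ⟨x', hxR, rfl⟩
  have hcR' : ∀ y ∈ R', y * x = x * y := by
    rintro _ ⟨y, -, rfl⟩
    exact mem_centralizer_singleton_iff.1 y.2
  -- conjugation into `K`
  obtain ⟨S, hS⟩ := hK.exists_le_sylow
  obtain ⟨S', hS'⟩ := hR'.exists_le_sylow
  have hcardS : ∀ T : Sylow p G, Nat.card (T : Subgroup G) ≤ p ^ 3 := by
    intro T
    obtain ⟨n, hn⟩ := IsPGroup.iff_card.1 T.isPGroup'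
    rw [hn]
    apply Nat.pow_le_pow_right hp.pos
    by_contra hge
    apply h4
    exact (pow_dvd_pow p (by omega)).trans (hn ▸ card_subgroup_dvd_card _)
  have e1 : K = S := eq_of_le_of_card_ge hS (by rw [hKc]; exact hcardS S)
  have e2 : R' = S' := eq_of_le_of_card_ge hS' (by rw [hR'c]; exact hcardS S')
  obtain ⟨g, hg⟩ := MulAction.exists_smul_eq G S' S
  have hmem : ∀ y ∈ R', g * y * g⁻¹ ∈ K := by
    intro y hy
    rw [e1, ← hg, Sylow.coe_subgroup_smul]
    rw [e2] at hy
    exact ⟨y, hy, rfl⟩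
  have hmem' : ∀ y ∈ K, g⁻¹ * y * g ∈ R' := by
    intro y hy
    rw [e1, ← hg, Sylow.coe_subgroup_smul] at hy
    obtain ⟨z, hz, hzy⟩ := hy
    have hzy' : g * z * g⁻¹ = y := hzy
    have h1 : g⁻¹ * y * g = z := by rw [← hzy']; group
    rw [h1, e2]
    exact hz
  have hZ := Cfsg.Agent.H573.card_center_cube hKc hna
  have hcK : c ∈ K := by
    have h1 : c = (b * a)⁻¹ * (a * b) := by rw [hab]; group
    rw [h1]
    have ha' : a ∈ K := _root_.Subgroup.subset_closure (by simp)
    have hb' : b ∈ K := _root_.Subgroup.subset_closure (by simp)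
    exact mul_mem (inv_mem (mul_mem hb' ha')) (mul_mem ha' hb')
  have hcc : ∀ y ∈ K, y * c = c * y := by
    intro y hy
    have h1 : K ≤ centralizer ({c} : Set G) := by
      rw [hKdef, closure_le]
      rintro z (rfl | rfl)
      · exact mem_centralizer_singleton_iff.2 hac
      · exact mem_centralizer_singleton_iff.2 hbc
    exact mem_centralizer_singleton_iff.1 (h1 hy)
  let c' : center K := ⟨⟨c, hcK⟩, mem_center_iff.2 fun y => Subtype.ext (hcc y y.2)⟩
  have hc' : c' ≠ 1 := fun h => hc1 (congrArg (fun z : center K => ((z : K) : G)) h)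
  have hpr : Fact (Nat.Prime (Nat.card (center K))) := ⟨by rw [hZ]; exact hp⟩
  have hz : zpowers c' = ⊤ := zpowers_eq_top_of_prime_card (p := Nat.card (center K)) rfl hc'
  let y' : center K := ⟨⟨g * x * g⁻¹, hmem x hxR'⟩, mem_center_iff.2 fun y => Subtype.ext (by
    show (y : G) * (g * x * g⁻¹) = g * x * g⁻¹ * (y : G)
    have h1 := hcR' _ (hmem' y y.2)
    calc (y : G) * (g * x * g⁻¹) = g * (g⁻¹ * (y : G) * g * x) * g⁻¹ := by group
      _ = g * (x * (g⁻¹ * (y : G) * g)) * g⁻¹ := by rw [h1]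
      _ = g * x * g⁻¹ * (y : G) := by group)⟩
  have hy' : y' ∈ zpowers c' := by rw [hz]; exact mem_top _
  obtain ⟨k, hk⟩ := mem_powers_iff_mem_zpowers.2 hy'
  refine ⟨g, k, ?_⟩
  exact (congrArg (fun z : center K => ((z : K) : G)) hk).symm

/-- an involution commuting with `c` -/
theorem ev_of_central (h4 : ¬ p ^ 4 ∣ Nat.card G) {a b c t : G} (ha : a ^ p = 1) (hb : b ^ p = 1)
    (hc : c ^ p = 1) (hc1 : c ≠ 1) (hac : a * c = c * a) (hbc : b * c = c * b) (hab : a * b = b * a * c)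
    (ht : orderOf t = 2) (htc : t * c = c * t)
    {x : G} (hx : orderOf x = p) (h3 : p ^ 3 ∣ Nat.card (centralizer ({x} : Set G))) : Ev x := by
  obtain ⟨g, k, hg⟩ := exists_conj_pow h4 ha hb hc hc1 hac hbc hab hx h3
  refine ⟨g⁻¹ * t * g, ?_, ?_⟩
  · have h1 := orderOf_injective (MulAut.conj g⁻¹).toMonoidHom (MulAut.conj g⁻¹).injective t
    rw [← ht, ← h1]
    simp only [_root_.map_inv, _root_.MulEquiv.toMonoidHom_eq_coe, _root_.MonoidHom.coe_coe, _root_.MulAut.inv_apply, _root_.MulAut.conj_symm_apply]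
  · have h1 : x = g⁻¹ * c ^ k * g := by rw [← hg]; group
    have h2 : t * c ^ k = c ^ k * t := (Commute.pow_right (show Commute t c from htc) k).eq
    rw [h1]
    calc g⁻¹ * t * g * (g⁻¹ * c ^ k * g) = g⁻¹ * (t * c ^ k) * g := by group
      _ = g⁻¹ * (c ^ k * t) * g := by rw [h2]
      _ = g⁻¹ * c ^ k * g * (g⁻¹ * t * g) := by group

/-- **the facts for a Sylow subgroup of order `p ^ 3`**, `4 ^ k ≡ -1 (mod p)` -/
theorem facts_of_central (h4 : ¬ p ^ 4 ∣ Nat.card G) {a b c t : G} (ha : a ^ p = 1) (hb : b ^ p = 1)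
    (hc : c ^ p = 1) (hc1 : c ≠ 1) (hac : a * c = c * a) (hbc : b * c = c * b) (hab : a * b = b * a * c)
    (ht : orderOf t = 2) (htc : t * c = c * t) {k m B N : ℕ} (hk : p ∣ 4 ^ k + 1) (hN : Nat.card G = N)
    (hz : ∀ z : G, orderOf z = 2 → Nat.card (centralizer ({z} : Set G)) ≤ B)
    (hm : ∀ x : G, orderOf x = p → Odd (Nat.card (centralizer ({x} : Set G))) →
      ¬ p ^ 3 ∣ Nat.card (centralizer ({x} : Set G)) → Nat.card (centralizer ({x} : Set G)) ≤ m)
    (hlt : m ^ 2 * (1 + B) < N) : Facts p G := by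
  intro x hx
  by_cases h2 : 2 ∣ Nat.card (centralizer ({x} : Set G))
  · exact Or.inl (Ev.of_even h2)
  by_cases h3 : p ^ 3 ∣ Nat.card (centralizer ({x} : Set G))
  · exact Or.inl (ev_of_central h4 ha hb hc hc1 hac hbc hab ht htc hx h3)
  · right; right
    exact Iv.of_le (hm x hx (Nat.not_even_iff_odd.1 fun h => h2 h.two_dvd) h3) hz hN k hk hlt

end Cfsg.Agent.H14.Tor
end

-- part: H14/Tor/InvData
section
/-!
# Involutions of `HS` and `McL` commuting with a central element of order 5 of a Sylow subgroup (helper14)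

Generated by a script; checked by the kernel.
-/

set_option autoImplicit false
set_option maxRecDepth 100000

namespace Cfsg.Agent.H14.Tor

open Cfsg Cfsg.Agent.SporadicA Cfsg.Agent.SporadicStructure.Co0Matrix Cfsg.Agent.CoOneType.CoEval
open Cfsg.Agent.LThreeCo1.Ev Cfsg.Agent.LThreeMB.Fix Cfsg.Agent.H573.Spor.Co0

namespace HSInv

open Cfsg.Agent.H573.Spor.HSFive

def nT : ℕ := 0xb425094210842108421094a1084a4e84a0e83a4e949d273a528425294210942d074210842108421073a10839d283a12839ce93a4e94a528425294210941d0b4210842108421073a10839d283a0e849d2949d2949d2842527421084a0e83a5273a5294a4e842527421083a0e84a5294a4e93a4e8424e9421084a12849d2939d274a4e8424e9421084a0e849d274a4e74a52841d29421083a1283a5274a52749d28424e9421084a0e84a4e93a52949d2841ce9421083a1284a52739d293a52841d29421083a1284a4e94a5274a4e841d27421084a1283a52949ce94a52841ce7421084a12849ce74a5293a528424e74210941d074210842108421075a10839d2941d0742108421084210b3a10839d284a1284a5293a4e739d2842527421084a1284a4e749ce949ce842529421084a12839d294a52939ce841d294210941d074210842108421073a10859d2941d074210842108421073a1083ad27425094210842108421094a1084a56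

theorem okT : okN nT = true := by exact Cfsg.Agent.CoOneType.CoQ.okz_of (by decide +kernel)

def gT : Co0 := mk (ok_of_okN okT)
theorem repT : _root_.Cfsg.Agent.CoOneType.CoEval.Rep gT (dec nT) := rep_mk _

/-- the elements -/
def e : ℕ → Co0
  | 0 => gT
  | _ => gC

/-- their matrices -/
def Ms : ℕ → List (List ℤ)
  | 0 => dec nT
  | _ => dec nC

theorem hM : ∀ i, _root_.Cfsg.Agent.CoOneType.CoEval.Rep (e i) (Ms i)
  | 0 => repT
  | _ + 1 => repC

theorem t_sq : gT ^ 2 = 1 := by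
  have h := eq_of_eqB hM (w := [0, 0]) (w' := []) (by (delta Cfsg.Agent.LThreeCo1.Ev.eqB; rewrite [Cfsg.Agent.CoOneType.CoW.of_eq Cfsg.Agent.LThreeCo1.Ev.foldZ_eq]; decide +kernel))
  simpa only [e, pow_succ, mul_assoc, _root_.pow_zero, _root_.one_mul, _root_.List.map_cons, _root_.List.map_nil, _root_.List.prod_cons, _root_.List.prod_nil, _root_.mul_one] using h
theorem t_ne : gT ≠ 1 := by
  have h := ne_of_neB' hM (w := [0]) (w' := []) (by (delta Cfsg.Agent.LThreeCo1.Ev.neB'; rewrite [Cfsg.Agent.CoOneType.CoW.of_eq Cfsg.Agent.LThreeCo1.Ev.foldZ_eq]; decide +kernel))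
  simpa [e, pow_succ, mul_assoc] using h
theorem tc : gT * gC = gC * gT := by
  have h := eq_of_eqB hM (w := [0, 1]) (w' := [1, 0]) (by (delta Cfsg.Agent.LThreeCo1.Ev.eqB; rewrite [Cfsg.Agent.CoOneType.CoW.of_eq Cfsg.Agent.LThreeCo1.Ev.foldZ_eq]; decide +kernel))
  simpa only [e, pow_succ, mul_assoc, _root_.List.map_cons, _root_.List.map_nil, _root_.List.prod_cons, _root_.List.prod_nil, _root_.mul_one] using h

theorem memT : gT.1 ∈ Spor.HS := mem_HS repT (by (rewrite [Cfsg.Agent.CoOneType.CoAp.ap_F]; decide +kernel)) (by (rewrite [Cfsg.Agent.CoOneType.CoAp.ap_F]; decide +kernel))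

end HSInv

namespace McLInv

open Cfsg.Agent.H573.Spor.McLFive

def nT : ℕ := 0xb4252842108421084a10942507421284a1093a5274a529425283a0e839d0941ce842108421083a10b41d09420e941d6842108421083a10741d09420e84a10939ce949d29424e84a1283a5083a1074a52749d29424e84a0e84a5084a1074a5293a527424e83a1283a5084a1074a52949ce941d284a12839d083a1093a52939d27425284a12849d084a10949d274a52741ce84a12849d084a1073a4e74a4e7425284a1284a5084a1094a4e949d2741d283a0e84a5084a10949d2739ce9425283a1284a50941ce842108421085a10741d09420e84a1094a4e93a4e9424e84a0e849d084a10739d293a52941d284a0e84a50942ce842108421083a10741d09420e83a10949d294a4e7425284a0e83a50941ce842108421083a10742d09420e83a1093a5294a4e941ce83a1284a5074252842108421084a1094250b421283a10749ce94a529425283a12849d083a1094a4e73a52941d284a1283a50941ce842108421083a10741d094216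

theorem okT : okN nT = true := by exact Cfsg.Agent.CoOneType.CoQ.okz_of (by decide +kernel)

def gT : Co0 := mk (ok_of_okN okT)
theorem repT : _root_.Cfsg.Agent.CoOneType.CoEval.Rep gT (dec nT) := rep_mk _

/-- the elements -/
def e : ℕ → Co0
  | 0 => gT
  | _ => gC

/-- their matrices -/
def Ms : ℕ → List (List ℤ)
  | 0 => dec nT
  | _ => dec nC

theorem hM : ∀ i, _root_.Cfsg.Agent.CoOneType.CoEval.Rep (e i) (Ms i)
  | 0 => repT
  | _ + 1 => repC

theorem t_sq : gT ^ 2 = 1 := by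
  have h := eq_of_eqB hM (w := [0, 0]) (w' := []) (by (delta Cfsg.Agent.LThreeCo1.Ev.eqB; rewrite [Cfsg.Agent.CoOneType.CoW.of_eq Cfsg.Agent.LThreeCo1.Ev.foldZ_eq]; decide +kernel))
  simpa only [e, pow_succ, mul_assoc, _root_.pow_zero, _root_.one_mul, _root_.List.map_cons, _root_.List.map_nil, _root_.List.prod_cons, _root_.List.prod_nil, _root_.mul_one] using h
theorem t_ne : gT ≠ 1 := by
  have h := ne_of_neB' hM (w := [0]) (w' := []) (by (delta Cfsg.Agent.LThreeCo1.Ev.neB'; rewrite [Cfsg.Agent.CoOneType.CoW.of_eq Cfsg.Agent.LThreeCo1.Ev.foldZ_eq]; decide +kernel))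
  simpa [e, pow_succ, mul_assoc] using h
theorem tc : gT * gC = gC * gT := by
  have h := eq_of_eqB hM (w := [0, 1]) (w' := [1, 0]) (by (delta Cfsg.Agent.LThreeCo1.Ev.eqB; rewrite [Cfsg.Agent.CoOneType.CoW.of_eq Cfsg.Agent.LThreeCo1.Ev.foldZ_eq]; decide +kernel))
  simpa only [e, pow_succ, mul_assoc, _root_.List.map_cons, _root_.List.map_nil, _root_.List.prod_cons, _root_.List.prod_nil, _root_.mul_one] using h

theorem memT : gT.1 ∈ Spor.McL := mem_McL repT (by (rewrite [Cfsg.Agent.CoOneType.CoAp.ap_F]; decide +kernel)) (by (rewrite [Cfsg.Agent.CoOneType.CoAp.ap_F]; decide +kernel))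

end McLInv

end Cfsg.Agent.H14.Tor
end

-- part: H14/Tor/FactsHS
section
/-!
# S3235: the facts for `HS` and `McL` (helper14)
-/

set_option autoImplicit false

namespace Cfsg.Agent.H14.Tor

open Subgroup Cfsg Cfsg.Agent.H33.Tor

universe u

/-- divisors -/
theorem le_of_dvd_375 {c : ℕ} (h : c ∣ 2 ^ 5 * 3 * 5 ^ 3) (hodd : Odd c) (h5 : ¬ 5 ^ 3 ∣ c) : c ≤ 75 := by
  have h1 : c ∣ 375 := by
    have h2 : c ∣ 2 ^ 5 * 375 := by
      have e : 2 ^ 5 * 375 = 2 ^ 5 * 3 * 5 ^ 3 := by norm_num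
      rw [e]; exact h
    have h3 : Nat.Coprime c (2 ^ 5) := (Nat.coprime_two_right.2 hodd).pow_right 5
    exact h3.dvd_of_dvd_mul_left h2
  have h4 : c ∈ Nat.divisors 375 := Nat.mem_divisors.2 ⟨h1, by norm_num⟩
  have h6 : ∀ c ∈ Nat.divisors 375, ¬ 5 ^ 3 ∣ c → c ≤ 75 := by decide +kernel
  exact h6 c h4 h5

/-- no elements of order `p` -/
theorem facts_of_not_dvd {p : ℕ} {G : Type u} [Group G] (h : ¬ p ∣ Nat.card G) : Facts p G :=
  fun x hx => absurd (hx ▸ _root_.orderOf_dvd_natCard x) h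

section Co0

variable {X : Subgroup (Equiv.Perm leechLattice)} {n : ℕ}

theorem val_pow {g : Co0} (h : g ^ n = 1) (hg : g.1 ∈ X) : (⟨g.1, hg⟩ : X) ^ n = 1 :=
  Subtype.ext (show g.1 ^ n = 1 from congrArg Subtype.val h)

theorem val_ne {g : Co0} (h : g ≠ 1) (hg : g.1 ∈ X) : (⟨g.1, hg⟩ : X) ≠ 1 := fun h' =>
  h (Subtype.ext (show g.1 = 1 from congrArg Subtype.val h'))

theorem val_comm {g k : Co0} (h : g * k = k * g) (hg : g.1 ∈ X) (hk : k.1 ∈ X) :
    (⟨g.1, hg⟩ : X) * ⟨k.1, hk⟩ = ⟨k.1, hk⟩ * ⟨g.1, hg⟩ :=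
  Subtype.ext (show g.1 * k.1 = k.1 * g.1 from congrArg Subtype.val h)

theorem val_rel {g k l : Co0} (h : g * k = k * g * l) (hg : g.1 ∈ X) (hk : k.1 ∈ X) (hl : l.1 ∈ X) :
    (⟨g.1, hg⟩ : X) * ⟨k.1, hk⟩ = ⟨k.1, hk⟩ * ⟨g.1, hg⟩ * ⟨l.1, hl⟩ :=
  Subtype.ext (show g.1 * k.1 = k.1 * g.1 * l.1 from congrArg Subtype.val h)

end Co0

/-! ### HS -/

namespace HS

theorem five : Facts 5 Spor.HS := by
  have := Cfsg.Agent.H647.SpF.HS.finite
  have : Fact (Nat.Prime 5) := ⟨by norm_num⟩
  have hc := Cfsg.Agent.H647.SpF.HS.card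
  refine facts_of_central (p := 5) (by rw [hc]; norm_num) (a := ⟨_, H573.Spor.HSFive.memA⟩) (b := ⟨_, H573.Spor.HSFive.memB⟩)
    (c := ⟨_, H573.Spor.HSFive.memC⟩) (t := ⟨_, HSInv.memT⟩) (val_pow H573.Spor.HSFive.a_pow _)
    (val_pow H573.Spor.HSFive.b_pow _) (val_pow H573.Spor.HSFive.c_pow _) (val_ne H573.Spor.HSFive.c_ne _)
    (val_comm H573.Spor.HSFive.ac _ _) (val_comm H573.Spor.HSFive.bc _ _) (val_rel H573.Spor.HSFive.ab _ _ _)
    (orderOf_eq_prime (p := 2) (val_pow HSInv.t_sq _) (val_ne HSInv.t_ne _))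
    (val_comm HSInv.tc _ _) (k := 1) (m := 75) (B := 7680) (by norm_num) hc ?_ ?_ (by norm_num)
  · intro z hz
    obtain ⟨D⟩ := KFacts.HS.exists_mod (L := Spor.HS) ⟨MulEquiv.refl _⟩
    have hzz : z * z = 1 := by rw [← pow_two, ← hz, pow_orderOf_eq_one]
    have hz1 : z ≠ 1 := by
      rintro rfl
      rw [orderOf_one] at hz
      omega
    rcases KFacts.HS.DFour.inv_cases D z hzz hz1 with ⟨c, h⟩ | ⟨c, h⟩
    · rw [← h, H904.HSCent.card_centralizer_conj, H904.HSCent.card_zA]
    · rw [← h, H904.HSCent.card_centralizer_conj]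
      exact (KFacts.HS.DFour.card_C D).trans (by norm_num)
  · intro x hx hodd h3
    exact le_of_dvd_375 (Cfsg.Agent.H647.SpF.HS.five hx) hodd h3

theorem seven : Facts 7 Spor.HS := by
  have := Cfsg.Agent.H647.SpF.HS.finite
  have hc := Cfsg.Agent.H647.SpF.HS.card
  obtain ⟨D, ψ, R⟩ := H904.HSCent.exists_rep (L := Spor.HS) ⟨MulEquiv.refl _⟩
  obtain ⟨y, hy, hle⟩ := R.exists_seven
  intro x hx
  have h1 : Nat.card (centralizer ({x} : Set Spor.HS)) ≤ 14 := by
    rw [Cfsg.Agent.H647.SpF.card_cent_eq_of_prime (r := 7) (m := 6336000) (by norm_num) (by rw [hc]) (by norm_num) hx hy]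
    exact hle
  have h2 : 7 ∣ Nat.card (centralizer ({x} : Set Spor.HS)) := by
    have := Cfsg.Agent.H647.SpF.dvd_cent (x := x) (y := x) rfl
    rwa [hx] at this
  have h3 : 0 < Nat.card (centralizer ({x} : Set Spor.HS)) := Nat.card_pos
  obtain ⟨k, hk⟩ := h2
  have hk2 : k = 1 ∨ k = 2 := by omega
  rcases hk2 with rfl | rfl
  · exact Or.inr (Or.inl (Sm.of_card (by norm_num) (by norm_num) (by rw [hk]) (by rw [hc]; norm_num)))
  · exact Or.inl (Ev.of_even (by rw [hk]; norm_num))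

theorem eleven : Facts 11 Spor.HS :=
  Facts.self (by norm_num) (by norm_num) (fun x hx => Cfsg.Agent.H647.SpF.HS.sc_eleven x hx)
    (by rw [Cfsg.Agent.H647.SpF.HS.card]; norm_num)

end HS

theorem facts_hs {p : ℕ} (hp : p.Prime) (hp5 : 5 ≤ p) {G : Type u} [Group G] (h : Spor.IsoHS G) : Facts p G := by
  obtain ⟨e⟩ := h
  by_cases hd : p ∣ Nat.card G
  · rw [Nat.card_congr e.toEquiv, Cfsg.Agent.H647.SpF.HS.card] at hd
    have h1 : p = 5 ∨ p = 7 ∨ p = 11 := by
      have h2 : p ∣ 2 ^ 9 * 3 ^ 2 * 5 ^ 3 * 7 * 11 := by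
        have e : 2 ^ 9 * 3 ^ 2 * 5 ^ 3 * 7 * 11 = 44352000 := by norm_num
        rw [e]; exact hd
      have key : ∀ {q k : ℕ}, q.Prime → p ∣ q ^ k → p = q := fun hq h =>
        (Nat.prime_dvd_prime_iff_eq hp hq).1 (hp.dvd_of_dvd_pow h)
      rcases hp.dvd_mul.1 h2 with h2 | h2
      · rcases hp.dvd_mul.1 h2 with h2 | h2
        · rcases hp.dvd_mul.1 h2 with h2 | h2
          · rcases hp.dvd_mul.1 h2 with h2 | h2
            · have := key Nat.prime_two h2; omega
            · have := key Nat.prime_three h2; omega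
          · exact Or.inl (key Nat.prime_five h2)
        · exact Or.inr (Or.inl ((Nat.prime_dvd_prime_iff_eq hp (by norm_num)).1 h2))
      · exact Or.inr (Or.inr ((Nat.prime_dvd_prime_iff_eq hp (by norm_num)).1 h2))
    rcases h1 with rfl | rfl | rfl
    · exact HS.five.congr e.symm
    · exact HS.seven.congr e.symm
    · exact HS.eleven.congr e.symm
  · exact facts_of_not_dvd hd

/-! ### McL -/

namespace McL

theorem five : Facts 5 Spor.McL := by
  have := Cfsg.Agent.H647.SpF.McL.finite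
  have : Fact (Nat.Prime 5) := ⟨by norm_num⟩
  have hc := Cfsg.Agent.H647.SpF.McL.card
  refine facts_of_central (p := 5) (by rw [hc]; norm_num) (a := ⟨_, H573.Spor.McLFive.memA⟩)
    (b := ⟨_, H573.Spor.McLFive.memB⟩)
    (c := ⟨_, H573.Spor.McLFive.memC⟩) (t := ⟨_, McLInv.memT⟩) (val_pow H573.Spor.McLFive.a_pow _)
    (val_pow H573.Spor.McLFive.b_pow _) (val_pow H573.Spor.McLFive.c_pow _) (val_ne H573.Spor.McLFive.c_ne _)
    (val_comm H573.Spor.McLFive.ac _ _) (val_comm H573.Spor.McLFive.bc _ _) (val_rel H573.Spor.McLFive.ab _ _ _)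
    (orderOf_eq_prime (p := 2) (val_pow McLInv.t_sq _) (val_ne McLInv.t_ne _))
    (val_comm McLInv.tc _ _) (k := 1) (m := 75) (B := 40320) (by norm_num) hc ?_ ?_ (by norm_num)
  · intro z hz
    obtain ⟨-, -, -, ⟨L⟩⟩ := Cfsg.Agent.H848.McLLocal.facts
    rw [Cfsg.Agent.H848.McLLocal.card_t L hz]
  · intro x hx hodd h3
    exact le_of_dvd_375 (Cfsg.Agent.H647.SpF.McL.five hx) hodd h3

theorem seven : Facts 7 Spor.McL := by
  have := Cfsg.Agent.H647.SpF.McL.finite
  exact Facts.even fun x hx => by rw [Cfsg.Agent.H647.SpF.McL.seven hx]; norm_num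

theorem eleven : Facts 11 Spor.McL :=
  Facts.self (by norm_num) (by norm_num) (fun x hx => Cfsg.Agent.H647.SpF.McL.sc_eleven x hx)
    (by rw [Cfsg.Agent.H647.SpF.McL.card]; norm_num)

end McL

theorem facts_mcl {p : ℕ} (hp : p.Prime) (hp5 : 5 ≤ p) {G : Type u} [Group G] (h : Spor.IsoMcL G) : Facts p G := by
  obtain ⟨e⟩ := h
  by_cases hd : p ∣ Nat.card G
  · rw [Nat.card_congr e.toEquiv, Cfsg.Agent.H647.SpF.McL.card] at hd
    have h1 : p = 5 ∨ p = 7 ∨ p = 11 := by
      have h2 : p ∣ 2 ^ 7 * 3 ^ 6 * 5 ^ 3 * 7 * 11 := by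
        have e : 2 ^ 7 * 3 ^ 6 * 5 ^ 3 * 7 * 11 = 898128000 := by norm_num
        rw [e]; exact hd
      have key : ∀ {q k : ℕ}, q.Prime → p ∣ q ^ k → p = q := fun hq h =>
        (Nat.prime_dvd_prime_iff_eq hp hq).1 (hp.dvd_of_dvd_pow h)
      rcases hp.dvd_mul.1 h2 with h2 | h2
      · rcases hp.dvd_mul.1 h2 with h2 | h2
        · rcases hp.dvd_mul.1 h2 with h2 | h2
          · rcases hp.dvd_mul.1 h2 with h2 | h2
            · have := key Nat.prime_two h2; omega
            · have := key Nat.prime_three h2; omega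
          · exact Or.inl (key Nat.prime_five h2)
        · exact Or.inr (Or.inl ((Nat.prime_dvd_prime_iff_eq hp (by norm_num)).1 h2))
      · exact Or.inr (Or.inr ((Nat.prime_dvd_prime_iff_eq hp (by norm_num)).1 h2))
    rcases h1 with rfl | rfl | rfl
    · exact McL.five.congr e.symm
    · exact McL.seven.congr e.symm
    · exact McL.eleven.congr e.symm
  · exact facts_of_not_dvd hd

end Cfsg.Agent.H14.Tor
end

-- part: H682/Tor/Base
section
/-!
# S3235: tools for the sporadic rows (helper682)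

* `facts_of_cent` : `p` divides `|G|` exactly once and `|C(z)|` for an involution `z`;
* `kill_of_order` : `p² - 1` does not divide `2 |G|`;
* `kill_of_sub` : a simple proper subgroup `K` of index prime to `p`, not a target group;
* `not_target` : groups which are not target groups by their order.
-/

set_option autoImplicit false

namespace Cfsg.Agent.H682.Tor

open Subgroup Cfsg Cfsg.Agent.H103.Tor Cfsg.Agent.H33.Tor

universe u v

section

variable {p : ℕ} {G : Type u} [Group G] [Finite G]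

/-- a subgroup of order `p` is conjugate to every other one if `p² ∤ |G|` -/
theorem exists_conj_pow (hp : p.Prime) (h2 : ¬ p ^ 2 ∣ Nat.card G) {x y : G} (hx : orderOf x = p) (hy : orderOf y = p) :
    ∃ (g : G) (n : ℕ), x = (g * y * g⁻¹) ^ n := by
  have hpf := Fact.mk hp
  have h1 : ∀ {a : G}, orderOf a = p → ∃ P : Sylow p G, (P : Subgroup G) = zpowers a := by
    intro a ha
    have h3 : IsPGroup p (zpowers a) := IsPGroup.of_card (n := 1) (by rw [Nat.card_zpowers, ha, pow_one])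
    obtain ⟨P, hP⟩ := h3.exists_le_sylow
    refine ⟨P, ?_⟩
    symm
    refine Subgroup.eq_of_le_of_card_ge hP ?_
    rw [Nat.card_zpowers, ha]
    obtain ⟨k, hk⟩ := IsPGroup.iff_card.1 P.isPGroup'
    rw [hk]
    rcases Nat.lt_or_ge k 2 with h4 | h4
    · calc p ^ k ≤ p ^ 1 := Nat.pow_le_pow_right hp.pos (by omega)
        _ = p := pow_one p
    · exfalso
      apply h2
      refine (pow_dvd_pow p h4).trans ?_
      rw [← hk]
      exact Subgroup.card_subgroup_dvd_card _
  obtain ⟨P, hP⟩ := h1 hx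
  obtain ⟨Q, hQ⟩ := h1 hy
  obtain ⟨g, hg⟩ := MulAction.exists_smul_eq G Q P
  have h3 : x ∈ (P : Subgroup G) := by rw [hP]; exact mem_zpowers x
  rw [← hg] at h3
  have h4 : x ∈ (Q : Subgroup G).map (MulAut.conj g).toMonoidHom := h3
  obtain ⟨b, hb, hbx⟩ := h4
  rw [SetLike.mem_coe, hQ] at hb
  obtain ⟨n, hn⟩ := mem_powers_iff_mem_zpowers.2 hb
  refine ⟨g, n, ?_⟩
  rw [← hbx, ← hn]
  show g * y ^ n * g⁻¹ = _
  rw [conj_pow]

theorem card_cent_conj (g y : G) :
    Nat.card (centralizer ({g * y * g⁻¹} : Set G)) = Nat.card (centralizer ({y} : Set G)) := by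
  refine Nat.card_congr
    { toFun := fun z => ⟨g⁻¹ * z * g, mem_centralizer_singleton_iff.2 ?_⟩
      invFun := fun z => ⟨g * z * g⁻¹, mem_centralizer_singleton_iff.2 ?_⟩
      left_inv := fun z => Subtype.ext (by show g * (g⁻¹ * z * g) * g⁻¹ = z; group)
      right_inv := fun z => Subtype.ext (by show g⁻¹ * (g * z * g⁻¹) * g = z; group) }
  · have h := mem_centralizer_singleton_iff.1 z.2
    calc g⁻¹ * (z : G) * g * y = g⁻¹ * ((z : G) * (g * y * g⁻¹)) * g := by group
      _ = g⁻¹ * (g * y * g⁻¹ * z) * g := by rw [h]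
      _ = y * (g⁻¹ * z * g) := by group
  · have h := mem_centralizer_singleton_iff.1 z.2
    calc g * (z : G) * g⁻¹ * (g * y * g⁻¹) = g * ((z : G) * y) * g⁻¹ := by group
      _ = g * (y * z) * g⁻¹ := by rw [h]
      _ = g * y * g⁻¹ * (g * z * g⁻¹) := by group

/-- all elements of order `p` have centralizers of the same order if `p² ∤ |G|` -/
theorem card_cent_eq (hp : p.Prime) (h2 : ¬ p ^ 2 ∣ Nat.card G) {x y : G} (hx : orderOf x = p) (hy : orderOf y = p) :
    Nat.card (centralizer ({x} : Set G)) = Nat.card (centralizer ({y} : Set G)) := by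
  obtain ⟨g, n, hg⟩ := exists_conj_pow hp h2 hx hy
  rw [← card_cent_conj g y, ← centralizer_zpowers x, ← centralizer_zpowers (g * y * g⁻¹)]
  have h3 : zpowers x = zpowers (g * y * g⁻¹) := by
    refine Subgroup.eq_of_le_of_card_ge ?_ ?_
    · rw [zpowers_le, hg]
      exact pow_mem (mem_zpowers _) n
    · rw [Nat.card_zpowers, Nat.card_zpowers, hx]
      exact (MulEquiv.orderOf_eq (MulAut.conj g) y).trans hy |>.le
  rw [h3]

/-- every element of order `p` commutes with an involution -/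
theorem facts_of_comm (hp : p.Prime) (h2 : ¬ p ^ 2 ∣ Nat.card G) {y z : G} (hy : orderOf y = p) (hz : orderOf z = 2)
    (hc : z * y = y * z) : Facts p G := by
  intro x hx
  left
  obtain ⟨g, n, rfl⟩ := exists_conj_pow hp h2 hx hy
  refine ⟨g * z * g⁻¹, ?_, ?_⟩
  · exact (MulEquiv.orderOf_eq (MulAut.conj g) z).trans hz
  · have h1 : Commute (g * z * g⁻¹) (g * y * g⁻¹) := by
      show g * z * g⁻¹ * (g * y * g⁻¹) = g * y * g⁻¹ * (g * z * g⁻¹)
      calc g * z * g⁻¹ * (g * y * g⁻¹) = g * (z * y) * g⁻¹ := by group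
        _ = g * (y * z) * g⁻¹ := by rw [hc]
        _ = _ := by group
    exact (h1.pow_right n).eq

theorem facts_of_cent (hp : p.Prime) (h2 : ¬ p ^ 2 ∣ Nat.card G) {z : G} (hz : orderOf z = 2)
    (h : p ∣ Nat.card (centralizer ({z} : Set G))) : Facts p G := by
  have hpf := Fact.mk hp
  obtain ⟨y, hy⟩ := exists_prime_orderOf_dvd_card' p h
  exact facts_of_comm hp h2 (y := (y : G)) (by rw [Subgroup.orderOf_coe]; exact hy) hz
    (mem_centralizer_singleton_iff.1 y.2).symm

end

/-! ### the order of `G` -/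

section

variable {p : ℕ} {G : Type u} [Group G] [Finite G]

theorem dvd_of_slt {X : Type v} [Group X] [Finite X] (h : SLT p X) : p ^ 2 - 1 ∣ 2 * Nat.card X := by
  obtain ⟨K, i1, i2, m, hm, hK, h⟩ := h
  have h0 := S0243.result (F := K) rfl 2 (by norm_num)
  rw [Fin.prod_univ_two] at h0
  simp only [Fin.val_zero, Fin.val_one, pow_zero, pow_one] at h0
  have hq : 1 < Fintype.card K := Fintype.one_lt_card
  have hqq : Fintype.card K ^ 2 - Fintype.card K = Fintype.card K * (Fintype.card K - 1) := by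
    rw [Nat.mul_sub, mul_one, pow_two]
  have h1 : Nat.gcd 2 (Fintype.card K - 1) * Nat.card (Matrix.ProjectiveSpecialLinearGroup (Fin 2) K) =
      Fintype.card K * (Fintype.card K ^ 2 - 1) := by
    refine Nat.eq_of_mul_eq_mul_left (show 0 < Fintype.card K - 1 by omega) ?_
    calc (Fintype.card K - 1) * (Nat.gcd 2 (Fintype.card K - 1) * Nat.card (Matrix.ProjectiveSpecialLinearGroup (Fin 2) K))
        = Nat.gcd 2 (Fintype.card K - 1) * ((Fintype.card K - 1) * Nat.card (Matrix.ProjectiveSpecialLinearGroup (Fin 2) K)) := by ring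
      _ = _ := h0
      _ = _ := by rw [hqq]; ring
  have h2 : p ^ 2 - 1 ∣ Fintype.card K ^ 2 - 1 := by
    rw [hK, ← pow_mul, mul_comm m 2, pow_mul]
    simpa only [_root_.one_pow] using Nat.sub_dvd_pow_sub_pow (p ^ 2) 1 m
  have h3 : p ^ 2 - 1 ∣ 2 * Nat.card (Matrix.ProjectiveSpecialLinearGroup (Fin 2) K) := by
    refine (h2.trans (Dvd.intro_left _ h1.symm)).trans ?_
    exact Nat.mul_dvd_mul_right (Nat.gcd_dvd_left _ _) _
  rcases h with ⟨⟨e⟩⟩ | ⟨⟨e⟩⟩
  · rwa [Nat.card_congr e.toEquiv]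
  · rw [Nat.card_congr e.toEquiv]
    refine h3.trans (Nat.mul_dvd_mul_left 2 ?_)
    exact Subgroup.card_quotient_dvd_card _

theorem dvd_of_pr {A : Subgroup G} (hA : Pr p A) {g : G} (hg : ¬ Cm A (cj g A)) : p ^ 2 - 1 ∣ 2 * Nat.card G := by
  rcases hA.pair g with h | h
  · exact absurd h hg
  · exact (dvd_of_slt h).trans (Nat.mul_dvd_mul_left 2 (Subgroup.card_subgroup_dvd_card _))

theorem kill_of_order (hp : p.Prime) (hp5 : 5 ≤ p) [IsSimpleGroup G] (hna : ¬ IsMulCommutative G)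
    (h : ¬ p ^ 2 - 1 ∣ 2 * Nat.card G) : Kill p G := by
  intro A hA
  obtain ⟨g, hg⟩ := hA.exists_noncomm_simple hp hp5 (fun h => hna ⟨⟨h⟩⟩)
  exact h (dvd_of_pr hA hg)

/-- a simple subgroup of index prime to `p` which is not a target group -/
theorem kill_of_sub (hp : p.Prime)
    (ih : ∀ (K : Type u) [Group K] [Finite K] [IsSimpleGroup K], Nat.card K < Nat.card G →
      (¬ ∀ x y : K, x * y = y * x) → H103.Tor.Row p K)
    {K : Subgroup G} (hs : IsSimpleGroup K) (hlt : Nat.card K < Nat.card G) (hna : ¬ ∀ x y : K, x * y = y * x)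
    (hi : ¬ p ∣ K.index) (hT : ¬ Target p K) : Kill p G :=
  Kill.of_sylow hp K.subtype_injective (fun A hA => hT (ih K hlt hna A hA)) (by rw [range_subtype]; exact hi)

end

/-! ### orders of target groups -/

section Target

/-- the part of `d n = q ^ N r` -/
theorem le_of_eq {p q k N d n r e : ℕ} (hq : q = p ^ k) (hd : Nat.Coprime d p)
    (h : d * n = q ^ N * r) (hn : ¬ p ^ (e + 1) ∣ n) : k * N ≤ e := by
  by_contra hlt
  apply hn
  have h1 : p ^ (k * N) ∣ d * n := by
    rw [h, hq, ← pow_mul]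
    exact dvd_mul_right _ _
  have h2 : p ^ (k * N) ∣ n := Nat.Coprime.dvd_of_dvd_mul_left (Nat.Coprime.pow_left _ hd.symm) h1
  exact (pow_dvd_pow p (by omega)).trans h2

/-- the check for `PSp` -/
def chkSp (p N e : ℕ) : Prop :=
  ∀ m < e + 1, ∀ k < e + 1, 1 ≤ m → 1 ≤ k →
    Nat.gcd 2 (p ^ k - 1) * N ≠ (p ^ k) ^ (m ^ 2) * ∏ i ∈ Finset.range m, ((p ^ k) ^ (2 * (i + 1)) - 1)

/-- the check for `PSU` -/
def chkSu (p N e : ℕ) : Prop :=
  ∀ n < e + 2, ∀ k < e + 1, 2 ≤ n → 1 ≤ k →
    Nat.gcd n (p ^ k + 1) * ((p ^ k + 1) * N) ≠ (p ^ k) ^ (n * (n - 1) / 2) *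
      ∏ i ∈ Finset.range n, (if Even i then (p ^ k) ^ (i + 1) + 1 else (p ^ k) ^ (i + 1) - 1)

instance instDecidableChkSpH682 (p N e : ℕ) : Decidable (chkSp p N e) := by unfold chkSp; infer_instance
instance instDecidableChkSuH682 (p N e : ℕ) : Decidable (chkSu p N e) := by unfold chkSu; infer_instance

theorem not_target {p N e : ℕ} (hp : p.Prime) (hN : ¬ p ^ (e + 1) ∣ N) (h1 : chkSp p N e) (h2 : chkSu p N e)
    {X : Type u} [Group X] (hX : Nat.card X = N) : ¬ Target p X := by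
  rintro ⟨F, i1, i2, hF, h⟩
  have : CharP F p := by rw [← hF]; exact ringChar.charP F
  rcases h with ⟨m, hm, ⟨f⟩⟩ | ⟨n, q, hn, hq, ⟨f⟩⟩
  · have hc : Nat.card (PSp m F) = N := by rw [← hX]; exact (Nat.card_congr f.toEquiv).symm
    obtain ⟨k, hk, hq⟩ := OrdCrit.exists_pow (F := F) hp
    have h3 := S0245.result (F := F) rfl m
    have h4 := S0246.result (F := F) rfl m hm
    have h5 := Subgroup.card_mul_index (Subgroup.center ↥(Matrix.symplecticGroup (Fin m) F))
    rw [h3, h4] at h5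
    have h6 : (Subgroup.center ↥(Matrix.symplecticGroup (Fin m) F)).index = N := hc
    rw [h6] at h5
    have h7 := le_of_eq hq (Nat.Coprime.coprime_dvd_left (Nat.gcd_dvd_right _ _) (OrdCrit.coprime_sub hp hk hq))
      h5 hN
    have hk1 : 1 ≤ k := Nat.one_le_iff_ne_zero.2 hk
    have h8 : m ≤ m ^ 2 := by nlinarith only []
    refine h1 m ?_ k ?_ hm hk1 ?_
    · nlinarith only [h7, hk1]
    · nlinarith only [hm, h7, h8]
    · rw [hq] at h5
      exact h5
  · have hc : Nat.card (PSU n F q) = N := by rw [← hX]; exact (Nat.card_congr f.toEquiv).symm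
    obtain ⟨k, hk, hqk⟩ := OrdCrit.root_pow hp (by norm_num) (OrdCrit.exists_pow (F := F) hp) hq
    have h3 := S0280.result (F := F) hq n hn
    rw [hc] at h3
    have hk1 : 1 ≤ k := Nat.one_le_iff_ne_zero.2 hk
    have hco := OrdCrit.coprime_add hp hk hqk
    have h7 : k * (n * (n - 1) / 2) ≤ e := by
      refine le_of_eq (d := Nat.gcd n (q + 1) * (q + 1)) hqk ?_ (by rw [mul_assoc]; exact h3) hN
      exact Nat.Coprime.mul_left (Nat.Coprime.coprime_dvd_left (Nat.gcd_dvd_right _ _) hco) hco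
    have h8 : n - 1 ≤ n * (n - 1) / 2 := by
      rw [Nat.le_div_iff_mul_le (by norm_num), mul_comm]
      exact Nat.mul_le_mul_right _ hn
    have h9 : n * (n - 1) / 2 ≤ k * (n * (n - 1) / 2) := Nat.le_mul_of_pos_left _ hk1
    have h10 : k ≤ k * (n * (n - 1) / 2) := Nat.le_mul_of_pos_right _ (by omega)
    refine h2 n (by omega) k (by omega) hn hk1 ?_
    rw [hqk] at h3
    exact h3

theorem not_target_ly {X : Type u} [Group X] (hX : Nat.card X = 5859000000) : ¬ Target 5 X :=
  not_target (e := 6) (by norm_num) (by norm_num) (by decide +kernel) (by decide +kernel) hX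

theorem not_target_on {X : Type u} [Group X] (hX : Nat.card X = 1876896) : ¬ Target 7 X :=
  not_target (e := 3) (by norm_num) (by norm_num) (by decide +kernel) (by decide +kernel) hX

end Target

end Cfsg.Agent.H682.Tor
end

private theorem dce_9f0a0255a378 : _root_.True := by
  try have : _root_.True := by simp only [_root_.Cfsg.Agent.H14.Tor.McLInv.e.eq_2]
  try have : _root_.True := by simp only [_root_.Cfsg.Agent.H14.Tor.HSInv.e.eq_2]
  try have : _root_.True := by simp only [_root_.Cfsg.Agent.H14.Tor.HSInv.e.eq_1]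
  try have : _root_.True := by simp only [_root_.Cfsg.Agent.H14.Tor.McLInv.e.eq_1]
  exact _root_.True.intro
end

-- part: H33/Tor/SporA
section
prune_inst 0x142021040d0010000000000240001e06a2000500002b0001010008000c808b62090027208080120000c8a28400304020000000c0000000000000000001180080002b12028158a800000000009004000000000000000000000000000000000004000000000
set_option linter.all false
open scoped Cfsg.Agent.FastGrp

-- part: H33/Tor/Spor
section
/-!
# S3235: the kill of a sporadic group from its facts (helper33)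
-/

set_option autoImplicit false

namespace Cfsg.Agent.H33.Tor

open Subgroup Cfsg Cfsg.Agent.H103.Tor

universe u

/-- the kill from the facts, for a sporadic group -/
theorem kill_spor {p : ℕ} (hp : p.Prime) (hp5 : 5 ≤ p) {G : Type u} [Group G] [Finite G] [IsSimpleGroup G]
    (hcl : ∀ (L : Type u) [Group L] [Finite L] [IsSimpleGroup L], IsKnownSimple' L)
    (ih : IHyp p G) (h : IsSporadicGroup G) (hex : p = 5 → ¬ (Spor.IsoM12 G ∨ Spor.IsoJ1 G ∨ Spor.IsoJ2 G))
    (hF : Facts p G) : Kill p G :=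
  kill_of_facts hp hp5 (H516.not_comm_of_spor (Or.inl h))
    (fun _ hz _ hA => no_inv hp hp5 hcl ih h hex hz hA) hF

end Cfsg.Agent.H33.Tor
end

-- part: H71/Tor/JSmall
section
/-!
# S3235: the facts for `J₁` and `J₃` (helper71)
-/

set_option autoImplicit false

namespace Cfsg.Agent.H71.Tor

open Subgroup Cfsg Cfsg.Agent.H33.Tor

universe u

theorem card_j1 : Nat.card Spor.J1 = 175560 := H305.SepJ1.card

theorem card_cent_j1 {r c : ℕ} (h : ∀ R : Subgroup Spor.J1, Nat.card R = r → Nat.card (centralizer (R : Set Spor.J1)) = c)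
    {x : Spor.J1} (hx : orderOf x = r) : Nat.card (centralizer ({x} : Set Spor.J1)) = c := by
  rw [← centralizer_zpowers]
  exact h _ (by rw [Nat.card_zpowers, hx])

/-- `J₁`, all primes `p ≥ 5`. -/
theorem facts_j1 {p : ℕ} (hp : p.Prime) (hp5 : 5 ≤ p) {G : Type u} [Group G] (h : Spor.IsoJ1 G) : Facts p G := by
  obtain ⟨e⟩ := h
  refine Facts.congr e.symm ?_
  by_cases hd : p ∣ Nat.card Spor.J1
  · have h1 : p = 5 ∨ p = 7 ∨ p = 11 ∨ p = 19 := by
      rw [card_j1, show (175560 : ℕ) = 2 ^ 3 * (3 * (5 * (7 * (11 * 19)))) by norm_num] at hd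
      rcases (Nat.Prime.dvd_mul hp).1 hd with h | hd
      · have := (Nat.prime_dvd_prime_iff_eq hp Nat.prime_two).1 (hp.dvd_of_dvd_pow h); omega
      rcases (Nat.Prime.dvd_mul hp).1 hd with h | hd
      · have := (Nat.prime_dvd_prime_iff_eq hp Nat.prime_three).1 h; omega
      rcases (Nat.Prime.dvd_mul hp).1 hd with h | hd
      · exact Or.inl ((Nat.prime_dvd_prime_iff_eq hp Nat.prime_five).1 h)
      rcases (Nat.Prime.dvd_mul hp).1 hd with h | hd
      · exact Or.inr (Or.inl ((Nat.prime_dvd_prime_iff_eq hp (by norm_num)).1 h))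
      rcases (Nat.Prime.dvd_mul hp).1 hd with h | hd
      · exact Or.inr (Or.inr (Or.inl ((Nat.prime_dvd_prime_iff_eq hp (by norm_num)).1 h)))
      · exact Or.inr (Or.inr (Or.inr ((Nat.prime_dvd_prime_iff_eq hp (by norm_num)).1 hd)))
    rcases h1 with rfl | rfl | rfl | rfl
    · intro x hx
      right; right
      refine Iv.of_le (b := 120) (c := 30) (N := 175560)
        (card_cent_j1 (fun R hR => (H305.SepJ1.cn5 hR).1) hx).le
        (fun z hz => (H305.SepJ1.card_cent_two hz).le) card_j1 1 (by norm_num) (by norm_num)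
    · exact Facts.self hp (by norm_num) (fun x hx => card_cent_j1 (fun R hR => (H305.SepJ1.cn7 hR).1) hx)
        (by rw [card_j1]; norm_num)
    · exact Facts.self hp (by norm_num) (fun x hx => card_cent_j1 (fun R hR => (H305.SepJ1.cn11 hR).1) hx)
        (by rw [card_j1]; norm_num)
    · exact Facts.self hp (by norm_num) (fun x hx => card_cent_j1 (fun R hR => (H305.SepJ1.cn19 hR).1) hx)
        (by rw [card_j1]; norm_num)
  · exact facts_of_not_dvd hd

/-- `J₃`, all primes `p ≥ 5`. -/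
theorem facts_j3 {p : ℕ} (hp : p.Prime) (hp5 : 5 ≤ p) {G : Type u} [Group G] (h : Spor.IsoJ3 G) : Facts p G := by
  obtain ⟨-, hc, hM⟩ := H898.J3Cent.base h
  have : Finite G := Nat.finite_of_card_ne_zero (by rw [hc]; norm_num)
  by_cases hd : p ∣ Nat.card G
  · have h1 : p = 5 ∨ p = 17 ∨ p = 19 := by
      rw [hc] at hd
      rcases H898.J3Cent.prime_dvd_card hp hd with h | h | h | h | h
      · omega
      · omega
      · exact Or.inl h
      · exact Or.inr (Or.inl h)
      · exact Or.inr (Or.inr h)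
    rcases h1 with rfl | rfl | rfl
    · -- an element of order 5 in the centralizer of an involution
      have h2 := Fact.mk Nat.prime_two
      have h5 := Fact.mk Nat.prime_five
      obtain ⟨t, ht⟩ := exists_prime_orderOf_dvd_card' (G := G) 2 (by rw [hc]; norm_num)
      have hct := (hM t ht).2.1
      obtain ⟨y, hy⟩ := exists_prime_orderOf_dvd_card' (G := ↥(centralizer ({t} : Set G))) 5 (by rw [hct]; norm_num)
      intro x hx
      left
      refine ev_of_sylow hp (by rw [hc]; norm_num) (y := (y : G)) (by rw [Subgroup.orderOf_coe, hy]) ?_ x hx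
      exact ⟨t, ht, (mem_centralizer_singleton_iff.1 y.2).symm⟩
    · exact Facts.self hp (by norm_num) (fun x hx => (H898.J3Cent.seventeen h hx).1) (by rw [hc]; norm_num)
    · exact Facts.self hp (by norm_num) (fun x hx => H898.J3Cent.card_nineteen h hx) (by rw [hc]; norm_num)
  · exact facts_of_not_dvd hd

end Cfsg.Agent.H71.Tor
end

-- part: H33/Tor/Exc
section
/-!
# S3235: the exceptional cases `M₁₂` and `J₁`, `p = 5` (helper33)
-/

set_option autoImplicit false

namespace Cfsg.Agent.H33.Tor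

open Subgroup Cfsg
open Cfsg.Agent.NotCT
open Cfsg.Agent.H729.PairMathieu Cfsg.Agent.H729.Count Cfsg.Agent.H463.TorM

universe u

/-- the order excludes `M₁₂`, `J₁`, `J₂` -/
theorem not_three {G : Type u} [Group G] {N : ℕ} (hN : Nat.card G = N) (h1 : N ≠ 95040) (h2 : N ≠ 175560)
    (h3 : N ≠ 604800) : ¬ (Spor.IsoM12 G ∨ Spor.IsoJ1 G ∨ Spor.IsoJ2 G) := by
  rintro (h | h | h)
  · exact h1 (hN.symm.trans (Orders.m12 h))
  · exact h2 (hN.symm.trans (Orders.j1 h))
  · exact h3 (hN.symm.trans (Orders.j2 h))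

/-- `M₁₂`, `p = 5` -/
theorem iv_m12 {x : Spor.M12} (hx : orderOf x = 5) : Iv 5 x := by
  have h1 := H729.Count.card_cent_le inc12 inc12_injective preX (x := X) rfl st_X
  rw [lenX, ← H729.PairBase.card_cent_of_one (by norm_num) (not_sq_dvd_of_eq card_M12 (by norm_num)) orderX hx] at h1
  exact Iv.of_le (c := 10) (b := 240) h1 (fun z hz => cent_m12_two hz) card_M12 1 (by norm_num)
    (by norm_num)

/-- `J₁`, `p = 5` -/
theorem iv_j1 {x : Spor.J1} (hx : orderOf x = 5) : Iv 5 x :=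
  Iv.of_le (b := 120) (c := 30) (N := 175560)
    (H71.Tor.card_cent_j1 (fun _ hR => (H305.SepJ1.cn5 hR).1) hx).le
    (fun _ hz => (H305.SepJ1.card_cent_two hz).le) H71.Tor.card_j1 1 (by norm_num) (by norm_num)

theorem card_cent_equiv {G : Type*} {H : Type*} [Group G] [Group H] (e : G ≃* H) (x : G) :
    Nat.card (centralizer ({e x} : Set H)) = Nat.card (centralizer ({x} : Set G)) := by
  symm
  refine Nat.card_congr (Equiv.subtypeEquiv e.toEquiv fun y => ?_)
  show y ∈ centralizer ({x} : Set G) ↔ e y ∈ centralizer ({e x} : Set H)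
  rw [mem_centralizer_singleton_iff, mem_centralizer_singleton_iff, ← map_mul, ← map_mul, e.injective.eq_iff]

theorem Iv.of_equiv {p : ℕ} {G : Type*} {H : Type*} [Group G] [Group H] (e : G ≃* H) {x : G} (h : Iv p (e x)) :
    Iv p x := by
  refine ⟨h.1, fun z hz => ?_⟩
  have h1 := h.2 (e z) (by rw [MulEquiv.orderOf_eq, hz])
  rwa [card_cent_equiv, card_cent_equiv, ← Nat.card_congr e.toEquiv] at h1

theorem iv_of_m12 {G : Type u} [Group G] (h : Spor.IsoM12 G) {x : G} (hx : orderOf x = 5) : Iv 5 x := by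
  obtain ⟨e⟩ := h
  exact Iv.of_equiv e (iv_m12 (by rw [MulEquiv.orderOf_eq, hx]))

theorem iv_of_j1 {G : Type u} [Group G] (h : Spor.IsoJ1 G) {x : G} (hx : orderOf x = 5) : Iv 5 x := by
  obtain ⟨e⟩ := h
  exact Iv.of_equiv e (iv_j1 (by rw [MulEquiv.orderOf_eq, hx]))

end Cfsg.Agent.H33.Tor
end

-- part: H463/Tor/TorHe
section
/-!
# S3235, task TOR-HE: the class 7C of the Held group
-/

set_option autoImplicit false
set_option maxRecDepth 100000

namespace Cfsg.Agent.H463.TorHe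

open Subgroup Cfsg Cfsg.Agent.H33.Tor Cfsg.Agent.H103.Tor
open Cfsg.Spor.He (Gen)
open Cfsg.Agent.SporadicB.HePerm (act wd phi phi_wd_apply)
open Cfsg.Agent.FixBN.HeStab Cfsg.Agent.KFacts.He.Lv Cfsg.Agent.CpAutHe.Cnt Cfsg.Agent.H19.Odd.HeCnt
open Cfsg.Agent.H19.Odd.HeEl
open Cfsg.Agent.CpAutHe.Seven (ne_one_of_act card_cent_le)

universe u

/-- a point of period 17 -/
theorem dvd_orderOf {α : Type*} {G : Type*} [Group G] [Finite G] (φ : G →* Equiv.Perm α) {y : G} {i : α} {r : ℕ} (hr : r.Prime)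
    (h1 : (φ y ^ r) i = i) (h2 : φ y i ≠ i) : r ∣ orderOf y := by
  by_contra hd
  have h3 : Function.IsPeriodicPt (φ y) r i := by
    rw [Function.IsPeriodicPt, Function.IsFixedPt, ← Equiv.Perm.coe_pow, h1]
  have h4 : Function.IsPeriodicPt (φ y) (orderOf y) i := by
    rw [Function.IsPeriodicPt, Function.IsFixedPt, ← Equiv.Perm.coe_pow, ← map_pow, pow_orderOf_eq_one, map_one]
    rfl
  have h5 := h3.gcd h4
  have h6 : Nat.gcd r (orderOf y) = 1 := (Nat.Prime.coprime_iff_not_dvd hr).2 hd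
  rw [h6] at h5
  exact h2 h5

theorem wd_inv : wd [.f, .d] = (wd [.d, .f])⁻¹ := by
  have h := eq_of_chkB (v := ([Gen.d, .f] : List Cfsg.Spor.He.Gen) ++ ([.f, .d] : List Cfsg.Spor.He.Gen)) (w := []) (by decide +kernel)
  rw [wd_append, wd_nil] at h
  exact (inv_eq_of_mul_eq_one_right h).symm

/-- the word of order 17 -/
def Wy : List Gen := XC ++ (([.d, .f] : List Cfsg.Spor.He.Gen) ++ (XC ++ ([.f, .d] : List Cfsg.Spor.He.Gen)))

theorem wd_Wy : wd Wy = wd XC * (wd [.d, .f] * wd XC * (wd [.d, .f])⁻¹) := by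
  unfold Wy
  rw [wd_append, wd_append, wd_append, wd_inv, ← mul_assoc (wd [.d, .f])]

theorem seventeen [Finite Cfsg.Spor.He] : 17 ∣ orderOf (wd Wy) := by
  refine dvd_orderOf (i := (0 : Fin 2058)) phi (by norm_num) ?_ ?_
  · rw [← map_pow, ← wd_pw]
    apply Fin.ext
    rw [phi_wd_apply]
    exact Nat.eq_of_beq_eq_true (by decide +kernel : Nat.beq (act (pw Wy 17) ((0 : Fin 2058) : ℕ)) ((0 : Fin 2058) : ℕ) = true)
  · intro h
    have h2 := congrArg (fun z : Fin 2058 => (z : ℕ)) h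
    simp only [phi_wd_apply] at h2
    have h3 : Nat.beq (act Wy ((0 : Fin 2058) : ℕ)) ((0 : Fin 2058) : ℕ) = false := by decide +kernel
    rw [h2, Nat.beq_refl] at h3
    exact absurd h3 (by decide)

/-- the order of `PSL₂(7^m)`, `SL₂(7^m)` dividing `|He|` is not divisible by 17 -/
theorem not_dvd_card {X : Type*} [Group X] [Finite X] (h : SLT 7 X) (hX : Nat.card X ∣ 4030387200) : ¬ 17 ∣ Nat.card X := by
  obtain ⟨K, i1, i2, m, hm, hK, h⟩ := h
  have h7 : Fact (Nat.Prime 7) := ⟨by norm_num⟩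
  have hch : CharP K 7 := charP_of_card_eq_prime_pow hK
  have h2 : (2 : K) ≠ 0 := two_ne (p := 7) (by norm_num) (by norm_num)
  have key : ∃ c : ℕ, (c = 1 ∨ c = 2) ∧ c * Nat.card X = 7 ^ m * ((7 ^ m) ^ 2 - 1) := by
    rcases h with ⟨⟨e⟩⟩ | ⟨⟨e⟩⟩
    · refine ⟨2, Or.inr rfl, ?_⟩
      rw [Nat.card_congr e.toEquiv, ← hK]
      exact LieClassical.SmallIso.card_psl_two K h2
    · refine ⟨1, Or.inl rfl, ?_⟩
      rw [Nat.card_congr e.toEquiv, ← hK, one_mul]
      exact LieClassical.SmallIso.card_sl_two K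
  obtain ⟨c, hc, hcard⟩ := key
  have hm4 : m < 4 := by
    by_contra hcon
    push Not at hcon
    have h3 : 7 ^ 4 ∣ c * Nat.card X := by
      rw [hcard]
      exact (pow_dvd_pow 7 hcon).trans (dvd_mul_right _ _)
    have h4 : c * Nat.card X ∣ 2 * 4030387200 := by
      refine Nat.mul_dvd_mul ?_ hX
      rcases hc with rfl | rfl <;> norm_num
    have h5 := h3.trans h4
    norm_num at h5
  intro h17
  have h6 : 17 ∣ c * Nat.card X := h17.mul_left c
  rw [hcard] at h6
  interval_cases m <;> norm_num at h6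

theorem finite_he : Finite Cfsg.Spor.He := (SporadicB.HeUpper.card_he_le).1

theorem not_pr_he {A : Subgroup Cfsg.Spor.He} (hA : Pr 7 A)
    (hc : Nat.card (centralizer (A : Set Cfsg.Spor.He)) = 1029) : False := by
  have hfin := finite_he
  obtain ⟨b, hbA, hbo, hAb⟩ := exists_gen (p := 7) (by norm_num) hA.card
  have hcb : Nat.card (centralizer ({b} : Set Cfsg.Spor.He)) = 1029 := by
    rw [← centralizer_zpowers b, ← hAb, hc]
  rcases seven hbo with h | ⟨g, hg⟩
  · rw [hcb] at h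
    norm_num at h
  -- pass to `⟨wd XC⟩`
  have hA2 := hA.conj g
  have e : cj g A = zpowers (wd XC) := by
    rw [← hg, hAb]
    show (zpowers b).map (MulAut.conj g).toMonoidHom = _
    rw [MonoidHom.map_zpowers]
    rfl
  rw [e] at hA2
  set B := zpowers (wd XC) with hB
  have hx : wd XC ∈ B := mem_zpowers _
  have hy : wd [.d, .f] * wd XC * (wd [.d, .f])⁻¹ ∈ cj (wd [.d, .f]) B := conj_mem_cj hx
  rcases hA2.pair (wd [.d, .f]) with h | h
  · have h1 := h _ hx _ hy
    have h2 : (wd Wy) ^ 7 = 1 := by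
      rw [wd_Wy, (show Commute _ _ from h1).mul_pow, conj_pow, C_pow, mul_one, mul_inv_cancel, mul_one]
    have h3 := seventeen.trans (orderOf_dvd_of_pow_eq_one h2)
    norm_num at h3
  · have h4 : wd Wy ∈ B ⊔ cj (wd [.d, .f]) B := by
      rw [wd_Wy]
      exact mul_mem (mem_sup_left hx) (mem_sup_right hy)
    have h5 := Subgroup.orderOf_dvd_natCard _ h4
    refine not_dvd_card h ?_ (seventeen.trans h5)
    rw [← KFacts.He.Cent.card_He]
    exact Subgroup.card_subgroup_dvd_card _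

/-- **The class 7C of `He`.** -/
theorem not_pr_seven {G : Type u} [Group G] [Finite G] (h : Spor.IsoHe G) {A : Subgroup G} (hA : Pr 7 A)
    (hc : Nat.card (centralizer (A : Set G)) = 1029) : False := by
  obtain ⟨e⟩ := h
  refine not_pr_he (hA.map_equiv e) ?_
  rw [← hc]
  symm
  refine Nat.card_congr (Equiv.subtypeEquiv e.toEquiv fun y => ?_)
  show y ∈ centralizer (A : Set G) ↔ e y ∈ centralizer (A.map e.toMonoidHom : Set Cfsg.Spor.He)
  rw [mem_centralizer_iff, mem_centralizer_iff]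
  constructor
  · rintro h1 _ ⟨a, ha, rfl⟩
    show e a * e y = e y * e a
    rw [← map_mul, ← map_mul, h1 a ha]
  · intro h1 a ha
    have h2 := h1 (e a) ⟨a, ha, rfl⟩
    rw [← map_mul, ← map_mul] at h2
    exact e.injective h2

end Cfsg.Agent.H463.TorHe
end

-- part: H71/Tor/JFour
section
/-!
# S3235: the facts for `J₄` (helper71)
-/

set_option autoImplicit false

namespace Cfsg.Agent.H71.Tor

open Subgroup Cfsg Cfsg.Agent.H33.Tor

universe u

theorem card_j4 : Nat.card Spor.J4 = 86775571046077562880 := H858.FixJ4.card_J4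

theorem prime_j4 {p : ℕ} (hp : p.Prime) (hp5 : 5 ≤ p) (hd : p ∣ 86775571046077562880) :
    p = 5 ∨ p = 7 ∨ p = 11 ∨ (p = 23 ∨ p = 29 ∨ p = 31 ∨ p = 37 ∨ p = 43) := by
  rw [show (86775571046077562880 : ℕ) = 2 ^ 21 * (3 ^ 3 * (5 * (7 * (11 ^ 3 * (23 * (29 * (31 * (37 * 43))))))))
    by norm_num] at hd
  rcases (Nat.Prime.dvd_mul hp).1 hd with h | hd
  · have := (Nat.prime_dvd_prime_iff_eq hp Nat.prime_two).1 (hp.dvd_of_dvd_pow h); omega
  rcases (Nat.Prime.dvd_mul hp).1 hd with h | hd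
  · have := (Nat.prime_dvd_prime_iff_eq hp Nat.prime_three).1 (hp.dvd_of_dvd_pow h); omega
  rcases (Nat.Prime.dvd_mul hp).1 hd with h | hd
  · have := (Nat.prime_dvd_prime_iff_eq hp Nat.prime_five).1 h; omega
  rcases (Nat.Prime.dvd_mul hp).1 hd with h | hd
  · have := (Nat.prime_dvd_prime_iff_eq hp (by norm_num)).1 h; omega
  rcases (Nat.Prime.dvd_mul hp).1 hd with h | hd
  · have := (Nat.prime_dvd_prime_iff_eq hp (by norm_num)).1 (hp.dvd_of_dvd_pow h); omega
  rcases (Nat.Prime.dvd_mul hp).1 hd with h | hd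
  · have := (Nat.prime_dvd_prime_iff_eq hp (by norm_num)).1 h; omega
  rcases (Nat.Prime.dvd_mul hp).1 hd with h | hd
  · have := (Nat.prime_dvd_prime_iff_eq hp (by norm_num)).1 h; omega
  rcases (Nat.Prime.dvd_mul hp).1 hd with h | hd
  · have := (Nat.prime_dvd_prime_iff_eq hp (by norm_num)).1 h; omega
  rcases (Nat.Prime.dvd_mul hp).1 hd with h | hd
  · have := (Nat.prime_dvd_prime_iff_eq hp (by norm_num)).1 h; omega
  · have := (Nat.prime_dvd_prime_iff_eq hp (by norm_num)).1 hd; omega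

/-- `J₄`, all primes `p ≥ 5`. -/
theorem facts_j4 {p : ℕ} (hp : p.Prime) (hp5 : 5 ≤ p) {G : Type u} [Group G] (h : Spor.IsoJ4 G) : Facts p G := by
  obtain ⟨e⟩ := h
  refine Facts.congr e.symm ?_
  have : Finite Spor.J4 := Nat.finite_of_card_ne_zero (by rw [card_j4]; norm_num)
  by_cases hd : p ∣ Nat.card Spor.J4
  · rw [card_j4] at hd
    rcases prime_j4 hp hp5 hd with rfl | rfl | rfl | hb
    · obtain ⟨g, hg⟩ := H723.Spor.JFour.exists_os 10 (by decide)
      obtain ⟨y, hy, hE⟩ := exists_ev_of_two_mul (p := 5) (by norm_num) hg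
      exact fun x hx => Or.inl (ev_of_sylow hp (by rw [card_j4]; norm_num) hy hE x hx)
    · obtain ⟨g, hg⟩ := H723.Spor.JFour.exists_os 14 (by decide)
      obtain ⟨y, hy, hE⟩ := exists_ev_of_two_mul (p := 7) (by norm_num) hg
      exact fun x hx => Or.inl (ev_of_sylow hp (by rw [card_j4]; norm_num) hy hE x hx)
    · intro x hx
      obtain ⟨t, ht, h1⟩ := H478.RadJ4.exists_invol hx
      exact Or.inl ⟨t, ht, h1.symm⟩
    · have h7 : 7 ≤ p := by omega
      refine Facts.self hp h7 (fun x hx => H723.Spor.JFour.cent_big hb hx) ?_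
      rw [card_j4]
      have h43 : p ≤ 43 := by omega
      exact lt_of_le_of_lt (Nat.pow_le_pow_left h43 3) (by norm_num)
  · exact facts_of_not_dvd hd

end Cfsg.Agent.H71.Tor
end

-- part: H968/Tor/JTwo
section
/-!
# S3235: no subgroup of order 5 of `J2` has `Pr 5` (helper968, task 2773)

`J2` acts on 100 points. For each of the six subgroups `⟨c⟩` of order 5 of a Sylow 5-subgroup an element `g` with
`c (g c g⁻¹)` of order 7 is exhibited; `SL₂(5)`, `PSL₂(5)` and `PSL₂(25)`, `SL₂(25)` have no elements of order 7.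
-/

set_option autoImplicit false
set_option maxRecDepth 100000

namespace Cfsg.Agent.H968.Tor.JTwo

open Cfsg Subgroup Cfsg.Agent.H33.Tor Cfsg.Agent.H103.Tor
open Cfsg.Agent.J2.HundredGens Cfsg.Agent.SporadicA.J2Hundred

universe u

/-! ### General lemmas -/

theorem eq_one_of_pow {X : Type*} [Group X] {c : X} (h5 : c ^ 5 = 1) (h7 : c ^ 7 = 1) : c = 1 := by
  calc c = (c ^ 5) ^ 3 * ((c ^ 7) ^ 2)⁻¹ := by
        rw [← pow_mul, ← pow_mul, show 5 * 3 = 7 * 2 + 1 from rfl, pow_succ']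
        group
    _ = 1 := by rw [h5, h7]; simp

theorem key {X : Type*} [Group X] [Finite X] (h125 : ¬ 125 ∣ Nat.card X) {a g : X}
    (h7 : (a * (g * a * g⁻¹)) ^ 7 = 1) (hne : a * (g * a * g⁻¹) ≠ 1) : ¬ Pr 5 (zpowers a) := by
  intro hP
  have ha5 : a ^ 5 = 1 := by
    have h := hP.card
    rw [Nat.card_zpowers] at h
    rw [← h, pow_orderOf_eq_one]
  have hc : ¬ Cm (zpowers a) (cj g (zpowers a)) := by
    intro hc
    have h1 : Commute a (g * a * g⁻¹) := hc a (mem_zpowers a) _ (conj_mem_cj (mem_zpowers a))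
    apply hne
    refine eq_one_of_pow ?_ h7
    rw [h1.mul_pow, ha5, conj_pow, ha5, mul_one, mul_inv_cancel, one_mul]
  obtain ⟨K, _, _, _, m, φ, x, y, hm, hK, hφ, hX, -⟩ := hP.exists_pair (by norm_num) le_rfl hc
  have hfin : Finite (Matrix.SpecialLinearGroup (Fin 2) K) := inferInstance
  have hcard : Nat.card (Matrix.SpecialLinearGroup (Fin 2) K) = 5 ^ m * ((5 ^ m) ^ 2 - 1) := by
    rw [S0276.card_sl_two (F := K) hK]
  have h1 : Nat.card φ.ker * Nat.card φ.range = Nat.card (Matrix.SpecialLinearGroup (Fin 2) K) := by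
    rw [← Subgroup.index_ker, Subgroup.card_mul_index]
  have hk2 : Nat.card φ.ker ≤ 2 := by
    have h2 : (φ.ker : Set (Matrix.SpecialLinearGroup (Fin 2) K)) ⊆ {1, -1} := by
      intro z hz
      exact hφ z hz
    have h3 := Set.ncard_le_ncard h2 (Set.toFinite _)
    have h4 := Set.ncard_insert_le (1 : Matrix.SpecialLinearGroup (Fin 2) K) {-1}
    rw [Set.ncard_singleton] at h4
    exact h3.trans h4
  have hk0 : 0 < Nat.card φ.ker := Nat.card_pos
  have hcop : Nat.Coprime (5 ^ m) (Nat.card φ.ker) := by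
    apply Nat.Coprime.pow_left
    have : Nat.card φ.ker = 1 ∨ Nat.card φ.ker = 2 := by omega
    rcases this with h | h <;> rw [h] <;> norm_num
  have h5m : 5 ^ m ∣ Nat.card X := by
    have h2 : 5 ^ m ∣ Nat.card φ.ker * Nat.card φ.range := by
      rw [h1, hcard]
      exact dvd_mul_right _ _
    exact (hcop.dvd_of_dvd_mul_left h2).trans (Subgroup.card_subgroup_dvd_card _)
  have hm2 : m < 3 := by
    by_contra hcon
    push Not at hcon
    exact h125 ((pow_dvd_pow 5 hcon).trans h5m)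
  -- the element of order 7
  have hmem : a * (g * a * g⁻¹) ∈ φ.range := by
    rw [hX]
    exact mul_mem (mem_sup_left (mem_zpowers a)) (mem_sup_right (conj_mem_cj (mem_zpowers a)))
  have ho : orderOf (a * (g * a * g⁻¹)) = 7 := by
    have : Fact (Nat.Prime 7) := ⟨by norm_num⟩
    exact orderOf_eq_prime h7 hne
  have h7d : 7 ∣ Nat.card (Matrix.SpecialLinearGroup (Fin 2) K) := by
    rw [← h1]
    refine Dvd.dvd.mul_left ?_ _
    rw [← ho, ← Subgroup.orderOf_mk _ hmem]
    exact orderOf_dvd_natCard _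
  rw [hcard] at h7d
  have : m = 1 ∨ m = 2 := by omega
  rcases this with rfl | rfl
  · norm_num at h7d
  · norm_num at h7d

theorem card_sup_dvd {X : Type*} [Group X] [Finite X] {A B : Subgroup X} (h : ∀ a ∈ A, ∀ b ∈ B, a * b = b * a) :
    Nat.card ↥(A ⊔ B) ∣ Nat.card A * Nat.card B ∧ ∀ x ∈ A ⊔ B, ∃ a ∈ A, ∃ b ∈ B, x = a * b := by
  let f : A × B →* X := MonoidHom.noncommCoprod A.subtype B.subtype (fun a b => h a a.2 b b.2)
  have h1 : f.range = A ⊔ B := by
    have h2 := MonoidHom.noncommCoprod_range A.subtype B.subtype (fun a b => h a a.2 b b.2)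
    rw [A.range_subtype, B.range_subtype] at h2
    exact h2
  refine ⟨?_, ?_⟩
  · rw [← h1, ← Nat.card_prod]
    exact card_range_dvd f
  · intro x hx
    rw [← h1] at hx
    obtain ⟨⟨a, b⟩, rfl⟩ := hx
    exact ⟨a, a.2, b, b.2, rfl⟩

/-- the reduction to six subgroups -/
theorem kill_of_six {X : Type*} [Group X] [Finite X] (h25 : (Nat.card X).factorization 5 = 2) {x y : X}
    (x5 : x ^ 5 = 1) (y5 : y ^ 5 = 1) (xy : x * y = y * x) (x1 : x ≠ 1) (hy : y ∉ zpowers x)
    (hky : ¬ Pr 5 (zpowers y)) (hkx : ∀ r : ℕ, r < 5 → ¬ Pr 5 (zpowers (x * y ^ r))) : Kill 5 X := by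
  have f5 : Fact (Nat.Prime 5) := ⟨by norm_num⟩
  have hxo : orderOf x = 5 := orderOf_eq_prime x5 x1
  have y1 : y ≠ 1 := by
    rintro rfl
    exact hy (one_mem _)
  have hyo : orderOf y = 5 := orderOf_eq_prime y5 y1
  obtain ⟨hd, hmem⟩ := card_sup_dvd (A := zpowers x) (B := zpowers y) (by
    rintro _ ⟨i, rfl⟩ _ ⟨j, rfl⟩
    exact ((show Commute x y from xy).zpow_zpow i j).eq)
  rw [Nat.card_zpowers, Nat.card_zpowers, hxo, hyo] at hd
  have h5 : 5 ∣ Nat.card ↥(zpowers x ⊔ zpowers y) := by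
    rw [← hxo, ← Nat.card_zpowers]
    exact card_dvd_of_le le_sup_left
  have hne : Nat.card ↥(zpowers x ⊔ zpowers y) ≠ 5 := by
    intro h
    apply hy
    have h2 : zpowers x = zpowers x ⊔ zpowers y := eq_of_le_of_card_ge le_sup_left (by
      rw [h, Nat.card_zpowers, hxo])
    rw [h2]
    exact mem_sup_right (mem_zpowers y)
  have h25' : Nat.card ↥(zpowers x ⊔ zpowers y) = 5 ^ 2 := by
    obtain ⟨k, hk⟩ := h5
    rw [hk] at hd hne ⊢
    have h3 : k ∣ 5 := Nat.dvd_of_mul_dvd_mul_left (by norm_num) hd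
    rcases (Nat.dvd_prime (by norm_num)).1 h3 with rfl | rfl
    · exact absurd rfl hne
    · norm_num
  let P : Sylow 5 X := Sylow.ofCard (zpowers x ⊔ zpowers y) (by rw [h25', h25])
  have hP : (P : Subgroup X) = zpowers x ⊔ zpowers y := rfl
  intro A hA
  have hAp : IsPGroup 5 A := IsPGroup.of_card (n := 1) (by rw [hA.card, pow_one])
  obtain ⟨Q, hQ⟩ := hAp.exists_le_sylow
  obtain ⟨g, hg⟩ := MulAction.exists_smul_eq X Q P
  have h3 : cj g A ≤ zpowers x ⊔ zpowers y := by
    rw [← hP, ← hg]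
    exact Subgroup.map_mono hQ
  have hA' := hA.conj g
  obtain ⟨a, haA, hao, hAa⟩ := Cfsg.Agent.H333.SLTwoLine.exists_gen (by norm_num) (cj g A) hA'.card
  obtain ⟨_, ⟨i, rfl⟩, _, ⟨j, rfl⟩, ha⟩ := hmem a (h3 haA)
  have ha : a = x ^ i * y ^ j := ha
  have a5 : a ^ 5 = 1 := by rw [← hao, pow_orderOf_eq_one]
  -- a nontrivial power generates the same subgroup
  have gen : ∀ c : X, c ∈ zpowers a → c ≠ 1 → zpowers c = zpowers a := by
    intro c hc hc1
    apply eq_of_le_of_card_ge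
    · rw [zpowers_le]; exact hc
    · have hc5 : c ^ 5 = 1 := by
        obtain ⟨k, rfl⟩ := hc
        rw [← zpow_natCast, ← zpow_mul, mul_comm, zpow_mul, zpow_natCast, a5, one_zpow]
      rw [Nat.card_zpowers, Nat.card_zpowers, orderOf_eq_prime hc5 hc1, hao]
  have zx : ∀ k : ℤ, x ^ (5 * k) = 1 := by
    intro k
    rw [zpow_mul, show (5 : ℤ) = ((5 : ℕ) : ℤ) from rfl, zpow_natCast, x5, one_zpow]
  have zy : ∀ k : ℤ, y ^ (5 * k) = 1 := by
    intro k
    rw [zpow_mul, show (5 : ℤ) = ((5 : ℕ) : ℤ) from rfl, zpow_natCast, y5, one_zpow]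
  have cxy : Commute x y := xy
  by_cases h0 : i % 5 = 0
  · -- `a` is a power of `y`
    apply hky
    have h1 : a = y ^ j := by
      obtain ⟨k, hk⟩ := Int.dvd_of_emod_eq_zero h0
      rw [ha, hk, zx, one_mul]
    have ha1 : a ≠ 1 := by
      rintro rfl
      rw [orderOf_one] at hao
      norm_num at hao
    have h2 : zpowers a = zpowers y := by
      apply eq_of_le_of_card_ge
      · rw [zpowers_le, h1]; exact zpow_mem (mem_zpowers y) j
      · rw [Nat.card_zpowers, Nat.card_zpowers, hao, hyo]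
    rw [← h2, ← hAa]
    exact hA'
  · obtain ⟨k, hk⟩ : ∃ k : ℤ, (i * k) % 5 = 1 := by
      have : i % 5 = 1 ∨ i % 5 = 2 ∨ i % 5 = 3 ∨ i % 5 = 4 := by omega
      rcases this with h | h | h | h
      · exact ⟨1, by omega⟩
      · exact ⟨3, by omega⟩
      · exact ⟨2, by omega⟩
      · exact ⟨4, by omega⟩
    have h1 : a ^ k = x * y ^ ((j * k) % 5).toNat := by
      rw [ha, (cxy.zpow_zpow i j).mul_zpow, ← zpow_mul, ← zpow_mul]
      have e1 : i * k = 5 * (i * k / 5) + 1 := by omega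
      have e2 : j * k = 5 * (j * k / 5) + (((j * k) % 5).toNat : ℤ) := by omega
      have e3 : x ^ (i * k) = x := by rw [e1, zpow_add, zx, one_mul, zpow_one]
      have e4 : y ^ (j * k) = y ^ ((j * k) % 5).toNat := by
        conv_lhs => rw [e2]
        rw [zpow_add, zy, one_mul, zpow_natCast]
      rw [e3, e4]
    have h2 : a ^ k ≠ 1 := by
      intro h
      rw [h] at h1
      apply hy
      -- `x = y ^ -r`
      have h3 : x⁻¹ = y ^ ((j * k) % 5).toNat := inv_eq_of_mul_eq_one_right h1.symm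
      have h4 : zpowers x = zpowers y := by
        apply eq_of_le_of_card_ge
        · rw [zpowers_le, ← inv_inv x, h3]
          exact inv_mem (pow_mem (mem_zpowers y) _)
        · rw [Nat.card_zpowers, Nat.card_zpowers, hxo, hyo]
      rw [h4]
      exact mem_zpowers y
    have h3 := gen _ (zpow_mem (mem_zpowers a) k) h2
    apply hkx ((j * k) % 5).toNat (by omega)
    rw [← h1, h3, ← hAa]
    exact hA'

/-! ### Words in `J2` -/

/-- the element of a word -/
noncomputable def el (w : List ℕ) : ↥G := ⟨pw w, pw_mem w⟩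

theorem el_mul (v w : List ℕ) : el v * el w = el (v ++ w) := Subtype.ext (pw_mul v w)

theorem el_inv (v : List ℕ) : (el v)⁻¹ = el v.reverse := Subtype.ext (pw_inv v)

theorem el_nil : el [] = 1 := rfl

theorem el_eq {v w : List ℕ} (h : chk v w = true) : el v = el w := Subtype.ext (pw_eq h)

theorem el_ne {v w : List ℕ} (i : Fin 100) (h : Nat.beq (run v i) (run w i) = false) : el v ≠ el w := by
  intro h1
  have h2 : pw v = pw w := congrArg Subtype.val h1
  have h3 : run v i = run w i := by rw [← pw_val, ← pw_val, h2]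
  rw [h3] at h
  have h4 : Nat.beq (run w i) (run w i) = true := Nat.beq_refl _
  rw [h4] at h
  exact absurd h (by decide)

/-- the word of a power -/
def rp (w : List ℕ) : ℕ → List ℕ
  | 0 => []
  | n + 1 => rp w n ++ w

theorem el_pow (w : List ℕ) (n : ℕ) : el w ^ n = el (rp w n) := by
  induction n with
  | zero => rfl
  | succ n ih => rw [pow_succ, ih, el_mul]; rfl

def wx : List ℕ := [1, 2, 0]
def wy : List ℕ := [4, 3, 2, 3, 1, 2, 3, 1]

/-- the word of `c (g c g⁻¹)` -/
def cw (c g : List ℕ) : List ℕ := c ++ ((g ++ c) ++ g.reverse)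

theorem el_cw (c g : List ℕ) : el c * (el g * el c * (el g)⁻¹) = el (cw c g) := by
  rw [el_inv, el_mul, el_mul, el_mul]; rfl

theorem not_dvd : ¬ 125 ∣ Nat.card ↥G := by
  rw [card_G]; norm_num

theorem kill {c g : List ℕ} (h : chk (rp (cw c g) 7) [] = true) (i : Fin 100)
    (hi : Nat.beq (run (cw c g) i) (run [] i) = false) : ¬ Pr 5 (zpowers (el c)) := by
  have hfin : Finite ↥G := Nat.finite_of_card_ne_zero (by rw [card_G]; norm_num)
  refine key not_dvd (g := el g) ?_ ?_
  · rw [el_cw, el_pow, el_eq h, el_nil]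
  · rw [el_cw]
    exact el_ne i hi

theorem k10 : ¬ Pr 5 (zpowers (el wx)) := kill (g := [3, 4, 2, 3, 2]) (by decide +kernel) 1 (by decide +kernel)
theorem k01 : ¬ Pr 5 (zpowers (el wy)) := kill (g := [3, 0, 1, 0]) (by decide +kernel) 0 (by decide +kernel)
theorem k11 : ¬ Pr 5 (zpowers (el (wx ++ rp wy 1))) :=
  kill (g := [2, 3, 1, 2]) (by decide +kernel) 0 (by decide +kernel)
theorem k12 : ¬ Pr 5 (zpowers (el (wx ++ rp wy 2))) :=
  kill (g := [3, 4, 2, 3, 0]) (by decide +kernel) 0 (by decide +kernel)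
theorem k13 : ¬ Pr 5 (zpowers (el (wx ++ rp wy 3))) := kill (g := [2]) (by decide +kernel) 0 (by decide +kernel)
theorem k14 : ¬ Pr 5 (zpowers (el (wx ++ rp wy 4))) := kill (g := [0]) (by decide +kernel) 0 (by decide +kernel)

theorem x5 : el wx ^ 5 = 1 := by
  rw [el_pow]; exact el_eq (v := rp wx 5) (w := []) (by decide +kernel)
theorem y5 : el wy ^ 5 = 1 := by
  rw [el_pow]; exact el_eq (v := rp wy 5) (w := []) (by decide +kernel)
theorem xy : el wx * el wy = el wy * el wx := by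
  rw [el_mul, el_mul]; exact el_eq (by decide +kernel)
theorem x1 : el wx ≠ 1 := el_ne (w := []) 1 (by decide +kernel)

theorem y_ne (k : ℕ) (hk : k < 5) : el wy ≠ el wx ^ k := by
  rw [el_pow]
  interval_cases k
  · exact el_ne 0 (by decide +kernel)
  · exact el_ne 0 (by decide +kernel)
  · exact el_ne 0 (by decide +kernel)
  · exact el_ne 0 (by decide +kernel)
  · exact el_ne 0 (by decide +kernel)

theorem y_not_mem : el wy ∉ zpowers (el wx) := by
  rintro ⟨i, hi⟩
  have hi : el wx ^ i = el wy := hi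
  have e1 : i = 5 * (i / 5) + ((i % 5).toNat : ℤ) := by omega
  apply y_ne (i % 5).toNat (by omega)
  rw [← hi]
  conv_lhs => rw [e1]
  rw [zpow_add, zpow_mul, show (5 : ℤ) = ((5 : ℕ) : ℤ) from rfl, zpow_natCast, x5, one_zpow, one_mul, zpow_natCast]

theorem kill_G : Kill 5 ↥G := by
  have hfin : Finite ↥G := Nat.finite_of_card_ne_zero (by rw [card_G]; norm_num)
  refine kill_of_six ?_ x5 y5 xy x1 y_not_mem k01 ?_
  · rw [card_G, show (604800 : ℕ) = 5 ^ 2 * 24192 by norm_num, Nat.factorization_mul (by norm_num) (by norm_num),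
      Finsupp.add_apply, Nat.Prime.factorization_pow (by norm_num), Finsupp.single_eq_same,
      Nat.factorization_eq_zero_of_not_dvd (by norm_num)]
  · intro r hr
    rw [el_pow, el_mul]
    interval_cases r
    · have h : wx ++ rp wy 0 = wx := List.append_nil _
      rw [h]
      exact k10
    · exact k11
    · exact k12
    · exact k13
    · exact k14

/-- **No subgroup of order 5 of `J2` has `Pr 5`.** -/
theorem kill_j2_five {G' : Type u} [Group G'] (h : Spor.IsoJ2 G') : Kill 5 G' := by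
  obtain ⟨e⟩ := h
  obtain ⟨f⟩ := J2_iso Cfsg.Agent.J2Sylow.SporSylow.card_J2
  exact kill_G.congr (e.trans f).symm

end Cfsg.Agent.H968.Tor.JTwo
end

-- part: H14/Tor/FactsRu
section
/-!
# S3235: the facts for `Ru` (helper14)
-/

set_option autoImplicit false

namespace Cfsg.Agent.H14.Tor

open Subgroup Cfsg Cfsg.Agent.H33.Tor

universe u

namespace Ru

open Cfsg.Agent.SporadicB Cfsg.Agent.SporadicB.RuOrder Cfsg.Agent.H436.TwoRu Cfsg.Agent.SporRec.TCUpperCert
open Cfsg.Agent.H461.T5.Ru (wa wb wc chk_a chk_b chk_c chk_ac chk_bc chk_ab pow_five P)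
open Cfsg.Agent.KFacts.Ru Cfsg.Agent.KFacts.Ru.CentEng Cfsg.Agent.RuD.Letters Cfsg.Agent.Lib

theorem le_of_dvd_3375 {c : ℕ} (h : c ∣ 2 ^ 14 * 3375) (hodd : Odd c) (h5 : ¬ 5 ^ 3 ∣ c) : c ≤ 675 := by
  have h1 : c ∣ 3375 := by
    have h3 : Nat.Coprime c (2 ^ 14) := (Nat.coprime_two_right.2 hodd).pow_right 14
    exact h3.dvd_of_dvd_mul_left h
  have h4 : c ∈ Nat.divisors 3375 := Nat.mem_divisors.2 ⟨h1, by norm_num⟩
  have h6 : ∀ c ∈ Nat.divisors 3375, ¬ 5 ^ 3 ∣ c → c ≤ 675 := by (rewrite [Cfsg.Agent.Lib.DivFast.divisors_eq]; decide +kernel)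
  exact h6 c h4 h5

theorem card_invol (z : RuOrder.H) (hz : orderOf z = 2) : Nat.card (centralizer ({z} : Set RuOrder.H)) ≤ 245760 := by
  have := finite_H
  obtain ⟨C, -, -⟩ := CpAutRuFive.exists_C
  have hzz : z * z = 1 := by rw [← pow_two, ← hz, pow_orderOf_eq_one]
  have hz1 : z ≠ 1 := by
    rintro rfl
    rw [orderOf_one] at hz
    omega
  have key : ∀ g a : RuOrder.H, g * a * g⁻¹ = z →
      Nat.card (centralizer ({z} : Set RuOrder.H)) = Nat.card (centralizer ({a} : Set RuOrder.H)) := by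
    intro g a hg
    rw [← hg]
    exact (CpAutRuFive.card_conj g a a).1
  rcases Cfsg.Agent.KFacts.Ru.InvC.invol_cases' C (a := (1, 0)) (by decide) hzz hz1 with ⟨g, hg⟩ | ⟨g, hg⟩
  · rw [key g _ hg, Cfsg.Agent.Ru127.Sg.card_cent C]
  · rw [key g _ hg]
    have h6 := Cfsg.Agent.Ru127.CardD.card_cent_v (C := C) (a := (1, 0)) (by decide)
    rw [top_inf_eq] at h6
    rw [h6]
    norm_num

theorem five : Facts 5 RuOrder.H := by
  have : Fact (Nat.Prime 5) := ⟨by norm_num⟩
  have : Finite RuOrder.H := finite_H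
  have hac := eq_of_chkEq chk_ac
  have hbc := eq_of_chkEq chk_bc
  have hab := eq_of_chkEq chk_ab
  simp only [wprod_append] at hac hbc hab
  obtain ⟨C, hz, -⟩ := CpAutRuFive.exists_C
  refine facts_of_central (p := 5) (by rw [RuOrder.card_H]; norm_num) (a := P wa) (b := P wb) (c := P wc)
    (t := wprod ml [1, 1]) (pow_five chk_a) (pow_five chk_b) (pow_five chk_c) ?_ hac hbc hab ?_
    CpAutRuFive.commA.symm (k := 1) (m := 675) (B := 245760) (by norm_num) RuOrder.card_H card_invol ?_ (by norm_num)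
  · intro h
    have h2 := evalK_eq wc ⟨1, by norm_num⟩
    have h3 : (wprod ml wc : RuOrder.H) = 1 := h
    rw [h3] at h2
    exact Nat.ne_of_beq_eq_false Cfsg.Agent.H461.T5.Ru.chk_ne h2.symm
  · rw [← hz]
    exact orderOf_eq_prime (by rw [pow_two]; exact C.z_sq 1) (fun h => one_ne_zero (C.z_eq_one h))
  · intro x hx hodd h3
    exact le_of_dvd_3375 (Cfsg.Agent.H296.Fr.Ru.cent35 x (Or.inr hx)) hodd h3

theorem seven : Facts 7 RuOrder.H := by
  have := finite_H
  exact Facts.even Cfsg.Agent.H296.Fr.Ru.even_seven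

theorem dvd_self {G : Type u} [Group G] (x : G) : orderOf x ∣ Nat.card (centralizer ({x} : Set G)) := by
  have h3 : x ∈ centralizer ({x} : Set G) := mem_centralizer_singleton_iff.2 rfl
  exact Subgroup.orderOf_dvd_natCard _ h3

theorem thirteen : Facts 13 RuOrder.H := by
  have := finite_H
  intro x hx
  have h1 := cent13 x hx
  have h2 := dvd_self x
  rw [hx] at h2
  obtain ⟨k, hk⟩ := h2
  rw [hk] at h1
  have h3 : k ∣ 4 := Nat.dvd_of_mul_dvd_mul_left (by norm_num) h1
  have h4 : k = 1 ∨ 2 ∣ k := by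
    have h5 : k ∈ Nat.divisors 4 := Nat.mem_divisors.2 ⟨h3, by norm_num⟩
    have h6 : ∀ k ∈ Nat.divisors 4, k = 1 ∨ 2 ∣ k := by decide
    exact h6 k h5
  rcases h4 with rfl | h4
  · exact Or.inr (Or.inl (Sm.of_card (by norm_num) (by norm_num) (by rw [hk]) (by rw [RuOrder.card_H]; norm_num)))
  · exact Or.inl (Ev.of_even (by rw [hk]; exact h4.mul_left _))

theorem twentynine : Facts 29 RuOrder.H :=
  Facts.self (by norm_num) (by norm_num) (fun x hx => Nat.dvd_antisymm (by simpa using cent29 x hx)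
    (by have := dvd_self x; rwa [hx] at this)) (by rw [RuOrder.card_H]; norm_num)

end Ru

open Cfsg.Agent.SporadicB in
theorem facts_ru {p : ℕ} (hp : p.Prime) (hp5 : 5 ≤ p) {G : Type u} [Group G] (h : Spor.IsoRu G) : Facts p G := by
  obtain ⟨e⟩ := h
  have e' : G ≃* RuOrder.H := e.trans RuLat.Main.equiv
  by_cases hd : p ∣ Nat.card G
  · rw [Nat.card_congr e'.toEquiv, RuOrder.card_H] at hd
    have h1 : p = 5 ∨ p = 7 ∨ p = 13 ∨ p = 29 := by
      have h2 : p ∣ 2 ^ 14 * 3 ^ 3 * 5 ^ 3 * 7 * 13 * 29 := by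
        have e : 2 ^ 14 * 3 ^ 3 * 5 ^ 3 * 7 * 13 * 29 = 145926144000 := by norm_num
        rw [e]; exact hd
      have key : ∀ {q k : ℕ}, q.Prime → p ∣ q ^ k → p = q := fun hq h =>
        (Nat.prime_dvd_prime_iff_eq hp hq).1 (hp.dvd_of_dvd_pow h)
      have key1 : ∀ {q : ℕ}, q.Prime → p ∣ q → p = q := fun hq h => (Nat.prime_dvd_prime_iff_eq hp hq).1 h
      rcases hp.dvd_mul.1 h2 with h2 | h2
      · rcases hp.dvd_mul.1 h2 with h2 | h2
        · rcases hp.dvd_mul.1 h2 with h2 | h2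
          · rcases hp.dvd_mul.1 h2 with h2 | h2
            · rcases hp.dvd_mul.1 h2 with h2 | h2
              · have := key Nat.prime_two h2; omega
              · have := key Nat.prime_three h2; omega
            · exact Or.inl (key Nat.prime_five h2)
          · exact Or.inr (Or.inl (key1 (by norm_num) h2))
        · exact Or.inr (Or.inr (Or.inl (key1 (by norm_num) h2)))
      · exact Or.inr (Or.inr (Or.inr (key1 (by norm_num) h2)))
    rcases h1 with rfl | rfl | rfl | rfl
    · exact Ru.five.congr e'.symm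
    · exact Ru.seven.congr e'.symm
    · exact Ru.thirteen.congr e'.symm
    · exact Ru.twentynine.congr e'.symm
  · exact fun x hx => absurd (hx ▸ orderOf_dvd_natCard x) hd

end Cfsg.Agent.H14.Tor
end

-- part: H682/Tor/LyRow
section
/-!
# S3235: the Lyons group (helper682)

* `facts_ly` : `Facts p G` for `p ≠ 5, 37, 67`;
* `kill_ly_five`, `kill_ly_big` : `p = 5` (by `G₂(5) ≤ Ly`), `p = 37, 67` (by the order of `PSL₂(p)`);
-/

set_option autoImplicit false

namespace Cfsg.Agent.H682.Tor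

open Subgroup Cfsg Cfsg.Agent.H103.Tor Cfsg.Agent.H33.Tor

universe u v

theorem card_ly {G : Type u} [Group G] (h : Spor.IsoLy G) : Nat.card G = 51765179004000000 := by
  obtain ⟨e⟩ := h
  rw [Nat.card_congr e.toEquiv]
  exact Cfsg.Agent.Ly.Setup.card_ly

theorem primes_ly {p : ℕ} (hp : p.Prime) (hp5 : 5 ≤ p) (h : p ∣ 51765179004000000) :
    p = 5 ∨ p = 7 ∨ p = 11 ∨ p = 31 ∨ p = 37 ∨ p = 67 := by
  have h1 : p ∣ 2 ^ 8 * 3 ^ 7 * 5 ^ 6 * 7 * 11 * 31 * 37 * 67 := by norm_num; exact h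
  simp only [hp.dvd_mul] at h1
  have k : ∀ {a b : ℕ}, a.Prime → p ∣ a ^ b → p = a := fun ha h => (Nat.prime_dvd_prime_iff_eq hp ha).1 (hp.dvd_of_dvd_pow h)
  have k' : ∀ {a : ℕ}, a.Prime → p ∣ a → p = a := fun ha h => (Nat.prime_dvd_prime_iff_eq hp ha).1 h
  rcases h1 with ((((((h1 | h1) | h1) | h1) | h1) | h1) | h1) | h1
  · have := k Nat.prime_two h1; omega
  · have := k Nat.prime_three h1; omega
  · exact Or.inl (k Nat.prime_five h1)
  · exact Or.inr (Or.inl (k' (by norm_num) h1))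
  · exact Or.inr (Or.inr (Or.inl (k' (by norm_num) h1)))
  · exact Or.inr (Or.inr (Or.inr (Or.inl (k' (by norm_num) h1))))
  · exact Or.inr (Or.inr (Or.inr (Or.inr (Or.inl (k' (by norm_num) h1)))))
  · exact Or.inr (Or.inr (Or.inr (Or.inr (Or.inr (k' (by norm_num) h1)))))

/-- `7`, `11` -/
theorem facts_ly_even {p : ℕ} (hp : p = 7 ∨ p = 11) {G : Type u} [Group G] [Finite G] (h : Spor.IsoLy G) :
    Facts p G := by
  obtain ⟨-, -, hcard, ⟨L⟩⟩ := TypeM.FactsLy.facts h
  refine facts_of_cent (by rcases hp with rfl | rfl <;> norm_num) ?_ L.orderOf_t ?_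
  · rw [hcard]
    rcases hp with rfl | rfl <;> norm_num
  · rw [TypeM.FactsAut.card_centralizer L (by norm_num)]
    rcases hp with rfl | rfl
    · exact Nat.dvd_factorial (by norm_num) (by norm_num)
    · exact Nat.dvd_factorial (by norm_num) (by norm_num)

theorem facts_ly_31 {G : Type u} [Group G] [Finite G] (h : Spor.IsoLy G) : Facts 31 G := by
  obtain ⟨e⟩ := h
  refine Facts.congr e.symm (Facts.self (by norm_num) (by norm_num) (fun x hx => ?_) ?_)
  · rw [← centralizer_zpowers]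
    exact H438.Fpr.Ly.cent31 (by rw [Nat.card_zpowers, hx])
  · rw [Cfsg.Agent.Ly.Setup.card_ly]
    norm_num

/-- **the facts** for `p ≠ 5, 37, 67` -/
theorem facts_ly {p : ℕ} (hp : p.Prime) (hp5 : 5 ≤ p) {G : Type u} [Group G] [Finite G] (h : Spor.IsoLy G)
    (h5 : p ≠ 5) (h37 : p ≠ 37) (h67 : p ≠ 67) : Facts p G := by
  by_cases hd : p ∣ Nat.card G
  · rw [card_ly h] at hd
    rcases primes_ly hp hp5 hd with h1 | h1 | h1 | h1 | h1 | h1
    · exact absurd h1 h5
    · exact facts_ly_even (Or.inl h1) h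
    · exact facts_ly_even (Or.inr h1) h
    · subst h1; exact facts_ly_31 h
    · exact absurd h1 h37
    · exact absurd h1 h67
  · intro x hx
    exact absurd (hx ▸ orderOf_dvd_natCard x) hd

/-- `p = 37, 67` : `19`, `17` do not divide `|G|` -/
theorem kill_ly_big {p : ℕ} (hp : p = 37 ∨ p = 67) {G : Type u} [Group G] [Finite G] (h : Spor.IsoLy G) :
    Kill p G := by
  obtain ⟨-, hsimp, hcard, -⟩ := TypeM.FactsLy.facts h
  have hna : ¬ IsMulCommutative G := by
    intro hc
    have h1 : (Nat.card G).Prime := by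
      let _ : CommGroup G := { (inferInstance : Group G) with mul_comm := hc.is_comm.comm }
      exact IsSimpleGroup.prime_card
    rw [hcard] at h1
    revert h1
    norm_num
  refine kill_of_order (by rcases hp with rfl | rfl <;> norm_num) (by rcases hp with rfl | rfl <;> norm_num) hna ?_
  rw [hcard]
  rcases hp with rfl | rfl <;> norm_num

/-- `p = 5` : the subgroup `G₂(5)` -/
theorem kill_ly_five {G : Type u} [Group G] [Finite G] (h : Spor.IsoLy G)
    (ih : ∀ (K : Type u) [Group K] [Finite K] [IsSimpleGroup K], Nat.card K < Nat.card G →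
      (¬ ∀ x y : K, x * y = y * x) → H103.Tor.Row 5 K) : Kill 5 G := by
  have hcard := card_ly h
  obtain ⟨e⟩ := h
  set K : Subgroup G := SporRec.LyG2.LyEmb.H.map e.symm.toMonoidHom with hK
  let f : SporRec.LyG2.LyEmb.H ≃* K := SporRec.LyG2.LyEmb.H.equivMapOfInjective _ e.symm.injective
  have hs : IsSimpleGroup K := by
    have := SporRec.LyG2.LyEmb.isSimpleGroup_H
    exact MulEquiv.isSimpleGroup f.symm
  have hc : Nat.card K = 5859000000 := by
    rw [← Nat.card_congr f.toEquiv, SporRec.LyG2.LyEmb.card_H]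
  have hi : K.index = 8835156 := by
    have h1 := K.card_mul_index
    rw [hc, hcard] at h1
    omega
  refine kill_of_sub (by norm_num) ih hs (by rw [hc, hcard]; norm_num) ?_ (by rw [hi]; norm_num) (not_target_ly hc)
  intro h1
  let _ : CommGroup K := { (inferInstance : Group K) with mul_comm := h1 }
  have h2 : (Nat.card K).Prime := IsSimpleGroup.prime_card
  rw [hc] at h2
  revert h2
  norm_num

/-- **the kill** for `p = 5, 37, 67` -/
theorem kill_ly {p : ℕ} (hp : p = 5 ∨ p = 37 ∨ p = 67) {G : Type u} [Group G] [Finite G] (h : Spor.IsoLy G)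
    (ih : ∀ (K : Type u) [Group K] [Finite K] [IsSimpleGroup K], Nat.card K < Nat.card G →
      (¬ ∀ x y : K, x * y = y * x) → H103.Tor.Row p K) : Kill p G := by
  rcases hp with hp | hp
  · subst hp
    exact kill_ly_five h ih
  · exact kill_ly_big hp h

end Cfsg.Agent.H682.Tor
end

-- part: H682/Tor/ONRow
section
/-!
# S3235: the O'Nan group (helper682)

* `facts_on` : `Facts p G` for `p ≠ 7`;
* `kill_on_seven` : `p = 7`, by `L₃(7) ≤ ON`.
-/

set_option autoImplicit false

namespace Cfsg.Agent.H682.Tor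

open Subgroup Cfsg Cfsg.Agent.H103.Tor Cfsg.Agent.H33.Tor

universe u v

theorem card_ON' : Nat.card Spor.ON = 460815505920 := H474.ONC.card_ON

theorem card_on {G : Type u} [Group G] (h : Spor.IsoON G) : Nat.card G = 460815505920 := by
  obtain ⟨e⟩ := h
  rw [Nat.card_congr e.toEquiv]
  exact card_ON'

theorem primes_on {p : ℕ} (hp : p.Prime) (hp5 : 5 ≤ p) (h : p ∣ 460815505920) :
    p = 5 ∨ p = 7 ∨ p = 11 ∨ p = 19 ∨ p = 31 := by
  have h1 : p ∣ 2 ^ 9 * 3 ^ 4 * 5 * 7 ^ 3 * 11 * 19 * 31 := by norm_num; exact h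
  simp only [hp.dvd_mul] at h1
  have k : ∀ {a b : ℕ}, a.Prime → p ∣ a ^ b → p = a := fun ha h => (Nat.prime_dvd_prime_iff_eq hp ha).1 (hp.dvd_of_dvd_pow h)
  have k' : ∀ {a : ℕ}, a.Prime → p ∣ a → p = a := fun ha h => (Nat.prime_dvd_prime_iff_eq hp ha).1 h
  rcases h1 with (((((h1 | h1) | h1) | h1) | h1) | h1) | h1
  · have := k Nat.prime_two h1; omega
  · have := k Nat.prime_three h1; omega
  · exact Or.inl (k' Nat.prime_five h1)
  · exact Or.inr (Or.inl (k (by norm_num) h1))
  · exact Or.inr (Or.inr (Or.inl (k' (by norm_num) h1)))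
  · exact Or.inr (Or.inr (Or.inr (Or.inl (k' (by norm_num) h1))))
  · exact Or.inr (Or.inr (Or.inr (Or.inr (k' (by norm_num) h1))))

theorem facts_on {p : ℕ} (hp : p.Prime) (hp5 : 5 ≤ p) {G : Type u} [Group G] [Finite G] (h : Spor.IsoON G)
    (h7 : p ≠ 7) : Facts p G := by
  by_cases hd : p ∣ Nat.card G
  · rw [card_on h] at hd
    obtain ⟨e⟩ := h
    refine Facts.congr e.symm ?_
    have hfin : Finite Spor.ON := KFacts.ON.Cent.finite_ON
    rcases primes_on hp hp5 hd with h1 | h1 | h1 | h1 | h1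
    · subst h1
      exact facts_of_cent (z := Cfsg.Agent.SporadicB.ON45Word.on .f) hp (by rw [card_ON']; norm_num)
        H19.Odd.ONSeven.order_f (by rw [KFacts.ON.Cent.card_cent]; norm_num)
    · exact absurd h1 h7
    · subst h1
      exact Facts.self hp (by norm_num) (fun x hx => H474.ONC.card_cent_eleven hx) (by rw [card_ON']; norm_num)
    · subst h1
      exact Facts.self hp (by norm_num) (fun x hx => H19.Odd.ONEl.card_nineteen hx) (by rw [card_ON']; norm_num)
    · subst h1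
      exact Facts.self hp (by norm_num) (fun x hx => H19.Odd.ONEl.card_31 hx) (by rw [card_ON']; norm_num)
  · intro x hx
    exact absurd (hx ▸ orderOf_dvd_natCard x) hd

/-- `p = 7` : the subgroup `L₃(7)` -/
theorem kill_on_seven {G : Type u} [Group G] [Finite G] (h : Spor.IsoON G)
    (ih : ∀ (K : Type u) [Group K] [Finite K] [IsSimpleGroup K], Nat.card K < Nat.card G →
      (¬ ∀ x y : K, x * y = y * x) → H103.Tor.Row 7 K) : Kill 7 G := by
  have hcard := card_on h
  obtain ⟨e⟩ := h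
  obtain ⟨N, hN, hi, ⟨f⟩⟩ := SporRec.ONAssembly.exists_normal SporRec.ONLower.ab_ne_one
  set N' : Subgroup Spor.ON := N.map SporRec.ONAssembly.H.subtype with hN'
  set K : Subgroup G := N'.map e.symm.toMonoidHom with hK
  let f1 : N ≃* N' := N.equivMapOfInjective _ (Subgroup.subtype_injective _)
  let f2 : N' ≃* K := N'.equivMapOfInjective _ e.symm.injective
  let g : K ≃* SporRec.ONL37.PSL37 := (f2.symm.trans f1.symm).trans f
  have hs : IsSimpleGroup K := by
    have := SporRec.ONL37.simple_PSL37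
    exact MulEquiv.isSimpleGroup g
  have hc : Nat.card K = 1876896 := by
    rw [Nat.card_congr g.toEquiv, SporRec.ONL37.card_PSL37]
  have hi : K.index = 245520 := by
    have h1 := K.card_mul_index
    rw [hc, hcard] at h1
    omega
  refine kill_of_sub (by norm_num) ih hs (by rw [hc, hcard]; norm_num) ?_ (by rw [hi]; norm_num) (not_target_on hc)
  intro h1
  let _ : CommGroup K := { (inferInstance : Group K) with mul_comm := h1 }
  have h2 : (Nat.card K).Prime := IsSimpleGroup.prime_card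
  rw [hc] at h2
  revert h2
  norm_num

end Cfsg.Agent.H682.Tor
end

-- part: H33/Tor/SporA
section
/-!
# S3235: the kills of the sporadic groups, first part (helper33)
-/

set_option autoImplicit false

namespace Cfsg.Agent.H33.Tor

open Subgroup Cfsg Cfsg.Agent.H103.Tor
open Cfsg.Agent.NotCT

universe u

section

variable {p : ℕ} {G : Type u} [Group G] [Finite G] [IsSimpleGroup G]

theorem kill_m12 (hp : p.Prime) (hp5 : 5 ≤ p)
    (hcl : ∀ (L : Type u) [Group L] [Finite L] [IsSimpleGroup L], IsKnownSimple' L) (ih : IHyp p G)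
    (hs : IsSporadicGroup G) (h : Spor.IsoM12 G) : Kill p G := by
  by_cases h5 : p = 5
  · subst h5
    exact kill_of_odd hp hp5 (H516.not_comm_of_spor (Or.inl hs)) fun x hx => Or.inr (iv_of_m12 h hx)
  · exact kill_spor hp hp5 hcl ih hs (fun h => absurd h h5) (H463.TorM.facts_m12 hp hp5 h)

theorem kill_j1 (hp : p.Prime) (hp5 : 5 ≤ p)
    (hcl : ∀ (L : Type u) [Group L] [Finite L] [IsSimpleGroup L], IsKnownSimple' L) (ih : IHyp p G)
    (hs : IsSporadicGroup G) (h : Spor.IsoJ1 G) : Kill p G := by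
  by_cases h5 : p = 5
  · subst h5
    exact kill_of_odd hp hp5 (H516.not_comm_of_spor (Or.inl hs)) fun x hx => Or.inr (iv_of_j1 h hx)
  · exact kill_spor hp hp5 hcl ih hs (fun h => absurd h h5) (H71.Tor.facts_j1 hp hp5 h)

theorem kill_j2 (hp : p.Prime) (hp5 : 5 ≤ p)
    (hcl : ∀ (L : Type u) [Group L] [Finite L] [IsSimpleGroup L], IsKnownSimple' L) (ih : IHyp p G)
    (hs : IsSporadicGroup G) (h : Spor.IsoJ2 G) : Kill p G := by
  by_cases h5 : p = 5
  · subst h5
    exact H968.Tor.JTwo.kill_j2_five h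
  · have h6 : p ≠ 6 := by
      rintro rfl
      exact absurd hp (by norm_num)
    exact kill_spor hp hp5 hcl ih hs (fun h => absurd h h5) (H71.Tor.facts_j2 hp (by omega) h)

theorem kill_he (hp : p.Prime) (hp5 : 5 ≤ p)
    (hcl : ∀ (L : Type u) [Group L] [Finite L] [IsSimpleGroup L], IsKnownSimple' L) (ih : IHyp p G)
    (hs : IsSporadicGroup G) (h : Spor.IsoHe G) : Kill p G := by
  have hex := not_three (Orders.he h) (by norm_num) (by norm_num) (by norm_num)
  by_cases h7 : p = 7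
  · subst h7
    intro A hA
    obtain ⟨x, hxA, hxo, hAx⟩ := exists_gen hp hA.card
    rcases H14.Tor.facts_he_seven h hxo with ⟨z, hz, h1⟩ | h1
    · refine no_inv hp hp5 hcl ih hs (fun _ => hex) hz hA ?_
      rw [hAx, zpowers_le]
      exact mem_centralizer_singleton_iff.2 h1.symm
    · refine H463.TorHe.not_pr_seven h hA ?_
      rw [hAx, centralizer_zpowers x]
      exact h1
  · exact kill_spor hp hp5 hcl ih hs (fun _ => hex) (H14.Tor.facts_he hp hp5 h7 h)

theorem kill_on (hp : p.Prime) (hp5 : 5 ≤ p)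
    (hcl : ∀ (L : Type u) [Group L] [Finite L] [IsSimpleGroup L], IsKnownSimple' L) (ih : IHyp p G)
    (hs : IsSporadicGroup G) (h : Spor.IsoON G) : Kill p G := by
  by_cases h7 : p = 7
  · subst h7
    exact H682.Tor.kill_on_seven h ih
  · exact kill_spor hp hp5 hcl ih hs (fun _ => not_three (Orders.on h) (by norm_num) (by norm_num) (by norm_num))
      (H682.Tor.facts_on hp hp5 h h7)

theorem kill_ly (hp : p.Prime) (hp5 : 5 ≤ p)
    (hcl : ∀ (L : Type u) [Group L] [Finite L] [IsSimpleGroup L], IsKnownSimple' L) (ih : IHyp p G)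
    (hs : IsSporadicGroup G) (h : Spor.IsoLy G) : Kill p G := by
  by_cases h5 : p = 5 ∨ p = 37 ∨ p = 67
  · exact H682.Tor.kill_ly h5 h ih
  · push Not at h5
    exact kill_spor hp hp5 hcl ih hs (fun _ => not_three (Orders.ly h) (by norm_num) (by norm_num) (by norm_num))
      (H682.Tor.facts_ly hp hp5 h h5.1 h5.2.1 h5.2.2)

/-- the groups whose facts hold for all primes, except the Conway groups, `Suz`, `HN`, `Th`, `B` and `M` -/
theorem kill_A (hp : p.Prime) (hp5 : 5 ≤ p)
    (hcl : ∀ (L : Type u) [Group L] [Finite L] [IsSimpleGroup L], IsKnownSimple' L) (ih : IHyp p G)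
    (hs : IsSporadicGroup G)
    (h : Spor.IsoM11 G ∨ Spor.IsoM22 G ∨ Spor.IsoM23 G ∨ Spor.IsoM24 G ∨ Spor.IsoJ3 G ∨ Spor.IsoJ4 G ∨
      Spor.IsoMcL G ∨ Spor.IsoHS G ∨ Spor.IsoRu G ∨ Spor.IsoFi22 G ∨ Spor.IsoFi23 G ∨ Spor.IsoFi24' G) :
    Kill p G := by
  rcases h with h | h | h | h | h | h | h | h | h | h | h | h
  · exact kill_spor hp hp5 hcl ih hs (fun _ => not_three (Orders.m11 h) (by norm_num) (by norm_num) (by norm_num))
      (H463.TorM.facts_m11 hp hp5 h)
  · exact kill_spor hp hp5 hcl ih hs (fun _ => not_three (Orders.m22 h) (by norm_num) (by norm_num) (by norm_num))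
      (H463.TorM.facts_m22 hp hp5 h)
  · exact kill_spor hp hp5 hcl ih hs (fun _ => not_three (Orders.m23 h) (by norm_num) (by norm_num) (by norm_num))
      (H463.TorM.facts_m23 hp hp5 h)
  · exact kill_spor hp hp5 hcl ih hs (fun _ => not_three (Orders.m24 h) (by norm_num) (by norm_num) (by norm_num))
      (H463.TorM.facts_m24 hp hp5 h)
  · exact kill_spor hp hp5 hcl ih hs (fun _ => not_three (Orders.j3 h) (by norm_num) (by norm_num) (by norm_num))
      (H71.Tor.facts_j3 hp hp5 h)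
  · exact kill_spor hp hp5 hcl ih hs (fun _ => not_three (Orders.j4 h) (by norm_num) (by norm_num) (by norm_num))
      (H71.Tor.facts_j4 hp hp5 h)
  · exact kill_spor hp hp5 hcl ih hs (fun _ => not_three (Orders.mcl h) (by norm_num) (by norm_num) (by norm_num))
      (H14.Tor.facts_mcl hp hp5 h)
  · exact kill_spor hp hp5 hcl ih hs (fun _ => not_three (Orders.hs h) (by norm_num) (by norm_num) (by norm_num))
      (H14.Tor.facts_hs hp hp5 h)
  · exact kill_spor hp hp5 hcl ih hs (fun _ => not_three (Orders.ru h) (by norm_num) (by norm_num) (by norm_num))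
      (H14.Tor.facts_ru hp hp5 h)
  · exact kill_spor hp hp5 hcl ih hs (fun _ => not_three (Orders.fi22 h) (by norm_num) (by norm_num) (by norm_num))
      (H968.Tor.facts_fi22 hp hp5 h)
  · exact kill_spor hp hp5 hcl ih hs (fun _ => not_three (Orders.fi23 h) (by norm_num) (by norm_num) (by norm_num))
      (H968.Tor.facts_fi23 hp hp5 h)
  · exact kill_spor hp hp5 hcl ih hs (fun _ => not_three (Orders.fi24 h) (by norm_num) (by norm_num) (by norm_num))
      (H968.Tor.facts_fi24 hp hp5 h)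

end

end Cfsg.Agent.H33.Tor
end
end

-- part: H339/Tor/Sect
section
prune_inst 0x340061047d2210000000000260001e62a200010000680000004008000489896009002120b28014101008020400380060031000c00200000000000000011800800008000291480000000000000000000000000000000000000000000000000004000000000
set_option linter.all false
open scoped Cfsg.Agent.FastGrp

-- part: H339/Tor/Trans
section
/-!
# S3235: groups of `N`-transpositions (helper339)

`t` an involution all of whose products `t tᵍ` have order at most `N < p`. If `Pr p A` and `t` does not centralise `A` then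
`A`, `Aᵗ` generate an `SLT` in which `t` exchanges `u x` and `l y`, and the product `t t^(u kx) = l(ky) u(-kx)` has trace
`2 - k² xy`:

* `rec_pow` : `(M ^ n)₁₀ = q_n(tr M) M₁₀` for `det M = 1`;
* `exists_s` : there are a field `K` of characteristic `p` and `s ≠ 0` such that for all `k` prime to `p` some
  `q_n(2 - k² s)`, `1 ≤ n ≤ N`, vanishes;
* `no_six` (`p ≥ 13`, `N = 6`), `no_four` (`p ≥ 11`, `N = 4`), `no_three` (`p ≥ 7`, `N = 3`) : this is impossible.
-/

set_option autoImplicit false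

namespace Cfsg.Agent.H339.Tor

open Subgroup Matrix
open Cfsg.Agent.H103.Tor
open Cfsg.Agent.H333.SLTwoLine (Ker1 u l u_mul u_inv u_pow l_pow l_inv l_mul u_coe l_coe)

/-- the Chebyshev values -/
def q {K : Type*} [Field K] (τ : K) : ℕ → K
  | 0 => 0
  | 1 => 1
  | n + 2 => τ * q τ (n + 1) - q τ n

theorem rec_pow {K : Type*} [Field K] (M : Matrix (Fin 2) (Fin 2) K) (hM : M 0 0 * M 1 1 - M 0 1 * M 1 0 = 1) (n : ℕ) :
    (M ^ n) 1 0 = q (M 0 0 + M 1 1) n * M 1 0 ∧
      (M ^ (n + 1)) 1 0 = q (M 0 0 + M 1 1) (n + 1) * M 1 0 := by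
  have h2 : M * M = (M 0 0 + M 1 1) • M - 1 := by
    ext i j
    fin_cases i <;> fin_cases j <;> simp only [Matrix.mul_apply, Fin.sum_univ_two, _root_.Fin.zero_eta, _root_.Fin.isValue, _root_.Matrix.sub_apply, _root_.Matrix.smul_apply, _root_.smul_eq_mul, _root_.Matrix.one_apply_eq, _root_.Fin.mk_one, _root_.Nat.reduceAdd, _root_.ne_eq, _root_.zero_ne_one, _root_.not_false_eq_true, _root_.Matrix.one_apply_ne, _root_.sub_zero, _root_.one_ne_zero]
    · linear_combination (-1 : K) * hM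
    · ring
    · ring
    · linear_combination (-1 : K) * hM
  induction n with
  | zero => exact ⟨by simp [q], by simp [q]⟩
  | succ n ih =>
    refine ⟨ih.2, ?_⟩
    have h3 : M ^ (n + 1 + 1) = (M 0 0 + M 1 1) • M ^ (n + 1) - M ^ n := by
      rw [pow_succ (n := n + 1), pow_succ, mul_assoc, h2, mul_sub, mul_one, mul_smul_comm]
    rw [h3, Matrix.sub_apply, Matrix.smul_apply, ih.1, ih.2, q, smul_eq_mul]
    ring

/-- the product `l a · u b` -/
theorem lu_pow {K : Type*} [Field K] {a b : K} (ha : a ≠ 0) {n : ℕ}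
    (h : (l a * u b) ^ n = 1 ∨ (l a * u b) ^ n = -1) : q (2 + a * b) n = 0 := by
  have hc : (l a * u b).1 = !![1, b; a, 1 + a * b] := by
    show !![1, 0; a, 1] * !![1, b; 0, 1] = !![1, b; a, 1 + a * b]
    ext i j
    (revert i j; simp only [Matrix.mul_apply, Fin.sum_univ_two, _root_.Fin.forall_fin_succ, _root_.Matrix.of_apply, _root_.Matrix.cons_val', _root_.Matrix.cons_val_fin_one, Fin.isValue, _root_.Matrix.cons_val_zero, _root_.Matrix.cons_val_one, _root_.mul_one, _root_.MulZeroClass.mul_zero, _root_.add_zero, _root_.Matrix.cons_val_succ, _root_.forall_const, _root_.true_and, _root_.one_mul]) <;> (repeat' with_reducible apply And.intro) <;> ring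
  have h1 := (rec_pow (!![1, b; a, 1 + a * b] : Matrix (Fin 2) (Fin 2) K) (by simp only [_root_.Fin.isValue, _root_.Matrix.of_apply, _root_.Matrix.cons_val', _root_.Matrix.cons_val_zero, _root_.Matrix.cons_val_fin_one, _root_.Matrix.cons_val_one, _root_.one_mul]; ring) n).1
  have h2 : ((!![1, b; a, 1 + a * b] : Matrix (Fin 2) (Fin 2) K) ^ n) 1 0 = 0 := by
    have e0 : ∀ (g : _root_.Matrix.SpecialLinearGroup (Fin 2) K) (m : ℕ), (g ^ m).1 = g.1 ^ m := by
      intro g m
      induction m with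
      | zero => rfl
      | succ m ih =>
        rw [pow_succ, pow_succ, ← ih]
        rfl
    have e1 := e0 (l a * u b) n
    rw [← hc, ← e1]
    rcases h with h | h
    · rw [h]
      show (1 : Matrix (Fin 2) (Fin 2) K) 1 0 = 0
      simp
    · rw [h]
      show (-1 : Matrix (Fin 2) (Fin 2) K) 1 0 = 0
      simp
  rw [h2] at h1
  have e : (!![1, b; a, 1 + a * b] : Matrix (Fin 2) (Fin 2) K) 0 0 + (!![1, b; a, 1 + a * b] : Matrix (Fin 2) (Fin 2) K) 1 1
      = 2 + a * b := by
    simp only [_root_.Fin.isValue, _root_.Matrix.of_apply, _root_.Matrix.cons_val', _root_.Matrix.cons_val_zero, _root_.Matrix.cons_val_fin_one, _root_.Matrix.cons_val_one]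
    ring
  rw [e] at h1
  have h3 : (!![1, b; a, 1 + a * b] : Matrix (Fin 2) (Fin 2) K) 1 0 = a := by simp
  rw [h3] at h1
  exact (mul_eq_zero.1 h1.symm).resolve_right ha

variable {G : Type*} [Group G]

/-- `t` does not commute with `A`: then `A` and `tAt⁻¹` do not commute -/
theorem not_cm {p N : ℕ} (hp : p.Prime) (hp2 : p ≠ 2) (hNp : N < p) {A : Subgroup G} (hA : Nat.card A = p) {t : G}
    (ht : t * t = 1) (hN : ∀ g : G, ∃ n : ℕ, 0 < n ∧ n ≤ N ∧ (t * (g * t * g⁻¹)) ^ n = 1)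
    (hc : ¬ A ≤ centralizer ({t} : Set G)) : ¬ Cm A (cj t A) := by
  intro hcm
  apply hc
  have ht' : t⁻¹ = t := inv_eq_of_mul_eq_one_right ht
  have hpw : ∀ a ∈ A, a ^ p = 1 := by
    intro a ha
    have h1 : (⟨a, ha⟩ : A) ^ Nat.card A = 1 := pow_card_eq_one'
    rw [hA] at h1
    exact congrArg Subtype.val h1
  intro a ha
  rw [mem_centralizer_singleton_iff]
  obtain ⟨a', ha'⟩ : ∃ a', a' = t * a * t⁻¹ := ⟨_, rfl⟩
  have h1 : a' ∈ cj t A := by rw [ha']; exact conj_mem_cj ha
  have hcomm : Commute a a' := hcm a ha a' h1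
  obtain ⟨b, hb⟩ : ∃ b, b = a * a'⁻¹ := ⟨_, rfl⟩
  have hbp : b ^ p = 1 := by
    rw [hb, hcomm.inv_right.mul_pow, inv_pow, hpw a ha, ha', conj_pow, hpw a ha]
    group
  have htb : t * b * t = b⁻¹ := by
    have e1 : t * a' * t⁻¹ = a := by
      rw [ha']
      calc t * (t * a * t⁻¹) * t⁻¹ = (t * t) * a * (t * t)⁻¹ := by group
        _ = a := by rw [ht]; group
    calc t * b * t = t * (a * a'⁻¹) * t⁻¹ := by rw [hb, ht']
      _ = (t * a * t⁻¹) * (t * a' * t⁻¹)⁻¹ := by group
      _ = a' * a⁻¹ := by rw [e1, ← ha']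
      _ = b⁻¹ := by rw [hb]; group
  obtain ⟨n, hn0, hn, h2⟩ := hN b
  have h3 : t * (b * t * b⁻¹) = (b ^ 2)⁻¹ := by
    calc t * (b * t * b⁻¹) = (t * b * t) * b⁻¹ := by group
      _ = b⁻¹ * b⁻¹ := by rw [htb]
      _ = (b ^ 2)⁻¹ := by rw [pow_two]; group
  rw [h3, inv_pow, inv_eq_one, ← pow_mul] at h2
  have h4 : orderOf b ∣ Nat.gcd (2 * n) p := Nat.dvd_gcd (orderOf_dvd_of_pow_eq_one h2) (orderOf_dvd_of_pow_eq_one hbp)
  have h5 : Nat.gcd (2 * n) p = 1 := by
    refine Nat.Coprime.mul_left ?_ ?_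
    · exact (Nat.coprime_primes Nat.prime_two hp).2 (Ne.symm hp2)
    · exact (Nat.Coprime.symm ((Nat.Prime.coprime_iff_not_dvd hp).2 fun h => by
        have := Nat.le_of_dvd hn0 h
        omega))
  rw [h5, Nat.dvd_one, orderOf_eq_one_iff] at h4
  have h6 : a = a' := by
    rw [h4] at hb
    exact (mul_inv_eq_one.1 hb.symm)
  rw [ha'] at h6
  calc a * t = (t * a * t⁻¹) * t := by rw [← h6]
    _ = t * a := by group

/-- **the reduction to the traces** -/
theorem exists_s {p N : ℕ} (hp : p.Prime) (hp5 : 5 ≤ p) (hNp : N < p) {A : Subgroup G} (hA : Pr p A) {t : G}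
    (ht : t * t = 1) (hN : ∀ g : G, ∃ n : ℕ, 0 < n ∧ n ≤ N ∧ (t * (g * t * g⁻¹)) ^ n = 1)
    (hc : ¬ A ≤ centralizer ({t} : Set G)) :
    ∃ (K : Type) (_ : Field K) (_ : CharP K p) (s : K), s ≠ 0 ∧
      ∀ k : ℕ, ¬ p ∣ k → ∃ n : ℕ, 0 < n ∧ n ≤ N ∧ q (2 - (k : K) ^ 2 * s) n = 0 := by
  have ht' : t⁻¹ = t := inv_eq_of_mul_eq_one_right ht
  have hnc := not_cm hp (by omega) hNp hA.card ht hN hc
  have hS := (hA.pair t).resolve_left hnc
  obtain ⟨K, _, _, _, m, φ, x, y, hm, hK, hφ, hX, hx, hy, hAx, hBy⟩ := exists_pair hp hp5 hA.card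
    (by rw [card_cj]; exact hA.card) hS hnc
  have h1 : t * φ (u x) * t⁻¹ ∈ cj t A := conj_mem_cj (by rw [hAx]; exact mem_zpowers _)
  rw [hBy] at h1
  obtain ⟨j, hj⟩ := mem_zpowers_iff.1 h1
  have hlz : ∀ (y : K) (j : ℤ), l y ^ j = l ((j : K) * y) := by
    intro y j
    obtain ⟨n, rfl | rfl⟩ := j.eq_nat_or_neg
    · rw [zpow_natCast, l_pow]; push_cast; rfl
    · rw [_root_.zpow_neg, zpow_natCast, l_pow, l_inv]; push_cast; congr 1; ring
  rw [← map_zpow, hlz] at hj
  obtain ⟨z, hz⟩ : ∃ z : K, z = (j : K) * y := ⟨_, rfl⟩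
  rw [← hz] at hj
  have h20 : (2 : K) ≠ 0 := two_ne hp hp5
  have hz0 : z ≠ 0 := by
    rintro rfl
    have h2 : φ (u x) = 1 := by
      have h3 : φ (l (0 : K)) = 1 := by
        have h4 : (l (0 : K)) = 1 := by
          apply Subtype.ext
          ext i j
          (revert i j; simp only [_root_.Fin.forall_fin_succ, _root_.Cfsg.Agent.H333.SLTwoLine.l_coe, _root_.Matrix.of_apply, _root_.Matrix.cons_val', _root_.Matrix.cons_val_fin_one, _root_.Matrix.SpecialLinearGroup.coe_one, Fin.isValue, _root_.Matrix.cons_val_zero, _root_.Matrix.cons_val_succ, _root_.IsEmpty.forall_iff, _root_.and_true, _root_.Matrix.one_apply_eq, Nat.reduceAdd, _root_.Fin.succ_zero_eq_one, _root_.ne_eq, _root_.zero_ne_one, _root_.not_false_eq_true, _root_.Matrix.one_apply_ne, _root_.and_self, _root_.Fin.succ_ne_zero, _root_.true_and])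
        rw [h4, map_one]
      rw [h3] at hj
      calc φ (u x) = t⁻¹ * (t * φ (u x) * t⁻¹) * t := by group
        _ = 1 := by rw [← hj]; group
    rcases hφ _ h2 with h3 | h3
    · have h4 := congrArg (fun M : _root_.Matrix.SpecialLinearGroup (Fin 2) K => (M : Matrix (Fin 2) (Fin 2) K) 0 1) h3
      simp at h4
      exact hx h4
    · have h4 := congrArg (fun M : _root_.Matrix.SpecialLinearGroup (Fin 2) K => (M : Matrix (Fin 2) (Fin 2) K) 0 0) h3
      simp at h4
      have h5 : (2 : K) = 0 := by linear_combination h4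
      exact h20 h5
  refine ⟨K, inferInstance, inferInstance, x * z, mul_ne_zero hx hz0, fun k hk => ?_⟩
  have hk0 : (k : K) ≠ 0 := fun h0 => hk ((CharP.cast_eq_zero_iff K p k).1 h0)
  obtain ⟨n, hn0, hn, h2⟩ := hN (φ (u x) ^ k)
  refine ⟨n, hn0, hn, ?_⟩
  have h3 : t * (φ (u x) ^ k * t * (φ (u x) ^ k)⁻¹) = φ (l ((k : K) * z) * u (-((k : K) * x))) := by
    have e1 : t * φ (u x) ^ k * t⁻¹ = φ (l ((k : K) * z)) := by
      rw [← conj_pow, ← hj, ← map_pow, l_pow]
    calc t * (φ (u x) ^ k * t * (φ (u x) ^ k)⁻¹) = t * φ (u x) ^ k * t⁻¹ * (φ (u x) ^ k)⁻¹ := by rw [ht']; group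
      _ = φ (l ((k : K) * z)) * (φ (u x) ^ k)⁻¹ := by rw [e1]
      _ = _ := by rw [map_mul, ← map_pow, u_pow, ← map_inv, u_inv]
  rw [h3, ← map_pow] at h2
  have h4 := lu_pow (mul_ne_zero hk0 hz0) (hφ _ h2)
  have e : 2 + (k : K) * z * -((k : K) * x) = 2 - (k : K) ^ 2 * (x * z) := by ring
  rwa [e] at h4

end Cfsg.Agent.H339.Tor
end

-- part: H339/Tor/TransNum
section
/-!
# S3235: the numerical part for the transpositions (helper339)

The values `τ` with `q_n(τ) = 0` for some `1 ≤ n ≤ N` are roots of `F3`, `F4`, `F6` (`N = 3, 4, 6`) of degrees 3, 5, 11; the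
values `2 - k² s`, `k < p / 2`, are different, and for the small `p` two of the polynomials `F(2 - k² s)` have a common
divisor of degree at most 1.

* `no_three` (`p ≥ 7`), `no_four` (`p ≥ 11`), `no_six` (`p ≥ 13`)
-/

set_option autoImplicit false

namespace Cfsg.Agent.H339.Tor

open Subgroup Cfsg.Agent.H103.Tor

def F4 {K : Type*} [Field K] (τ : K) : K := τ * (τ ^ 2 - 1) * (τ ^ 2 - 2)
def F6 {K : Type*} [Field K] (τ : K) : K := τ * (τ ^ 2 - 1) * (τ ^ 2 - 2) * (τ ^ 4 - 3 * τ ^ 2 + 1) * (τ ^ 2 - 3)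

section

variable {K : Type*} [Field K] {τ : K} {n : ℕ}

theorem q2 (τ : K) : q τ 2 = τ := by simp [q]
theorem q3 (τ : K) : q τ 3 = τ ^ 2 - 1 := by simp [q]; ring
theorem q4 (τ : K) : q τ 4 = τ * (τ ^ 2 - 2) := by simp [q]; ring
theorem q5 (τ : K) : q τ 5 = τ ^ 4 - 3 * τ ^ 2 + 1 := by simp [q]; ring
theorem q6 (τ : K) : q τ 6 = τ * (τ ^ 2 - 1) * (τ ^ 2 - 3) := by simp [q]; ring

theorem F4_of (h0 : 0 < n) (hn : n ≤ 4) (h : q τ n = 0) : F4 τ = 0 := by
  unfold F4
  interval_cases n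
  · simp [q] at h
  · rw [q2] at h; rw [h]; ring
  · rw [q3] at h; rw [h]; ring
  · rw [q4] at h; linear_combination (τ ^ 2 - 1) * h

theorem F6_of (h0 : 0 < n) (hn : n ≤ 6) (h : q τ n = 0) : F6 τ = 0 := by
  unfold F6
  interval_cases n
  · simp [q] at h
  · rw [q2] at h; rw [h]; ring
  · rw [q3] at h; rw [h]; ring
  · rw [q4] at h; linear_combination ((τ ^ 2 - 1) * (τ ^ 4 - 3 * τ ^ 2 + 1) * (τ ^ 2 - 3)) * h
  · rw [q5] at h; rw [h]; ring
  · rw [q6] at h; linear_combination ((τ ^ 2 - 2) * (τ ^ 4 - 3 * τ ^ 2 + 1)) * h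

end

/-! ### large `p` -/

section

open Polynomial

/-- a polynomial of degree less than `r` -/
theorem false_of_roots {K : Type*} [Field K] {p : ℕ} [CharP K p] {s : K} (hs : s ≠ 0) (P : K[X])
    (hP : P ≠ 0) {r : ℕ} (hd : P.natDegree < r) (hr : 2 * r < p)
    (h : ∀ k ∈ Finset.Icc 1 r, P.eval (2 - (k : K) ^ 2 * s) = 0) : False := by
  classical
  have hinj : Set.InjOn (fun k : ℕ => 2 - (k : K) ^ 2 * s) (Finset.Icc 1 r : Finset ℕ) := by
    intro k hk l hl hkl
    simp only [Finset.coe_Icc, Set.mem_Icc] at hk hl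
    have h1 : ((k : K) - l) * ((k : K) + l) = 0 := by
      have h2 : 2 - (k : K) ^ 2 * s = 2 - (l : K) ^ 2 * s := hkl
      have h3 : s * (((k : K) - l) * ((k : K) + l)) = 0 := by linear_combination (-1 : K) * h2
      exact (mul_eq_zero.1 h3).resolve_left hs
    rcases mul_eq_zero.1 h1 with h2 | h2
    · have h3 : (k : K) = l := sub_eq_zero.1 h2
      have h4 := (CharP.natCast_eq_natCast K p).1 h3
      exact Nat.ModEq.eq_of_lt_of_lt h4 (by omega) (by omega)
    · have h3 : ((k + l : ℕ) : K) = 0 := by push_cast; exact h2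
      have h4 := Nat.le_of_dvd (by omega) ((CharP.cast_eq_zero_iff K p _).1 h3)
      omega
  have h1 : ((Finset.Icc 1 r).image fun k : ℕ => 2 - (k : K) ^ 2 * s) ⊆ P.roots.toFinset := by
    intro x hx
    obtain ⟨k, hk, rfl⟩ := Finset.mem_image.1 hx
    rw [Multiset.mem_toFinset, mem_roots hP]
    exact h k hk
  have h2 := Finset.card_le_card h1
  rw [Finset.card_image_of_injOn hinj, Nat.card_Icc] at h2
  have h3 := (Multiset.toFinset_card_le P.roots).trans (card_roots' P)
  omega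

end

theorem bez_6_13_1_2 {K : Type*} [Field K] (hp : (13 : K) = 0) {s : K} (h1 : F6 (2 - 1 * s) = 0) (h2 : F6 (2 - 4 * s) = 0) :
    (-6) + (1) * s = 0 := by
  unfold F6 at h1 h2
  linear_combination ((-5) + (5) * s + (-4) * s ^ 2 + (2) * s ^ 3 + (-3) * s ^ 4 + (-1) * s ^ 5 + (-1) * s ^ 6 + (1) * s ^ 7 + (5) * s ^ 8 + (-2) * s ^ 9) * h1 + ((1) + (-1) * s + (-4) * s ^ 2 + (2) * s ^ 3 + (-5) * s ^ 4 + (-5) * s ^ 5 + (6) * s ^ 6 + (6) * s ^ 7 + (4) * s ^ 8 + (-5) * s ^ 9) * h2 + ((18) + (-73) * s + (-2804) * s ^ 2 + (42109) * s ^ 3 + (-290257) * s ^ 4 + (1170005) * s ^ 5 + (-2761935) * s ^ 6 + (2807247) * s ^ 7 + (3968275) * s ^ 8 + (-19785797) * s ^ 9 + (34993943) * s ^ 10 + (-32344025) * s ^ 11 + (7120478) * s ^ 12 + (21873910) * s ^ 13 + (-33448089) * s ^ 14 + (32424264) * s ^ 15 + (-35377882) * s ^ 16 + (37496932) * s ^ 17 + (-26436255) * s ^ 18 + (10163125) * s ^ 19 + (-1613194) * s ^ 20) * hp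

theorem bez_6_17_1_4 {K : Type*} [Field K] (hp : (17 : K) = 0) {s : K} (h1 : F6 (2 - 1 * s) = 0) (h2 : F6 (2 - 16 * s) = 0) :
    (1 : K) = 0 := by
  unfold F6 at h1 h2
  linear_combination ((1) + (-6) * s + (4) * s ^ 2 + (-8) * s ^ 3 + (2) * s ^ 4 + (-4) * s ^ 5 + (-5) * s ^ 7 + (6) * s ^ 8 + (-5) * s ^ 9 + (-1) * s ^ 10) * h1 + ((1) + (6) * s + (4) * s ^ 2 + (8) * s ^ 3 + (2) * s ^ 4 + (4) * s ^ 5 + (5) * s ^ 7 + (6) * s ^ 8 + (5) * s ^ 9 + (-1) * s ^ 10) * h2 + ((-7) + (710) * s + (-48002) * s ^ 2 + (1836145) * s ^ 3 + (-40954340) * s ^ 4 + (543906879) * s ^ 5 + (-4089550618) * s ^ 6 + (12170841220) * s ^ 7 + (58346771904) * s ^ 8 + (-719707125785) * s ^ 9 + (3016856554217) * s ^ 10 + (-6340969273647) * s ^ 11 + (7013236006096) * s ^ 12 + (-6748539955895) * s ^ 13 + (9111636664777) * s ^ 14 + (-4750479254203) * s ^ 15 + (6974557125543) * s ^ 16 + (-3523104827568) * s ^ 17 + (1194000908286) * s ^ 18 + (-1758410140015) * s ^ 19 + (6597069766657) * s ^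 20 + (-1034834473201) * s ^ 21) * hp

theorem bez_6_19_1_2 {K : Type*} [Field K] (hp : (19 : K) = 0) {s : K} (h1 : F6 (2 - 1 * s) = 0) (h2 : F6 (2 - 4 * s) = 0) :
    (3) + (1) * s = 0 := by
  unfold F6 at h1 h2
  linear_combination ((7) + (-1) * s + (4) * s ^ 2 + (8) * s ^ 3 + (7) * s ^ 4 + (-1) * s ^ 5 + (-4) * s ^ 6 + (-5) * s ^ 8 + (-1) * s ^ 9) * h1 + ((-6) + (6) * s + (-5) * s ^ 2 + (-8) * s ^ 3 + (7) * s ^ 4 + (-1) * s ^ 5 + (6) * s ^ 6 + (-7) * s ^ 7 + (7) * s ^ 8 + (6) * s ^ 9) * h2 + ((-3) + (-651) * s + (16892) * s ^ 2 + (-194005) * s ^ 3 + (1310595) * s ^ 4 + (-5737357) * s ^ 5 + (17009755) * s ^ 6 + (-34642347) * s ^ 7 + (47249003) * s ^ 8 + (-37315912) * s ^ 9 + (1114964) * s ^ 10 + (40986232) * s ^ 11 + (-65528936) * s ^ 12 + (71682826) * s ^ 13 + (-70691500) * s ^ 14 + (60571893) * s ^ 15 + (-35075459) * s ^ 16 + (6236273) * s ^ 17 + (7422809) * s ^ 18 + (-5739573) * s ^ 19 + (1324517) * s ^ 20) * hp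

theorem bez_6_23_1_2 {K : Type*} [Field K] (hp : (23 : K) = 0) {s : K} (h1 : F6 (2 - 1 * s) = 0) (h2 : F6 (2 - 4 * s) = 0) :
    (5) + (1) * s = 0 := by
  unfold F6 at h1 h2
  linear_combination ((1) + (1) * s + (5) * s ^ 2 + (-3) * s ^ 3 + (-8) * s ^ 4 + (-4) * s ^ 5 + (-4) * s ^ 6 + (11) * s ^ 7 + (10) * s ^ 8 + (-11) * s ^ 9) * h1 + ((1) + (-2) * s + (-4) * s ^ 2 + (-11) * s ^ 3 + (-2) * s ^ 4 + (-6) * s ^ 5 + (2) * s ^ 7 + (4) * s ^ 8 + (11) * s ^ 9) * h2 + ((-5) + (157) * s + (-2748) * s ^ 2 + (29419) * s ^ 3 + (-197047) * s ^ 4 + (857480) * s ^ 5 + (-2520074) * s ^ 6 + (5314145) * s ^ 7 + (-9141065) * s ^ 8 + (15186091) * s ^ 9 + (-24472978) * s ^ 10 + (32689054) * s ^ 11 + (-32475272) * s ^ 12 + (22810957) * s ^ 13 + (-8434498) * s ^ 14 + (-7439210) * s ^ 15 + (21967913) * s ^ 16 + (-28681338) * s ^ 17 + (22806418) * s ^ 18 + (-10303388) * s ^ 19 + (2005971) * s ^ 20) * hp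

theorem bez_4_11_1_3 {K : Type*} [Field K] (hp : (11 : K) = 0) {s : K} (h1 : F4 (2 - 1 * s) = 0) (h2 : F4 (2 - 9 * s) = 0) :
    (1 : K) = 0 := by
  unfold F4 at h1 h2
  linear_combination ((1) + (3) * s + (1) * s ^ 2 + (-1) * s ^ 3 + (4) * s ^ 4) * h1 + ((-1) * s + (2) * s ^ 2 + (-5) * s ^ 3 + (-4) * s ^ 4) * h2 + ((-1) + (2) * s + (-34) * s ^ 2 + (529) * s ^ 3 + (-3554) * s ^ 4 + (13024) * s ^ 5 + (-27758) * s ^ 6 + (30765) * s ^ 7 + (-2986) * s ^ 8 + (-21472) * s ^ 9) * hp

/-! ### the three theorems -/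

section

open Polynomial

theorem large6 {K : Type*} [Field K] {p : ℕ} [CharP K p] (hp : 24 < p) {s : K} (hs : s ≠ 0)
    (h : ∀ k ∈ Finset.Icc 1 12, F6 (2 - ((k : ℕ) : K) ^ 2 * s) = 0) : False := by
  have hd : (X ^ 11 - C 9 * X ^ 9 + C 30 * X ^ 7 - C 45 * X ^ 5 + C 29 * X ^ 3 - C 6 * X : K[X]).natDegree = 11 := by
    compute_degree!
  refine false_of_roots (p := p) hs (X ^ 11 - C 9 * X ^ 9 + C 30 * X ^ 7 - C 45 * X ^ 5 + C 29 * X ^ 3 - C 6 * X)
    (fun h0 => ?_) (r := 12) (by rw [hd]; norm_num) (by omega) fun k hk => ?_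
  · rw [h0, natDegree_zero] at hd
    norm_num at hd
  · have h1 := h k hk
    unfold F6 at h1
    simp only [eval_sub, eval_add, eval_mul, eval_pow, eval_X, eval_C]
    linear_combination h1

theorem large4 {K : Type*} [Field K] {p : ℕ} [CharP K p] (hp : 12 < p) {s : K} (hs : s ≠ 0)
    (h : ∀ k ∈ Finset.Icc 1 6, F4 (2 - ((k : ℕ) : K) ^ 2 * s) = 0) : False := by
  have hd : (X ^ 5 - C 3 * X ^ 3 + C 2 * X : K[X]).natDegree = 5 := by
    compute_degree!
  refine false_of_roots (p := p) hs (X ^ 5 - C 3 * X ^ 3 + C 2 * X)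
    (fun h0 => ?_) (r := 6) (by rw [hd]; norm_num) (by omega) fun k hk => ?_
  · rw [h0, natDegree_zero] at hd
    norm_num at hd
  · have h1 := h k hk
    unfold F4 at h1
    simp only [eval_sub, eval_add, eval_mul, eval_pow, eval_X, eval_C]
    linear_combination h1

end

section

variable {G : Type*} [Group G] {p : ℕ} {A : Subgroup G} {t : G}

theorem prime_cases (hp : p.Prime) (h : 13 ≤ p) (h2 : p ≤ 24) : p = 13 ∨ p = 17 ∨ p = 19 ∨ p = 23 := by
  interval_cases p <;> first | (exfalso; revert hp; norm_num; done) | simp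

/-- **six-transpositions, `p ≥ 13`** -/
theorem no_six (hp : p.Prime) (hp13 : 13 ≤ p) (hA : Pr p A) (ht : t * t = 1)
    (hN : ∀ g : G, ∃ n : ℕ, 0 < n ∧ n ≤ 6 ∧ (t * (g * t * g⁻¹)) ^ n = 1) : A ≤ centralizer ({t} : Set G) := by
  by_contra hc
  obtain ⟨K, _, _, s, hs, h⟩ := exists_s hp (by omega) (by omega) hA ht hN hc
  have hF : ∀ k : ℕ, ¬ p ∣ k → F6 (2 - (k : K) ^ 2 * s) = 0 := by
    intro k hk
    obtain ⟨n, h0, hn, h1⟩ := h k hk
    exact F6_of h0 hn h1
  rcases Nat.lt_or_ge 24 p with h24 | h24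
  · refine large6 (p := p) h24 hs fun k hk => hF k fun hd => ?_
    rw [Finset.mem_Icc] at hk
    have := Nat.le_of_dvd (by omega) hd
    omega
  have hpK : (p : K) = 0 := CharP.cast_eq_zero K p
  have hF1 := hF 1 (fun hd => by have := Nat.le_of_dvd (by norm_num) hd; omega)
  have hF2 := hF 2 (fun hd => by have := Nat.le_of_dvd (by norm_num) hd; omega)
  have hF3 := hF 3 (fun hd => by have := Nat.le_of_dvd (by norm_num) hd; omega)
  have hF4 := hF 4 (fun hd => by have := Nat.le_of_dvd (by norm_num) hd; omega)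
  have e1 : 2 - ((1 : ℕ) : K) ^ 2 * s = 2 - 1 * s := by push_cast; ring
  have e2 : 2 - ((2 : ℕ) : K) ^ 2 * s = 2 - 4 * s := by push_cast; ring
  have e3 : 2 - ((3 : ℕ) : K) ^ 2 * s = 2 - 9 * s := by push_cast; ring
  have e4 : 2 - ((4 : ℕ) : K) ^ 2 * s = 2 - 16 * s := by push_cast; ring
  rw [e1] at hF1; rw [e2] at hF2; rw [e3] at hF3; rw [e4] at hF4
  have key : ∀ m : ℕ, ((m : ℕ) : K) = 0 → ¬ p ∣ m → False := fun m hm hd => hd ((CharP.cast_eq_zero_iff K p m).1 hm)
  rcases prime_cases hp hp13 h24 with rfl | rfl | rfl | rfl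
  · have h1 : (13 : K) = 0 := by exact_mod_cast hpK
    have h2 := bez_6_13_1_2 h1 hF1 hF2
    have h3 : s = 6 := by linear_combination h2
    rw [h3] at hF4
    unfold F6 at hF4
    have h4 : ((5 : ℕ) : K) = 0 := by
      push_cast
      linear_combination hF4 + (389063620336503807725) * h1
    exact key 5 h4 (by norm_num)
  · have h1 : (17 : K) = 0 := by exact_mod_cast hpK
    exact one_ne_zero (bez_6_17_1_4 h1 hF1 hF4)
  · have h1 : (19 : K) = 0 := by exact_mod_cast hpK
    have h2 := bez_6_19_1_2 h1 hF1 hF2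
    have h3 : s = -3 := by linear_combination h2
    rw [h3] at hF3
    unfold F6 at hF3
    have h4 : ((18 : ℕ) : K) = 0 := by
      push_cast
      linear_combination hF3 + (-635287475048298) * h1
    exact key 18 h4 (by norm_num)
  · have h1 : (23 : K) = 0 := by exact_mod_cast hpK
    have h2 := bez_6_23_1_2 h1 hF1 hF2
    have h3 : s = -5 := by linear_combination h2
    rw [h3] at hF4
    unfold F6 at hF4
    have h4 : ((12 : ℕ) : K) = 0 := by
      push_cast
      linear_combination hF4 + (-48937653421338443376) * h1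
    exact key 12 h4 (by norm_num)

/-- **four-transpositions, `p ≥ 11`** -/
theorem no_four (hp : p.Prime) (hp11 : 11 ≤ p) (hA : Pr p A) (ht : t * t = 1)
    (hN : ∀ g : G, ∃ n : ℕ, 0 < n ∧ n ≤ 4 ∧ (t * (g * t * g⁻¹)) ^ n = 1) : A ≤ centralizer ({t} : Set G) := by
  by_contra hc
  obtain ⟨K, _, _, s, hs, h⟩ := exists_s hp (by omega) (by omega) hA ht hN hc
  have hF : ∀ k : ℕ, ¬ p ∣ k → F4 (2 - (k : K) ^ 2 * s) = 0 := by
    intro k hk
    obtain ⟨n, h0, hn, h1⟩ := h k hk
    exact F4_of h0 hn h1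
  rcases Nat.lt_or_ge 12 p with h12 | h12
  · refine large4 (p := p) h12 hs fun k hk => hF k fun hd => ?_
    rw [Finset.mem_Icc] at hk
    have := Nat.le_of_dvd (by omega) hd
    omega
  have hpK : (p : K) = 0 := CharP.cast_eq_zero K p
  have hF1 := hF 1 (fun hd => by have := Nat.le_of_dvd (by norm_num) hd; omega)
  have hF3 := hF 3 (fun hd => by have := Nat.le_of_dvd (by norm_num) hd; omega)
  have e1 : 2 - ((1 : ℕ) : K) ^ 2 * s = 2 - 1 * s := by push_cast; ring
  have e3 : 2 - ((3 : ℕ) : K) ^ 2 * s = 2 - 9 * s := by push_cast; ring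
  rw [e1] at hF1; rw [e3] at hF3
  obtain rfl : p = 11 := by
    interval_cases p
    · rfl
    · exact absurd hp (by norm_num)
  have h1 : (11 : K) = 0 := by exact_mod_cast hpK
  exact one_ne_zero (bez_4_11_1_3 h1 hF1 hF3)

end

end Cfsg.Agent.H339.Tor
end

-- part: H339/Tor/Sect
section
/-!
# S3235: kills through subgroups and sections (helper339)

* `exists_cj_le` : `Pr p A`, `p ∤ |G : H|`: a conjugate of `A` is in `H`;
* `Kill.section` : kill by a section;
* `kill_ulift`, `Row.kill` : a smaller simple group, in another universe, is killed.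
-/

set_option autoImplicit false

namespace Cfsg.Agent.H339.Tor

open Subgroup Cfsg.Agent.H103.Tor Cfsg.Agent.H33.Tor

universe u v w

variable {p : ℕ} {G : Type u} [Group G]

theorem exists_cj_le [Finite G] (hp : p.Prime) {A : Subgroup G} (hA : Nat.card A = p) {H : Subgroup G}
    (hi : ¬ p ∣ H.index) : ∃ g : G, cj g A ≤ H := by
  have hpf := Fact.mk hp
  obtain ⟨P, hP⟩ : ∃ P : Sylow p G, (P : Subgroup G) ≤ H := by
    obtain ⟨Q⟩ : Nonempty (Sylow p H) := inferInstance
    have h1 : Nat.card Q = p ^ (Nat.card G).factorization p := by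
      rw [Sylow.card_eq_multiplicity]
      congr 1
      have h2 := Subgroup.card_mul_index H
      rw [← h2, Nat.factorization_mul Nat.card_pos.ne' (Subgroup.index_ne_zero_of_finite), Finsupp.add_apply,
        Nat.factorization_eq_zero_of_not_dvd hi, add_zero]
    have h2 : Nat.card ((Q : Subgroup H).map H.subtype) = p ^ (Nat.card G).factorization p := by
      rw [← h1]
      exact (Nat.card_congr ((Q : Subgroup H).equivMapOfInjective _ (Subgroup.subtype_injective _)).toEquiv).symm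
    refine ⟨Sylow.ofCard _ h2, ?_⟩
    show (Q : Subgroup H).map H.subtype ≤ H
    exact Subgroup.map_subtype_le _
  have hAp : IsPGroup p A := IsPGroup.of_card (n := 1) (by rw [hA, pow_one])
  obtain ⟨Q, hQ⟩ := hAp.exists_le_sylow
  obtain ⟨g, hg⟩ := MulAction.exists_smul_eq G Q P
  refine ⟨g, le_trans ?_ hP⟩
  rw [← hg]
  exact Subgroup.map_mono hQ

/-- an involution whose centraliser has index prime to `p` -/
theorem kill_of_index [Finite G] (hp : p.Prime) {z : G} (hz : ¬ p ∣ (centralizer ({z} : Set G)).index)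
    (hinv : ∀ A : Subgroup G, Pr p A → ¬ A ≤ centralizer ({z} : Set G)) : Kill p G := by
  intro A hA
  obtain ⟨g, hg⟩ := exists_cj_le hp hA.card hz
  exact hinv _ (hA.conj g) hg

/-- **a section** -/
theorem kill_section (hp : p.Prime) (hp5 : 5 ≤ p) {M : Subgroup G} {B : Type v} [Group B] (ρ : M →* B)
    (hρ : Function.Surjective ρ) (hB : Kill p B) {A : Subgroup G} (hA : Pr p A) (hle : A ≤ M)
    (hne : ∃ (a : G) (ha : a ∈ A), ρ ⟨a, hle ha⟩ ≠ 1) : False := by
  refine hB _ ((hA.subgroupOf hle).map hp hp5 ρ hρ ?_)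
  intro h
  obtain ⟨a, ha, h1⟩ := hne
  exact h1 (h (mem_subgroupOf.2 ha : (⟨a, hle ha⟩ : M) ∈ A.subgroupOf M))

omit [Group G] in
/-- a smaller simple group in another universe -/
theorem kill_small (hp : p.Prime) (hp5 : 5 ≤ p)
    (ih : ∀ (K : Type u) [Group K] [Finite K] [IsSimpleGroup K], Nat.card K < Nat.card G →
      (¬ ∀ x y : K, x * y = y * x) → Row p K)
    {L : Type v} [Group L] [Finite L] (hs : IsSimpleGroup L) {n : ℕ} (hn : Nat.card L = n) (hlt : n < Nat.card G)
    (hnp : ¬ n.Prime) (hok : Ok n) : Kill p L := by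
  obtain ⟨K, ⟨e'⟩⟩ : ∃ K : Type u, Nonempty (L ≃ K) := by
    obtain ⟨m, ⟨e⟩⟩ := Finite.exists_equiv_fin L
    exact ⟨ULift.{u} (Fin m), ⟨e.trans Equiv.ulift.symm⟩⟩
  let _ : Group K := e'.symm.group
  let f : K ≃* L := e'.symm.mulEquiv
  have hfin : Finite K := Finite.of_equiv _ e'
  have hsK : IsSimpleGroup K := (MulEquiv.isSimpleGroup_congr f).2 hs
  have hcK : Nat.card K = n := by rw [Nat.card_congr f.toEquiv, hn]
  refine Kill.congr f (kill_of_row hp hp5 (ih K (by rw [hcK]; exact hlt) ?_) (by rw [hcK]; exact hok))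
  intro hc
  have h1 : (Nat.card K).Prime := by
    let _ : CommGroup K := { (inferInstance : Group K) with mul_comm := hc }
    exact IsSimpleGroup.prime_card
  rw [hcK] at h1
  exact hnp h1

end Cfsg.Agent.H339.Tor
end

private theorem dce_c17653aed64f : _root_.True := by
  try have : _root_.True := by simp only [_root_.Cfsg.Agent.H339.Tor.q.eq_1]
  try have : _root_.True := by simp only [_root_.Cfsg.Agent.H339.Tor.q.eq_2]
  try have : _root_.True := by simp only [_root_.Cfsg.Agent.H339.Tor.q.eq_3]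
  try have : _root_.True := by simp only [_root_.Cfsg.Agent.H339.Tor.q.eq_def]
  exact _root_.True.intro
end

-- part: H33/Tor/RowSpor
section
prune_inst 0x20002004092210000000000040001c06820004000008000010000400048218020000002080200c00100000040030004001000000020000000000000001180080000210000000a000000000000000000000000000000000000000000000041000000000000
set_option linter.all false
open scoped Cfsg.Agent.FastGrp

-- part: H682/Tor/HNRow
section
/-!
# S3235: the Harada-Norton group (helper682)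

* `facts_hn` : `Facts p G` for all primes `p ≥ 5`.
-/

set_option autoImplicit false

namespace Cfsg.Agent.H682.Tor

open Subgroup Cfsg Cfsg.Agent.H103.Tor Cfsg.Agent.H33.Tor

universe u v

namespace HN

theorem primes {p : ℕ} (hp : p.Prime) (hp5 : 5 ≤ p) (h : p ∣ 273030912000000) :
    p = 5 ∨ p = 7 ∨ p = 11 ∨ p = 19 := by
  have h1 : p ∣ 2 ^ 14 * 3 ^ 6 * 5 ^ 6 * 7 * 11 * 19 := by norm_num; exact h
  simp only [hp.dvd_mul] at h1
  have k : ∀ {a b : ℕ}, a.Prime → p ∣ a ^ b → p = a := fun ha h => (Nat.prime_dvd_prime_iff_eq hp ha).1 (hp.dvd_of_dvd_pow h)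
  have k' : ∀ {a : ℕ}, a.Prime → p ∣ a → p = a := fun ha h => (Nat.prime_dvd_prime_iff_eq hp ha).1 h
  rcases h1 with ((((h1 | h1) | h1) | h1) | h1) | h1
  · have := k Nat.prime_two h1; omega
  · have := k Nat.prime_three h1; omega
  · exact Or.inl (k Nat.prime_five h1)
  · exact Or.inr (Or.inl (k' (by norm_num) h1))
  · exact Or.inr (Or.inr (Or.inl (k' (by norm_num) h1)))
  · exact Or.inr (Or.inr (Or.inr (k' (by norm_num) h1)))

end HN

theorem facts_hn {p : ℕ} (hp : p.Prime) (hp5 : 5 ≤ p) {G : Type u} [Group G] [Finite G] (h : Spor.IsoHN G) :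
    Facts p G := by
  obtain ⟨e⟩ := h
  have hcard : Nat.card Spor.HN = 273030912000000 := Cfsg.Agent.S1701.result.2
  have hfin : Finite Spor.HN := Nat.finite_of_card_ne_zero (by rw [hcard]; norm_num)
  refine Facts.congr e.symm ?_
  by_cases hd : p ∣ Nat.card Spor.HN
  · rw [hcard] at hd
    rcases HN.primes hp hp5 hd with h1 | h1 | h1 | h1
    · subst h1
      intro x hx
      left
      obtain ⟨_, _, _, _, _, _, D⟩ := H536.T5.dat
      obtain ⟨s, hs2, hs1, hsx⟩ := D.exists_inv (by rw [hcard]; norm_num) hx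
      have := Fact.mk Nat.prime_two
      exact ⟨s, orderOf_eq_prime (by rw [pow_two]; exact hs2) hs1, hsx⟩
    · subst h1
      exact facts_of_cent hp (by rw [hcard]; norm_num) Cfsg.Agent.HN.TwoClasses.orderOf_ψτ
        (by rw [Cfsg.Agent.KFacts.HN.Classes.card_centralizer_τ]; norm_num)
    · subst h1
      exact facts_of_cent hp (by rw [hcard]; norm_num) Cfsg.Agent.HN.TwoClasses.orderOf_ψτ
        (by rw [Cfsg.Agent.KFacts.HN.Classes.card_centralizer_τ]; norm_num)
    · subst h1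
      obtain ⟨x0, hx0, hc0⟩ := H845.HNNineteen.hn_nineteen
      exact Facts.self hp (by norm_num) (fun x hx => by rw [card_cent_eq hp (by rw [hcard]; norm_num) hx hx0, hc0])
        (by rw [hcard]; norm_num)
  · intro x hx
    exact absurd (hx ▸ _root_.orderOf_dvd_natCard x) hd

end Cfsg.Agent.H682.Tor
end

-- part: H682/Tor/ThRow
section
/-!
# S3235: the Thompson group (helper682)

* `facts_th` : `Facts p G` for all primes `p ≥ 5`.
-/

set_option autoImplicit false

namespace Cfsg.Agent.H682.Tor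

open Subgroup Cfsg Cfsg.Agent.H103.Tor Cfsg.Agent.H33.Tor

universe u v

namespace Th

open Cfsg.Agent.H502.TO

/-- an element of order 7 commutes with an involution -/
theorem seven {y : Spor.Th} (hy : orderOf y = 7) : ∃ s : Spor.Th, orderOf s = 2 ∧ s * y = y * s := by
  have D := H49.ThSeven.dat
  obtain ⟨g, hg⟩ := D.one y hy
  have h1 := D.ax
  have h2 := D.ha
  set a := Cfsg.Agent.Th.IndexUpper.gTh 1 with ha
  refine ⟨g⁻¹ * a * g, ?_, ?_⟩
  · have h3 : orderOf (MulAut.conj g⁻¹ a) = 2 := by rw [MulEquiv.orderOf_eq, h2]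
    rwa [MulAut.conj_apply, inv_inv] at h3
  · rw [← hg] at h1
    calc g⁻¹ * a * g * y = g⁻¹ * (a * (g * y * g⁻¹)) * g := by group
      _ = g⁻¹ * (g * y * g⁻¹ * a) * g := by rw [h1]
      _ = y * (g⁻¹ * a * g) := by group

theorem card_seven {y : Spor.Th} (hy : orderOf y = 7) {r : ℕ} (hr : r.Prime) (h13 : 13 ≤ r) :
    ¬ r ∣ Nat.card (centralizer ({y} : Set Spor.Th)) := by
  obtain ⟨s, hs, hc⟩ := seven hy
  have k : ∀ m : ℕ, m ∣ 2 ^ 4 * 3 ^ 2 * 5 * 7 ^ 2 → ¬ r ∣ m := by
    intro m hm h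
    have h1 := h.trans hm
    simp only [hr.dvd_mul] at h1
    rcases h1 with ((h1 | h1) | h1) | h1
    · have := Nat.le_of_dvd (by norm_num) (hr.dvd_of_dvd_pow h1); omega
    · have := Nat.le_of_dvd (by norm_num) (hr.dvd_of_dvd_pow h1); omega
    · have := Nat.le_of_dvd (by norm_num) h1; omega
    · have := Nat.le_of_dvd (by norm_num) (hr.dvd_of_dvd_pow h1); omega
  rcases H723.Spor.Th.card_seven KFacts.Th.Main.ctx H723.Spor.Th.hone hy hs hc with h | h
  · rw [h]; exact k _ (by norm_num)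
  · rw [h]; exact k _ (by norm_num)

theorem primes {p : ℕ} (hp : p.Prime) (hp5 : 5 ≤ p) (h : p ∣ 90745943887872000) :
    p = 5 ∨ p = 7 ∨ p = 13 ∨ p = 19 ∨ p = 31 := by
  have h1 : p ∣ 2 ^ 15 * 3 ^ 10 * 5 ^ 3 * 7 ^ 2 * 13 * 19 * 31 := by norm_num; exact h
  simp only [hp.dvd_mul] at h1
  have k : ∀ {a b : ℕ}, a.Prime → p ∣ a ^ b → p = a := fun ha h => (Nat.prime_dvd_prime_iff_eq hp ha).1 (hp.dvd_of_dvd_pow h)
  have k' : ∀ {a : ℕ}, a.Prime → p ∣ a → p = a := fun ha h => (Nat.prime_dvd_prime_iff_eq hp ha).1 h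
  rcases h1 with (((((h1 | h1) | h1) | h1) | h1) | h1) | h1
  · have := k Nat.prime_two h1; omega
  · have := k Nat.prime_three h1; omega
  · exact Or.inl (k Nat.prime_five h1)
  · exact Or.inr (Or.inl (k (by norm_num) h1))
  · exact Or.inr (Or.inr (Or.inl (k' (by norm_num) h1)))
  · exact Or.inr (Or.inr (Or.inr (Or.inl (k' (by norm_num) h1))))
  · exact Or.inr (Or.inr (Or.inr (Or.inr (k' (by norm_num) h1))))

/-- the elements of order 13, 19, 31 -/
theorem large {r : ℕ} (hr : r = 13 ∨ r = 19 ∨ r = 31) {x : Spor.Th} (hx : orderOf x = r) :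
    Nat.card (centralizer ({x} : Set Spor.Th)) ∣ 3 ^ 10 * 13 * 19 * 31 ∧
      Nat.card (centralizer ({x} : Set Spor.Th)) < 2 ^ 15 := by
  have hfin := fin_th
  have hcard := card_th
  have hrp : r.Prime := by rcases hr with rfl | rfl | rfl <;> norm_num
  have h2 : ¬ 2 ∣ Nat.card (centralizer ({x} : Set Spor.Th)) := by
    refine odd_cent hrp ?_ hx
    rcases hr with rfl | rfl | rfl <;> norm_num
  have h5 : ¬ 5 ∣ Nat.card (centralizer ({x} : Set Spor.Th)) := by
    refine not_dvd_five hrp ?_ hx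
    rcases hr with rfl | rfl | rfl <;> norm_num
  have h7 : ¬ 7 ∣ Nat.card (centralizer ({x} : Set Spor.Th)) := by
    intro h
    obtain ⟨z, hz, hd⟩ := dvd_symm (by norm_num) h
    rw [hx] at hd
    exact card_seven hz hrp (by rcases hr with rfl | rfl | rfl <;> norm_num) hd
  have hx1 : x ≠ 1 := by
    rintro rfl
    rw [orderOf_one] at hx
    omega
  refine ⟨?_, main hx1 (Nat.not_even_iff_odd.1 fun h => h2 (even_iff_two_dvd.1 h)) h7⟩
  have hcG : Nat.card (centralizer ({x} : Set Spor.Th)) ∣ 90745943887872000 := by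
    rw [← hcard]; exact Subgroup.card_subgroup_dvd_card _
  have k1 : Nat.card (centralizer ({x} : Set Spor.Th)) ∣ (3 ^ 10 * 7 ^ 2 * 13 * 19 * 31 * 5 ^ 3) * 2 ^ 15 :=
    hcG.trans (by norm_num)
  have k2 : Nat.card (centralizer ({x} : Set Spor.Th)) ∣ (3 ^ 10 * 7 ^ 2 * 13 * 19 * 31) * 5 ^ 3 :=
    dvd_of_not Nat.prime_two k1 h2
  have k3 : Nat.card (centralizer ({x} : Set Spor.Th)) ∣ (3 ^ 10 * 13 * 19 * 31) * 7 ^ 2 :=
    (dvd_of_not (by norm_num) k2 h5).trans (by norm_num)
  exact dvd_of_not (by norm_num) k3 h7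

theorem arith13 : ∀ a ≤ 10, ∀ d ≤ 1, ∀ e ≤ 1, 3 ^ a * 7 ^ 0 * 13 ^ d * 19 ^ e < 2 ^ 15 →
    (3 ^ a * 7 ^ 0 * 13 ^ d * 19 ^ e) % 13 = 0 → 3 ^ a * 7 ^ 0 * 13 ^ d * 19 ^ e ≤ 28431 := by
  decide +kernel

end Th

theorem facts_th {p : ℕ} (hp : p.Prime) (hp5 : 5 ≤ p) {G : Type u} [Group G] [Finite G] (h : Spor.IsoTh G) :
    Facts p G := by
  obtain ⟨e⟩ := h
  have hfin := H502.TO.fin_th
  have hcard := H502.TO.card_th
  refine Facts.congr e.symm ?_
  by_cases hd : p ∣ Nat.card Spor.Th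
  · rw [hcard] at hd
    rcases Th.primes hp hp5 hd with h1 | h1 | h1 | h1 | h1
    · subst h1
      exact Facts.even fun x hx => by rw [H502.TO.card_five hx]; norm_num
    · subst h1
      exact fun x hx => Or.inl (Th.seven hx)
    · subst h1
      intro x hx
      right; right
      have h13 : 13 ∣ Nat.card (centralizer ({x} : Set Spor.Th)) := by
        have := H502.TO.dvd_of_comm (y := x) (z := x) rfl
        rwa [hx] at this
      have h31 : ¬ 31 ∣ Nat.card (centralizer ({x} : Set Spor.Th)) := by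
        intro h
        obtain ⟨z, hz, hd⟩ := H502.TO.dvd_symm (by norm_num) h
        rw [hx] at hd
        exact (H502.TO.thirtyone hz).1 hd
      obtain ⟨h2, h3⟩ := Th.large (Or.inl rfl) hx
      have h4 : Nat.card (centralizer ({x} : Set Spor.Th)) ∣ 3 ^ 10 * 7 ^ 0 * 13 ^ 1 * 19 ^ 1 :=
        (H502.TO.dvd_of_not (k := 1) (q := 31) (by norm_num) (h2.trans (by norm_num)) h31).trans
          (by norm_num : (3 ^ 10 * 13 * 19 : ℕ) ∣ _)
      obtain ⟨a, ha, b, hb, d, hd, e, he, hc⟩ := H502.TO.exists_exp h4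
      obtain rfl : b = 0 := Nat.le_zero.1 hb
      rw [hc] at h3 h13
      have h5 := Th.arith13 a ha d hd e he h3 (Nat.mod_eq_zero_of_dvd h13)
      rw [← hc] at h5
      exact Iv.of_le h5 (fun z hz => (MonsterX.ThOneClass.card_centralizer hz).le) hcard 3 (by norm_num)
        (by norm_num)
    · subst h1
      intro x hx
      right; left
      have h1 := H502.TO.nineteen hx
      have h2 : Nat.card (centralizer ({x} : Set Spor.Th)) ∈ Nat.divisors 741 := Nat.mem_divisors.2 ⟨h1, by norm_num⟩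
      unfold Sm
      rw [hcard]
      have key : ∀ c ∈ Nat.divisors 741, (¬ 16 ^ c ≡ 1 [MOD 19]) ∧ c ^ 2 * (19 + (c - 1) * c) < 19 * 90745943887872000 := by
        decide +kernel
      exact key _ h2
    · subst h1
      intro x hx
      right; left
      obtain ⟨h2, h3⟩ := Th.large (Or.inr (Or.inr rfl)) hx
      unfold Sm
      rw [hcard]
      set c := Nat.card (centralizer ({x} : Set Spor.Th)) with hc
      refine ⟨?_, ?_⟩
      · have h5 : ¬ 5 ∣ c := fun h => by
          have := h.trans h2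
          revert this
          norm_num
        intro h6
        have h7 : 16 ^ (c % 5) % 31 = 1 := by
          have h8 : 16 ^ c = (16 ^ 5) ^ (c / 5) * 16 ^ (c % 5) := by
            rw [← pow_mul, ← pow_add, Nat.div_add_mod]
          have h9 : (16 ^ 5 : ℕ) ≡ 1 [MOD 31] := by decide
          have h10 := (h9.pow (c / 5)).mul_right (16 ^ (c % 5))
          rw [one_pow, one_mul, ← h8] at h10
          exact (h10.symm.trans h6)
        have h8 : c % 5 < 5 := Nat.mod_lt _ (by norm_num)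
        have key : ∀ r < 5, 16 ^ r % 31 = 1 → r = 0 := by decide
        exact h5 (Nat.dvd_of_mod_eq_zero (key _ h8 h7))
      · have h4 : c ≤ 32768 := h3.le
        calc c ^ 2 * (31 + (c - 1) * c) ≤ 32768 ^ 2 * (31 + 32768 * 32768) := by
              refine Nat.mul_le_mul (Nat.pow_le_pow_left h4 2) (Nat.add_le_add_left (Nat.mul_le_mul ?_ h4) 31)
              omega
          _ < 31 * 90745943887872000 := by norm_num
  · intro x hx
    exact absurd (hx ▸ _root_.orderOf_dvd_natCard x) hd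

end Cfsg.Agent.H682.Tor
end

-- part: H874/Tor/Suz
section
/-!
# S3235: the facts of `Suz` (helper874, task 2768)
-/

set_option autoImplicit false

namespace Cfsg.Agent.H874.Tor

open Subgroup Cfsg Cfsg.Agent.H33.Tor
open Cfsg.Spor (Suz)

universe u

theorem suz_seven {v : Suz} (hv : orderOf v = 7) : 2 ∣ Nat.card (centralizer ({v} : Set Suz)) := by
  have hfin := H265.SuzEven.finSuz
  have h1 := KFacts.SuzLFour.e0_comm _ H812.SuzLoc.x7_mem
  refine even_of_one (l := 7) (by norm_num) (by rw [SporadicRecognition.SuzOrder.card_Suz]; norm_num)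
    H812.SuzLoc.order_x7 ?_ h1 hv
  have : Fact (Nat.Prime 2) := ⟨Nat.prime_two⟩
  exact orderOf_eq_prime (by rw [pow_two]; exact KFacts.SuzLFour.e0_sq) KFacts.SuzLFour.e0_ne

theorem facts_suz0 {p : ℕ} (hp : p.Prime) (hp5 : 5 ≤ p) : Facts p Suz := by
  have hfin := H265.SuzEven.finSuz
  have hcard : Nat.card Suz = 448345497600 := SporadicRecognition.SuzOrder.card_Suz
  intro x hx
  have hd : p ∣ 448345497600 := by rw [← hcard, ← hx]; exact _root_.orderOf_dvd_natCard x
  have hd' : p ∣ 2 ^ 13 * (3 ^ 7 * (5 ^ 2 * (7 * (11 * 13)))) := hd.trans (by norm_num)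
  have key : p = 5 ∨ p = 7 ∨ p = 11 ∨ p = 13 := by
    rcases hp.dvd_mul.1 hd' with h | h
    · have := Nat.le_of_dvd (by norm_num) (hp.dvd_of_dvd_pow h); omega
    rcases hp.dvd_mul.1 h with h | h
    · have := Nat.le_of_dvd (by norm_num) (hp.dvd_of_dvd_pow h); omega
    rcases hp.dvd_mul.1 h with h | h
    · have := Nat.le_of_dvd (by norm_num) (hp.dvd_of_dvd_pow h); omega
    rcases hp.dvd_mul.1 h with h | h
    · have := (Nat.prime_dvd_prime_iff_eq hp (by norm_num)).1 h; omega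
    rcases hp.dvd_mul.1 h with h | h
    · have := (Nat.prime_dvd_prime_iff_eq hp (by norm_num)).1 h; omega
    · have := (Nat.prime_dvd_prime_iff_eq hp (by norm_num)).1 h; omega
  rcases key with rfl | rfl | rfl | rfl
  · exact Or.inl (Ev.of_even (SuzFive.even_five hx))
  · exact Or.inl (Ev.of_even (suz_seven hx))
  · rcases ev_or_eq (by norm_num) hx (H265.SuzCent.dvd_eleven hx) with h | h
    · exact Or.inl h
    · exact Or.inr (Or.inl (Sm.of_card (by norm_num) (by norm_num) h (by rw [hcard]; norm_num)))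
  · rcases ev_or_eq (by norm_num) hx (H265.SuzCent.dvd_thirteen hx) with h | h
    · exact Or.inl h
    · exact Or.inr (Or.inl (Sm.of_card (by norm_num) (by norm_num) h (by rw [hcard]; norm_num)))

/-- **the facts of `Suz`** -/
theorem facts_suz {p : ℕ} (hp : p.Prime) (hp5 : 5 ≤ p) {G : Type u} [Group G] (h : Spor.IsoSuz G) : Facts p G := by
  obtain ⟨e⟩ := h
  exact Facts.congr e.symm (facts_suz0 hp hp5)

end Cfsg.Agent.H874.Tor
end

-- part: H874/Tor/CoOne
section
/-!
# S3235: the facts of `Co1` (helper874, task 2768)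
-/

set_option autoImplicit false

namespace Cfsg.Agent.H874.Tor

open Subgroup Cfsg Cfsg.Agent.H33.Tor
open Cfsg.Spor (Co1)
open Cfsg.Agent.H55.CoOneBd (card_co1 card_cent_XX card_cent_conj card_cent_dvd exists_lift)

universe u

/-- a nonzero fixed vector -/
theorem exists_vec {x : Co0} (h : Module.finrank ℚ (SigZeroCo2.Rank.fix (SigZeroCo2.Lin.rep x)) ≠ 0) :
    ∃ v : leechLattice, v ≠ 0 ∧ x • v = v := by
  obtain ⟨u, hu, hu0⟩ := Submodule.exists_mem_ne_zero_of_ne_bot
    (p := SigZeroCo2.Rank.fix (SigZeroCo2.Lin.rep x)) fun hb => h (by rw [hb, finrank_bot])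
  obtain ⟨m, hm, l, hl⟩ := PreUniqCo.FixBound.exists_mul u
  refine ⟨l, ?_, ?_⟩
  · rintro rfl
    rw [map_zero] at hl
    have := (smul_eq_zero.1 hl.symm).resolve_left (by exact_mod_cast hm)
    exact hu0 this
  · apply PreUniqCo.FixBound.mem_fix_tau.1
    rw [hl]
    exact Submodule.smul_mem _ _ hu

/-- a central element of `Co0` with a fixed vector is trivial -/
theorem eq_one_of_center {t : Co0} (ht : t ∈ center Co0) {v : leechLattice} (hv : v ≠ 0) (h : t • v = v) : t = 1 := by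
  rcases (CoOneType.CoOneE.mem_center_iff t).1 ht with h1 | h1
  · exact h1
  · exfalso
    rw [h1, SporadicA.Co1Simple.allOne_smul] at h
    apply hv
    have h2 : (2 : ℕ) • v = 0 := by
      rw [two_nsmul]
      nth_rewrite 1 [← h]
      exact neg_add_cancel v
    apply Subtype.ext
    funext i
    have h3 := congrArg (fun u : leechLattice => (u : GolayPt → ℤ) i) h2
    have h4 : 2 * (v : GolayPt → ℤ) i = 0 := by
      have : ((2 : ℕ) • (v : GolayPt → ℤ)) i = 0 := h3
      rw [Pi.smul_apply, nsmul_eq_mul] at this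
      exact_mod_cast this
    show (v : GolayPt → ℤ) i = 0
    omega

/-- the image of an involution fixing a vector -/
theorem orderOf_mk_two {t : Co0} (ht : orderOf t = 2) {v : leechLattice} (hv : v ≠ 0) (h : t • v = v) :
    orderOf (QuotientGroup.mk t : Co1) = 2 := by
  have h2 : Fact (Nat.Prime 2) := ⟨Nat.prime_two⟩
  refine orderOf_eq_prime (by rw [← QuotientGroup.mk_pow, ← ht, pow_orderOf_eq_one, QuotientGroup.mk_one]) fun h1 => ?_
  have h3 := eq_one_of_center ((QuotientGroup.eq_one_iff t).1 h1) hv h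
  rw [h3, orderOf_one] at ht
  norm_num at ht

theorem coOne_five {s : Co1} (hs : orderOf s = 5) : 2 ∣ Nat.card (centralizer ({s} : Set Co1)) := by
  have := H55.CoOneBd.finite_co1
  rcases CoFive.Ranks.ranks s hs with h | h | h
  · obtain ⟨e⟩ := MFive.JTwo.isoJ2 hs h
    have h2 : Nat.card Cfsg.Spor.J2 = 604800 := Cfsg.Agent.S1619.result.2.2.2
    rw [card_cent_XX, hs, Nat.card_congr e.toEquiv, h2]
    norm_num
  · obtain ⟨a, rfl, ha, hao⟩ := exists_lift (by norm_num) (by norm_num) hs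
    have h4 := CoFiveC.Main.finrank_of_fr hao h
    obtain ⟨t, ht, hta, htv⟩ := CoFour.exists_four hao h4
    obtain ⟨v, hv0, hv⟩ := exists_vec (x := a) (by rw [h4]; norm_num)
    refine even_of_comm (orderOf_mk_two ht hv0 (htv v hv)) ?_
    show (QuotientGroup.mk t : Co1) * QuotientGroup.mk a = QuotientGroup.mk a * QuotientGroup.mk t
    rw [← QuotientGroup.mk_mul, ← QuotientGroup.mk_mul, hta]
  · rw [MFiveHN.UpEight.card_cent hs h]
    norm_num

theorem coOne_eleven {s : Co1} (hs : orderOf s = 11) : 2 ∣ Nat.card (centralizer ({s} : Set Co1)) := by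
  obtain ⟨g, hg⟩ := H800.ME.CoFacts.conj_s hs
  rw [← card_cent_conj (isConj_iff.2 ⟨g, hg⟩), H800.ME.CoFacts.card_cent]
  norm_num

theorem coOne_thirteen {s : Co1} (hs : orderOf s = 13) : 2 ∣ Nat.card (centralizer ({s} : Set Co1)) := by
  have := H55.CoOneBd.finite_co1
  obtain ⟨y, hy, hc⟩ := CoOneType.Thirteen.exists_thirteen
  have h13 : Fact (Nat.Prime 13) := ⟨by norm_num⟩
  have h2 : Fact (Nat.Prime 2) := ⟨Nat.prime_two⟩
  have ht : orderOf (QuotientGroup.mk CoOneType.Thirteen.b0 : Co1) = 2 := by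
    refine orderOf_eq_prime ?_ fun h => ?_
    · rw [← QuotientGroup.mk_pow, pow_two, CoOneType.Thirteen.b0_sq]
      exact (QuotientGroup.eq_one_iff _).2 ((CoOneType.CoOneE.mem_center_iff _).2 (Or.inr rfl))
    · have h1 := CoFive.Ranks.sq_of_center ((QuotientGroup.eq_one_iff _).1 h)
      rw [pow_two, CoOneType.Thirteen.b0_sq] at h1
      exact CoOneType.CoOneE.allOne_ne h1
  refine even_of_one (l := 13) (by norm_num) (by rw [card_co1]; norm_num) (u := (QuotientGroup.mk y : Co1))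
    (CpAutMSeven.Ranks.orderOf_mk (by norm_num) hy) ht ?_ hs
  rw [← QuotientGroup.mk_mul, ← QuotientGroup.mk_mul, hc]

theorem facts_coOne0 {p : ℕ} (hp : p.Prime) (hp5 : 5 ≤ p) : Facts p Co1 := by
  have := H55.CoOneBd.finite_co1
  intro x hx
  have hd : p ∣ 4157776806543360000 := by rw [← card_co1, ← hx]; exact _root_.orderOf_dvd_natCard x
  have hd' : p ∣ 2 ^ 21 * (3 ^ 9 * (5 ^ 4 * (7 ^ 2 * (11 * (13 * 23))))) := hd.trans (by norm_num)
  have key : p = 5 ∨ p = 7 ∨ p = 11 ∨ p = 13 ∨ p = 23 := by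
    rcases hp.dvd_mul.1 hd' with h | h
    · have := Nat.le_of_dvd (by norm_num) (hp.dvd_of_dvd_pow h); omega
    rcases hp.dvd_mul.1 h with h | h
    · have := Nat.le_of_dvd (by norm_num) (hp.dvd_of_dvd_pow h); omega
    rcases hp.dvd_mul.1 h with h | h
    · have := Nat.le_of_dvd (by norm_num) (hp.dvd_of_dvd_pow h); omega
    rcases hp.dvd_mul.1 h with h | h
    · have := (Nat.prime_dvd_prime_iff_eq hp (by norm_num)).1 (hp.dvd_of_dvd_pow h); omega
    rcases hp.dvd_mul.1 h with h | h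
    · have := (Nat.prime_dvd_prime_iff_eq hp (by norm_num)).1 h; omega
    rcases hp.dvd_mul.1 h with h | h
    · have := (Nat.prime_dvd_prime_iff_eq hp (by norm_num)).1 h; omega
    · have := (Nat.prime_dvd_prime_iff_eq hp (by norm_num)).1 h; omega
  rcases key with rfl | rfl | rfl | rfl | rfl
  · exact Or.inl (Ev.of_even (coOne_five hx))
  · exact Or.inl (Ev.of_even (CoOneSeven.even_seven hx))
  · exact Or.inl (Ev.of_even (coOne_eleven hx))
  · exact Or.inl (Ev.of_even (coOne_thirteen hx))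
  · obtain ⟨a, rfl, ha, hao⟩ := exists_lift (by norm_num) (by norm_num) hx
    have h1 := H604.Cop.Conway.card_cent_co0 hao
    have h2 := (Nat.le_of_dvd Nat.card_pos (card_cent_dvd (by decide) ha)).trans h1
    obtain ⟨k, hk⟩ := dvd_card_centralizer hx
    have hpos : 0 < Nat.card (centralizer ({(QuotientGroup.mk a : Co1)} : Set Co1)) := Nat.card_pos
    have hk2 : k = 1 ∨ k = 2 := by omega
    rcases hk2 with rfl | rfl
    · exact Or.inr (Or.inl (Sm.of_card (by norm_num) (by norm_num) (by rw [hk]) (by rw [card_co1]; norm_num)))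
    · exact Or.inl (Ev.of_even (by rw [hk]; norm_num))

/-- **the facts of `Co1`** -/
theorem facts_coOne {p : ℕ} (hp : p.Prime) (hp5 : 5 ≤ p) {G : Type u} [Group G] (h : Spor.IsoCo1 G) : Facts p G := by
  obtain ⟨e⟩ := h
  exact Facts.congr e.symm (facts_coOne0 hp hp5)

end Cfsg.Agent.H874.Tor
end

-- part: H874/Tor/Conway
section
/-!
# S3235: the facts of `Co1`, `Co2`, `Co3`, `Suz` (helper874, task 2768)

`facts_coOne`, `facts_coTwo`, `facts_coThree`, `facts_suz` : for all primes `p ≥ 5`.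
-/
end

-- part: H339/Tor/RowB
section
/-!
# S3235: the Baby Monster (helper339)

* `order_le` : `B` is a 4-transposition group;
* `kill_b` : no subgroup with `Pr p`, if the centralisers of the involutions contain none; `p = 5` through `HN`, `p = 7`
  by the index of `C(2A)`, `p ≥ 11` by the 4-transpositions.
-/

set_option autoImplicit false
set_option linter.unusedSectionVars false

namespace Cfsg.Agent.H339.Tor.B

open Subgroup Cfsg Cfsg.Agent.H103.Tor Cfsg.Agent.H33.Tor
open Cfsg.Agent.BabyM Cfsg.Agent.BabyM.Model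

universe u

section model

variable {W : Type} [AddCommGroup W] [Module ℚ W] {M : BData W} {K₀ : Type} [Group K₀]

/-- the involution -/
def tt (A : BAll M K₀) : M.G := ⟨M.t₀, A.C_le_G A.t₀_C⟩

theorem tt_sq (A : BAll M K₀) : tt A * tt A = 1 := Subtype.ext A.rep.t₀_sq

theorem tt_ne (A : BAll M K₀) : tt A ≠ 1 := fun h => A.rep.t₀_ne (congrArg Subtype.val h)

/-- **four-transpositions** -/
theorem order_le (A : BAll M K₀) (T : BTrans M) (g : M.G) :
    ∃ n : ℕ, 0 < n ∧ n ≤ 4 ∧ (tt A * (g * tt A * g⁻¹)) ^ n = 1 := by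
  obtain ⟨t, ht⟩ : ∃ t, t = tt A := ⟨_, rfl⟩
  rw [← ht]
  obtain ⟨j, h, hh, hc⟩ : (g : W ≃ₗ[ℚ] W) M.d₀ ∈ M.D := ((A.G_le g.2).2 _).2 A.d₀_mem
  obtain ⟨l, hl, hld, hord⟩ := T.order_le j
  obtain ⟨n, hn0, hn4, hpow⟩ := hord h⁻¹ (M.C.inv_mem hh)
  have h1 := A.conj_t h l (g : W ≃ₗ[ℚ] W) (A.C_le hh) (A.G_le hl) (A.G_le g.2) (Or.inl (by rw [hld, hc]))
  refine ⟨n, hn0, hn4, ?_⟩
  apply Subtype.ext
  have e2 : ((t * (g * t * g⁻¹) : M.G) : W ≃ₗ[ℚ] W) =
      h * ((h⁻¹ * M.t₀ * h⁻¹⁻¹) * (l * M.t₀ * l⁻¹)) * h⁻¹ := by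
    have e3 : ((t * (g * t * g⁻¹) : M.G) : W ≃ₗ[ℚ] W) =
        M.t₀ * ((g : W ≃ₗ[ℚ] W) * M.t₀ * (g : W ≃ₗ[ℚ] W)⁻¹) := by
      rw [ht]
      rfl
    rw [e3, ← h1]
    group
  change ((t * (g * t * g⁻¹) : M.G) : W ≃ₗ[ℚ] W) ^ n = 1
  rw [e2, conj_pow, hpow, mul_one, mul_inv_cancel]

end model

theorem card_cent : Nat.card (centralizer ({tt Instance.all} : Set Inst.M.G)) = 306129918735099415756800 :=
  Instance.all.card_cent Instance.tr

/-- **the row `B`** -/
theorem kill_b {p : ℕ} (hp : p.Prime) (hp5 : 5 ≤ p) {G : Type u} [Group G] [Finite G] [IsSimpleGroup G]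
    (h : Spor.IsoB G)
    (hinv : ∀ z : G, orderOf z = 2 → ∀ A : Subgroup G, Pr p A → ¬ A ≤ centralizer ({z} : Set G))
    (ih : ∀ (K : Type u) [Group K] [Finite K] [IsSimpleGroup K], Nat.card K < Nat.card G →
      (¬ ∀ x y : K, x * y = y * x) → Row p K) : Kill p G := by
  obtain ⟨e⟩ := KFacts.Baby.RowB.exists_iso h
  have hcard : Nat.card G = 4154781481226426191177580544000000 := by
    obtain ⟨f⟩ := h
    rw [Nat.card_congr f.toEquiv, BM.KHAll.card_B]
  obtain ⟨t, ht⟩ : ∃ t : G, t = e (tt Instance.all) := ⟨_, rfl⟩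
  have ht2 : t * t = 1 := by rw [ht, ← map_mul, tt_sq, map_one]
  have ht1 : t ≠ 1 := by
    rw [ht]
    intro h1
    exact tt_ne Instance.all (e.injective (h1.trans (map_one e).symm))
  have hto : orderOf t = 2 := by
    have : Fact (Nat.Prime 2) := ⟨Nat.prime_two⟩
    exact orderOf_eq_prime (by rw [pow_two, ht2]) ht1
  rcases Nat.lt_or_ge 10 p with h10 | h10
  · intro A hA
    refine hinv t hto A hA (no_four hp h10 hA ht2 fun g => ?_)
    obtain ⟨n, h0, hn, h1⟩ := order_le Instance.all Instance.tr (e.symm g)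
    refine ⟨n, h0, hn, ?_⟩
    have h2 := congrArg e h1
    rw [map_pow, map_mul, map_mul, map_mul, map_inv, e.apply_symm_apply, map_one, ← ht] at h2
    exact h2
  obtain rfl | rfl : p = 5 ∨ p = 7 := by
    interval_cases p <;> first | (exfalso; revert hp; norm_num; done) | simp
  · -- `HN`
    obtain ⟨f, hf⟩ := H792.SpBFive.exists_hom
    obtain ⟨e'⟩ := h
    have hHN := S1701.result
    have hfin : Finite Spor.HN := Nat.finite_of_card_ne_zero (by rw [hHN.2]; norm_num)
    have hk : Kill 5 Spor.HN := kill_small (G := G) hp hp5 ih hHN.1 hHN.2 (by rw [hcard]; norm_num)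
      (by norm_num) (ok_of_chk [5 ^ 6, 7, 11, 19] (by norm_num) (by decide +kernel))
    have hinj : Function.Injective (e'.symm.toMonoidHom.comp f) := e'.symm.injective.comp hf
    refine Kill.of_sylow hp hinj hk ?_
    have h1 : Nat.card (e'.symm.toMonoidHom.comp f).range = 273030912000000 := by
      rw [← hHN.2]
      exact (Nat.card_congr (MonoidHom.ofInjective hinj).toEquiv).symm
    have h2 := Subgroup.card_mul_index (e'.symm.toMonoidHom.comp f).range
    rw [h1, hcard] at h2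
    have h3 : (e'.symm.toMonoidHom.comp f).range.index = 15217256723027853312 := by omega
    rw [h3]
    norm_num
  · -- the index of `C(t)`
    refine kill_of_index (z := t) hp ?_ fun A hA => hinv t hto A hA
    have h1 : Nat.card (centralizer ({t} : Set G)) = 306129918735099415756800 := by
      rw [← card_cent, ht]
      refine Nat.card_congr
        { toFun := fun y => ⟨e.symm y, ?_⟩
          invFun := fun y => ⟨e y, ?_⟩
          left_inv := fun y => Subtype.ext (e.apply_symm_apply _)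
          right_inv := fun y => Subtype.ext (e.symm_apply_apply _) }
      · have h1 := mem_centralizer_singleton_iff.1 y.2
        rw [mem_centralizer_singleton_iff]
        have h2 := congrArg e.symm h1
        rwa [map_mul, map_mul, e.symm_apply_apply] at h2
      · have h1 := mem_centralizer_singleton_iff.1 y.2
        rw [mem_centralizer_singleton_iff, ← map_mul, h1, map_mul]
    have h2 := Subgroup.card_mul_index (centralizer ({t} : Set G))
    rw [h1, hcard] at h2
    have h3 : (centralizer ({t} : Set G)).index = 13571955000 := by omega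
    rw [h3]
    norm_num

end Cfsg.Agent.H339.Tor.B
end

-- part: H339/Tor/Seven
section
/-!
# S3235: the Monster, `p = 7` (helper339)

`W = ⟨w, w₁⟩` of order 49; `A = ⟨X⟩` acts on `W` as a transvection group, `a w a⁻¹ = w₁`, `a w₁ a⁻¹ = w⁻¹`. If `Pr 7 A` then
`A`, `a A a⁻¹` generate an `SLT` acting on `W` as `SL₂(7)`: its central involution commutes with `A` (`exists_inv`).
-/

set_option autoImplicit false

namespace Cfsg.Agent.H339.Tor.Seven

open Subgroup Cfsg.Agent.H103.Tor Cfsg.Agent.H33.Tor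
open Cfsg.Agent.H609.T5.Seven (exists_two inv_iter pow_act not_dvd_mul)
open Cfsg.Agent.H333.SLTwoLine (Ker1 u l)

variable {K : Type*} [Group K] {w w1 a x y : K}

open Matrix (SpecialLinearGroup)

/-- **opposite transvections**: `(X V ^ j)²` inverts `w` and `w₁` for some `j` -/
theorem exists_invert {X V : K} {m n : ℤ} (hwo : orderOf w = 7) (hw1o : orderOf w1 = 7) (hww1 : w * w1 = w1 * w)
    (hm : ¬ (7 : ℤ) ∣ m) (hn : ¬ (7 : ℤ) ∣ n) (h1 : X * w = w * X) (h2 : X * w1 * X⁻¹ = w1 * w ^ m)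
    (h3 : V * w1 = w1 * V) (h4 : V * w * V⁻¹ = w * w1 ^ (-n)) :
    ∃ j : ℕ, (X * V ^ j) ^ 2 * w * ((X * V ^ j) ^ 2)⁻¹ = w⁻¹ ∧ (X * V ^ j) ^ 2 * w1 * ((X * V ^ j) ^ 2)⁻¹ = w1⁻¹ := by
  obtain ⟨j, hj⟩ := exists_two (not_dvd_mul hm hn)
  refine ⟨j, ?_⟩
  have hcw : Commute w w1 := hww1
  obtain ⟨c, hc⟩ : ∃ c : ℤ, c = -n * j := ⟨_, rfl⟩
  have e1 : V ^ j * w * (V ^ j)⁻¹ = w * w1 ^ c := by
    rw [hc]
    exact pow_act h3 h4 j
  have e2 : V ^ j * w1 * (V ^ j)⁻¹ = w1 := by
    rw [((show Commute V w1 from h3).pow_left j).eq, mul_inv_cancel_right]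
  have e3 : X * w * X⁻¹ = w := by rw [h1, mul_inv_cancel_right]
  obtain ⟨P, hP⟩ : ∃ P, P = X * V ^ j := ⟨_, rfl⟩
  rw [← hP]
  have hmc : m * c = -(m * n * j) := by rw [hc]; ring
  have hv2 : ∀ v : K, orderOf v = 7 → v ^ (m * c) = v ^ (-2 : ℤ) := by
    intro v hv
    have e4 : v ^ (m * c + 2) = 1 := by
      rw [← orderOf_dvd_iff_zpow_eq_one, hv, hmc]
      have e5 : -(m * n * j) + 2 = -(m * n * j - 2) := by ring
      push_cast
      rw [e5, dvd_neg]
      exact hj
    have e6 : v ^ (m * c) * v ^ (2 : ℤ) = 1 := by rw [← zpow_add, e4]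
    rw [eq_inv_of_mul_eq_one_left e6, zpow_neg]
  have hw2 := hv2 w hwo
  have hw12 := hv2 w1 hw1o
  have p1 : P * w * P⁻¹ = w⁻¹ * w1 ^ c := by
    calc P * w * P⁻¹ = X * (V ^ j * w * (V ^ j)⁻¹) * X⁻¹ := by rw [hP]; group
      _ = (X * w * X⁻¹) * (X * w1 * X⁻¹) ^ c := by rw [e1, conj_zpow]; group
      _ = w * (w1 ^ c * w ^ (m * c)) := by
        rw [e3, h2, ((hcw.zpow_left m).symm).mul_zpow, ← zpow_mul]
      _ = w * (w ^ (m * c) * w1 ^ c) := by rw [((hcw.zpow_zpow (m * c) c)).eq]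
      _ = w⁻¹ * w1 ^ c := by rw [hw2]; group
  have p2 : P * w1 * P⁻¹ = w1 * w ^ m := by
    calc P * w1 * P⁻¹ = X * (V ^ j * w1 * (V ^ j)⁻¹) * X⁻¹ := by rw [hP]; group
      _ = w1 * w ^ m := by rw [e2, h2]
  constructor
  · have q : P * (w⁻¹ * w1 ^ c) * P⁻¹ = (P * w * P⁻¹)⁻¹ * (P * w1 * P⁻¹) ^ c := by rw [conj_zpow]; group
    calc P ^ 2 * w * (P ^ 2)⁻¹ = P * (P * w * P⁻¹) * P⁻¹ := by rw [pow_two]; group
      _ = P * (w⁻¹ * w1 ^ c) * P⁻¹ := by rw [p1]
      _ = (w⁻¹ * w1 ^ c)⁻¹ * (w1 * w ^ m) ^ c := by rw [q, p1, p2]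
      _ = (w1 ^ c)⁻¹ * w * (w1 ^ c * w ^ (m * c)) := by
        rw [((hcw.zpow_left m).symm).mul_zpow, ← zpow_mul, mul_inv_rev, inv_inv]
      _ = (w1 ^ c)⁻¹ * (w * w1 ^ c) * w ^ (m * c) := by group
      _ = w * w ^ (m * c) := by rw [(hcw.zpow_right c).eq]; group
      _ = w⁻¹ := by rw [hw2]; group
  · have q : P * (w1 * w ^ m) * P⁻¹ = (P * w1 * P⁻¹) * (P * w * P⁻¹) ^ m := by rw [conj_zpow]; group
    calc P ^ 2 * w1 * (P ^ 2)⁻¹ = P * (P * w1 * P⁻¹) * P⁻¹ := by rw [pow_two]; group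
      _ = (w1 * w ^ m) * (w⁻¹ * w1 ^ c) ^ m := by rw [p2, q, p1, p2]
      _ = (w1 * w ^ m) * ((w⁻¹) ^ m * w1 ^ (c * m)) := by
        rw [((hcw.inv_left.zpow_right c)).mul_zpow, ← zpow_mul]
      _ = w1 * w1 ^ (m * c) := by rw [mul_comm c m]; group
      _ = w1⁻¹ := by rw [hw12]; group

/-- an element of order 7 is not its inverse -/
theorem ne_inv (hwo : orderOf w = 7) : w ≠ w⁻¹ := by
  intro h
  have h1 : w ^ 2 = 1 := by
    rw [pow_two]
    nth_rewrite 1 [h]
    exact inv_mul_cancel w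
  have h2 := orderOf_dvd_of_pow_eq_one h1
  rw [hwo] at h2
  norm_num at h2

/-- **the central involution** -/
theorem exists_inv {A : Subgroup K} (hA : Pr 7 A) {X : K} (hX : X ∈ A) {m : ℤ} (hwo : orderOf w = 7)
    (hww1 : w * w1 = w1 * w) (haw : a * w * a⁻¹ = w1) (haw1 : a * w1 * a⁻¹ = w⁻¹)
    (hm : ¬ (7 : ℤ) ∣ m) (h1 : X * w = w * X) (h2 : X * w1 * X⁻¹ = w1 * w ^ m) :
    ∃ z : K, orderOf z = 2 ∧ A ≤ centralizer ({z} : Set K) := by
  have hp : Nat.Prime 7 := by norm_num
  have hp5 : 5 ≤ 7 := by norm_num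
  have hw1o : orderOf w1 = 7 := by rw [← haw, ← MulAut.conj_apply, MulEquiv.orderOf_eq, hwo]
  obtain ⟨V, hV⟩ : ∃ V, V = a * X * a⁻¹ := ⟨_, rfl⟩
  have hVA : V ∈ cj a A := by rw [hV]; exact conj_mem_cj hX
  have h3 : V * w1 = w1 * V := by
    rw [hV, ← haw]
    calc a * X * a⁻¹ * (a * w * a⁻¹) = a * (X * w) * a⁻¹ := by group
      _ = a * w * a⁻¹ * (a * X * a⁻¹) := by rw [h1]; group
  have h4 : V * w * V⁻¹ = w * w1 ^ (-m) := by
    have e1 : w = a * w1⁻¹ * a⁻¹ := by
      have : a * w1⁻¹ * a⁻¹ = (a * w1 * a⁻¹)⁻¹ := by rw [conj_inv]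
      rw [this, haw1, inv_inv]
    have e2 : a * w ^ (-m) * a⁻¹ = w1 ^ (-m) := by rw [← haw, conj_zpow]
    have e3 : X * w1⁻¹ * X⁻¹ = w1⁻¹ * w ^ (-m) := by
      have : X * w1⁻¹ * X⁻¹ = (X * w1 * X⁻¹)⁻¹ := by rw [conj_inv]
      rw [this, h2, mul_inv_rev, ← zpow_neg]
      exact (((show Commute w w1 from hww1).zpow_left (-m)).inv_right).eq
    rw [hV]
    calc a * X * a⁻¹ * w * (a * X * a⁻¹)⁻¹ = a * X * a⁻¹ * (a * w1⁻¹ * a⁻¹) * (a * X * a⁻¹)⁻¹ := by rw [← e1]
      _ = a * (X * w1⁻¹ * X⁻¹) * a⁻¹ := by group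
      _ = (a * w1⁻¹ * a⁻¹) * (a * w ^ (-m) * a⁻¹) := by rw [e3]; group
      _ = w * w1 ^ (-m) := by rw [← e1, e2]
  obtain ⟨j, r1, r2⟩ := exists_invert hwo hw1o hww1 hm hm h1 h2 h3 h4
  obtain ⟨R, hR⟩ : ∃ R, R = (X * V ^ j) ^ 2 := ⟨_, rfl⟩
  rw [← hR] at r1 r2
  have hX7 : X ^ 7 = 1 := by
    have h5 : (⟨X, hX⟩ : A) ^ Nat.card A = 1 := pow_card_eq_one'
    rw [hA.card] at h5
    exact congrArg Subtype.val h5
  have hnc : ¬ Cm A (cj a A) := by
    intro hcm
    have hXV : Commute X V := hcm X hX V hVA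
    have hV7 : V ^ 7 = 1 := by rw [hV, conj_pow, hX7]; group
    have hR7 : R ^ 7 = 1 := by
      rw [hR, ← pow_mul, mul_comm, pow_mul, (hXV.pow_right j).mul_pow, hX7, ← pow_mul, mul_comm j, pow_mul, hV7]
      simp
    have h5 := inv_iter r1 3
    rw [show 2 * 3 + 1 = 7 from rfl, hR7] at h5
    exact ne_inv hwo (by rw [← h5]; group)
  obtain ⟨F, _, _, _, k, φ, x, y, hk, hF, hφ, hr, hx, hy, hAx, hBy⟩ := exists_pair hp hp5 hA.card
    (by rw [card_cj]; exact hA.card) ((hA.pair a).resolve_left hnc) hnc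
  -- the subgroup `W`
  obtain ⟨W, hW⟩ : ∃ W, W = _root_.Subgroup.closure ({w, w1} : Set K) := ⟨_, rfl⟩
  have hwW : w ∈ W := by rw [hW]; exact _root_.Subgroup.subset_closure (by simp)
  have hw1W : w1 ∈ W := by rw [hW]; exact _root_.Subgroup.subset_closure (by simp)
  have hWc : ∀ v ∈ W, ∀ v' ∈ W, v * v' = v' * v := by
    have hc1 : ∀ c : K, c * w = w * c → c * w1 = w1 * c → ∀ v ∈ W, v * c = c * v := by
      intro c hcw hcw1 v hv
      have hle : W ≤ centralizer ({c} : Set K) := by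
        rw [hW, closure_le]
        rintro v (rfl | rfl)
        · exact mem_centralizer_singleton_iff.2 hcw.symm
        · exact mem_centralizer_singleton_iff.2 hcw1.symm
      exact mem_centralizer_singleton_iff.1 (hle hv)
    intro v hv v' hv'
    exact hc1 v' ((hc1 w rfl hww1 v' hv')) ((hc1 w1 hww1.symm rfl v' hv')) v hv
  have hgen : ∀ g : K, g ^ 7 = 1 → g * w * g⁻¹ ∈ W → g * w1 * g⁻¹ ∈ W → g ∈ normalizer (W : Set K) := by
    intro g hg7 hgw hgw1
    have hone : ∀ v ∈ W, g * v * g⁻¹ ∈ W := by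
      have hle : W ≤ W.comap (MulAut.conj g).toMonoidHom := by
        conv_lhs => rw [hW]
        rw [closure_le]
        rintro v (rfl | rfl)
        · exact hgw
        · exact hgw1
      intro v hv
      exact hle hv
    have hit : ∀ n : ℕ, ∀ v ∈ W, g ^ n * v * (g ^ n)⁻¹ ∈ W := by
      intro n
      induction n with
      | zero => intro v hv; simpa using hv
      | succ n ih =>
        intro v hv
        have e : g ^ (n + 1) * v * (g ^ (n + 1))⁻¹ = g * (g ^ n * v * (g ^ n)⁻¹) * g⁻¹ := by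
          rw [pow_succ']; group
        rw [e]
        exact hone _ (ih v hv)
    rw [mem_normalizer_iff]
    intro v
    refine ⟨hone v, fun hv => ?_⟩
    have h5 := hit 6 _ hv
    have e : g ^ 6 * (g * v * g⁻¹) * (g ^ 6)⁻¹ = g ^ 7 * v * (g ^ 7)⁻¹ := by
      rw [show (7 : ℕ) = 6 + 1 from rfl, pow_succ]; group
    rw [e, hg7] at h5
    simpa using h5
  have hX1 : X ≠ 1 := by
    rintro rfl
    rw [one_mul, inv_one, mul_one] at h2
    have h5 : w ^ m = 1 := by
      have h6 : w1 * 1 = w1 * w ^ m := by rw [mul_one]; exact h2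
      exact (mul_left_cancel h6).symm
    rw [← orderOf_dvd_iff_zpow_eq_one, hwo] at h5
    exact hm (by exact_mod_cast h5)
  have hAX : A = zpowers X := by
    refine le_antisymm (fun b hb => ?_) (zpowers_le.2 hX)
    have : Fact (Nat.Prime 7) := ⟨hp⟩
    have h5 := mem_zpowers_of_prime_card (g := (⟨X, hX⟩ : A)) (g' := ⟨b, hb⟩) hA.card (fun h => hX1 (congrArg Subtype.val h))
    obtain ⟨i, hi⟩ := mem_zpowers_iff.1 h5
    exact mem_zpowers_iff.2 ⟨i, congrArg Subtype.val hi⟩
  have hV7 : V ^ 7 = 1 := by rw [hV, conj_pow, hX7]; group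
  have hXN : X ∈ normalizer (W : Set K) := by
    refine hgen X hX7 ?_ ?_
    · rw [h1, mul_inv_cancel_right]; exact hwW
    · rw [h2]; exact mul_mem hw1W (zpow_mem hwW m)
  have hVN : V ∈ normalizer (W : Set K) := by
    refine hgen V hV7 ?_ ?_
    · rw [h4]; exact mul_mem hwW (zpow_mem hw1W _)
    · rw [h3, mul_inv_cancel_right]; exact hw1W
  have hle : A ⊔ cj a A ≤ normalizer (W : Set K) := by
    refine sup_le (by rw [hAX, zpowers_le]; exact hXN) ?_
    rintro _ ⟨b, hb, rfl⟩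
    rw [hAX] at hb
    obtain ⟨i, rfl⟩ := mem_zpowers_iff.1 hb
    have e : (MulAut.conj a).toMonoidHom (X ^ i) = V ^ i := by
      rw [map_zpow, hV]; rfl
    rw [e]
    exact zpow_mem hVN i
  have hnorm : ∀ g : _root_.Matrix.SpecialLinearGroup (Fin 2) F, ∀ v ∈ W, φ g * v * (φ g)⁻¹ ∈ W := by
    intro g v hv
    have h5 : φ g ∈ normalizer (W : Set K) := hle (hr ▸ ⟨g, rfl⟩)
    exact (mem_normalizer_iff.1 h5 v).1 hv
  -- the elements acting as `±1`
  let M : Subgroup (_root_.Matrix.SpecialLinearGroup (Fin 2) F) :=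
    { carrier := {g | (∀ v ∈ W, φ g * v * (φ g)⁻¹ = v) ∨ (∀ v ∈ W, φ g * v * (φ g)⁻¹ = v⁻¹)}
      one_mem' := Or.inl fun v _ => by simp
      mul_mem' := by
        have e : ∀ (g g' : _root_.Matrix.SpecialLinearGroup (Fin 2) F) (v : K),
            φ (g * g') * v * (φ (g * g'))⁻¹ = φ g * (φ g' * v * (φ g')⁻¹) * (φ g)⁻¹ := by
          intro g g' v; rw [map_mul]; group
        rintro g g' (h | h) (h' | h')
        · exact Or.inl fun v hv => by rw [e, h' v hv, h v hv]
        · exact Or.inr fun v hv => by rw [e, h' v hv, h _ (inv_mem hv)]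
        · exact Or.inr fun v hv => by rw [e, h' v hv, h v hv]
        · exact Or.inl fun v hv => by rw [e, h' v hv, h _ (inv_mem hv), inv_inv]
      inv_mem' := by
        have e : ∀ (g : _root_.Matrix.SpecialLinearGroup (Fin 2) F) (v : K),
            φ g⁻¹ * v * (φ g⁻¹)⁻¹ = (φ g)⁻¹ * v * φ g := by
          intro g v; rw [map_inv]; group
        rintro g (h | h)
        · refine Or.inl fun v hv => ?_
          rw [e]
          calc (φ g)⁻¹ * v * φ g = (φ g)⁻¹ * (φ g * v * (φ g)⁻¹) * φ g := by rw [h v hv]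
            _ = v := by group
        · refine Or.inr fun v hv => ?_
          rw [e]
          calc (φ g)⁻¹ * v * φ g = (φ g)⁻¹ * (φ g * v⁻¹ * (φ g)⁻¹) * φ g := by rw [h _ (inv_mem hv), inv_inv]
            _ = v⁻¹ := by group }
  have hMn : M.Normal := by
    refine ⟨fun g hg k => ?_⟩
    have e : ∀ v : K, φ (k * g * k⁻¹) * v * (φ (k * g * k⁻¹))⁻¹ =
        φ k * (φ g * (φ k⁻¹ * v * (φ k⁻¹)⁻¹) * (φ g)⁻¹) * (φ k)⁻¹ := by
      intro v; rw [map_mul, map_mul]; group
    have e2 : ∀ v : K, φ k * (φ k⁻¹ * v * (φ k⁻¹)⁻¹) * (φ k)⁻¹ = v := by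
      intro v; rw [map_inv]; group
    rcases hg with h | h
    · refine Or.inl fun v hv => ?_
      rw [e, h _ (hnorm k⁻¹ v hv), e2]
    · refine Or.inr fun v hv => ?_
      rw [e, h _ (hnorm k⁻¹ v hv)]
      calc φ k * (φ k⁻¹ * v * (φ k⁻¹)⁻¹)⁻¹ * (φ k)⁻¹ = (φ k * (φ k⁻¹ * v * (φ k⁻¹)⁻¹) * (φ k)⁻¹)⁻¹ := by group
        _ = v⁻¹ := by rw [e2]
  have hF3 : 3 < Fintype.card F := by
    rw [hF]
    calc 3 < 7 := by norm_num
      _ = 7 ^ 1 := (pow_one 7).symm
      _ ≤ 7 ^ k := Nat.pow_le_pow_right (by norm_num) hk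
  obtain ⟨i, hi⟩ := mem_zpowers_iff.1 (hAx ▸ hX : X ∈ zpowers (φ (u x)))
  obtain ⟨ρ, hρ⟩ : ∃ ρ : _root_.Matrix.SpecialLinearGroup (Fin 2) F, φ ρ = R := by
    have h5 : R ∈ A ⊔ cj a A := by
      rw [hR]
      exact pow_mem (mul_mem (mem_sup_left hX) (pow_mem (mem_sup_right hVA) j)) 2
    rw [← hr] at h5
    exact h5
  have hρM : ρ ∈ M := by
    refine Or.inr fun v hv => ?_
    rw [hρ]
    rw [hW] at hv
    induction hv using closure_induction with
    | mem v hv =>
      rcases hv with rfl | rfl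
      · exact r1
      · exact r2
    | one => simp
    | mul v v' hv hv' h h' =>
      rw [← hW] at hv hv'
      calc R * (v * v') * R⁻¹ = (R * v * R⁻¹) * (R * v' * R⁻¹) := by group
        _ = v⁻¹ * v'⁻¹ := by rw [h, h']
        _ = (v' * v)⁻¹ := by group
        _ = (v * v')⁻¹ := by rw [hWc v hv v' hv']
    | inv v hv h =>
      calc R * v⁻¹ * R⁻¹ = (R * v * R⁻¹)⁻¹ := by group
        _ = v⁻¹⁻¹ := by rw [h]
  have hR1 : R ≠ 1 := by
    intro h5
    rw [h5] at r1
    exact ne_inv hwo (by rw [← r1]; group)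
  rcases Cfsg.Agent.S2540.normal_dichotomy (Cfsg.Agent.TwoFusion.SLTwoFacts.commutator_eq_top hF3)
    (Cfsg.Agent.TwoFusion.SLTwoFacts.isSimpleGroup_psl hF3) M with h5 | h5
  swap
  · exfalso
    have h6 : u x ^ i ∈ M := by rw [h5]; trivial
    have h7 : φ (u x ^ i) = X := by rw [map_zpow, hi]
    rcases h6 with h | h
    · have h8 := h w1 hw1W
      rw [h7, h2] at h8
      have h9 : w ^ m = 1 := by
        have h10 : w1 * w ^ m = w1 * 1 := by rw [mul_one]; exact h8
        exact mul_left_cancel h10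
      rw [← orderOf_dvd_iff_zpow_eq_one, hwo] at h9
      exact hm (by exact_mod_cast h9)
    · have h8 := h w hwW
      rw [h7, h1, mul_inv_cancel_right] at h8
      exact ne_inv hwo h8
  · obtain ⟨r, hr, hrx⟩ := Matrix.SpecialLinearGroup.mem_center_iff.1 (h5 hρM)
    have hr2 : r ^ 2 = 1 := by simpa only [_root_.sq_eq_one_iff, _root_.Fintype.card_fin] using hr
    have h6 : (r - 1) * (r + 1) = 0 := by linear_combination hr2
    have h7 : ρ * ρ = 1 := by
      apply Subtype.ext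
      show ρ.1 * ρ.1 = 1
      rw [← hrx, ← map_mul, ← pow_two, hr2, map_one]
    have h8 : ∀ g : _root_.Matrix.SpecialLinearGroup (Fin 2) F, ρ * g = g * ρ := fun g => (mem_center_iff.1 (h5 hρM) g).symm
    refine ⟨R, ?_, ?_⟩
    · have : Fact (Nat.Prime 2) := ⟨Nat.prime_two⟩
      exact orderOf_eq_prime (by rw [pow_two, ← hρ, ← map_mul, h7, map_one]) hR1
    · rw [hAx, zpowers_le, mem_centralizer_singleton_iff, ← hρ, ← map_mul, ← map_mul, h8]

end Cfsg.Agent.H339.Tor.Seven
end

-- part: H339/Tor/RowM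
section
/-!
# S3235: the Monster (helper339)

* `kill_model` , `kill_m` : no subgroup with `Pr p`, if the centralisers of the involutions contain none; `p = 5` and
  `p = 11` through the sections `J₂`, `M₁₂`, `p = 7` through `N(7²)`, `p ≥ 13` by the 6-transpositions.
-/

set_option autoImplicit false
set_option linter.unusedSectionVars false

namespace Cfsg.Agent.H339.Tor.M

open Subgroup Cfsg Cfsg.Agent.H103.Tor Cfsg.Agent.H33.Tor
open Cfsg.Agent.MonsterX Cfsg.Agent.MonsterX.InstData Cfsg.Agent.MonsterX.MainPack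
open Cfsg.Agent.MonsterX.MainSimple Cfsg.Agent.MonsterX.MainBasic Cfsg.Agent.MonsterX.Model
open Cfsg.Agent.BpSpor.MBigModel (MG zz card_M chart)
open Cfsg.Agent.LThreeMB (XX Zx KChart.chart)

universe u

/-- the transposition -/
noncomputable def tm : MG := tG Instance.mGroup Instance.mRep

/-- **six-transpositions** -/
theorem order_le (g : MG) : ∃ n : ℕ, 0 < n ∧ n ≤ 6 ∧ (tm * (g * tm * g⁻¹)) ^ n = 1 := by
  have := BpSpor.MBigModel.finite
  refine ⟨_, orderOf_pos _, six Instance.mGroup Instance.mRep Instance.mLat InstanceFinal.mOrbit Instance.mTrans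
    InstanceFinal.mExtra.order_le g, pow_orderOf_eq_one _⟩

theorem tm_sq : tm * tm = 1 := Subtype.ext Instance.mRep.t₀_sq

theorem tm_ne : tm ≠ 1 := fun h => Instance.mRep.t₀_ne (congrArg Subtype.val h)

theorem orderOf_tm : orderOf tm = 2 := by
  have : Fact (Nat.Prime 2) := ⟨Nat.prime_two⟩
  exact orderOf_eq_prime (by rw [pow_two, tm_sq]) tm_ne

/-- `p = 5` -/
theorem five {A : Subgroup MG} (hA : Pr 5 A)
    (hJ : ∀ (L : Type) [Group L] [Finite L], Spor.IsoJ2 L → Kill 5 L) : False := by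
  have hfin : Finite ↥InstData.M.G := MFive.Row.finite_model
  have hp : Nat.Prime 5 := by norm_num
  obtain ⟨r, hrA, hro, hAr⟩ := Cfsg.Agent.H333.SLTwoLine.exists_gen hp A hA.card
  have H : Cfsg.Agent.H609.T5.Five.Inp _ _ _ _ := ⟨KChart.chart KDone.lft MFive.Row.hc, BpSpor.M5.trNe,
    CpAutBFive.Closed.coFive H546.MFiveFull.hJ, H546.MFiveFull.hJ, CpAutBFive.Closed.hnEight, BpSpor.M5.hasPair,
    BpSpor.M5.exists_k BpSpor.M5.hA, H546.MFiveFull.card_model, fun r hr => CpAutBFive.EvenRow.cases hr⟩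
  obtain ⟨P, x, a, b, c, u, L⟩ := Cfsg.Agent.H609.T5.Five.exists_lifts H.h
  obtain ⟨f1, f2, f3, ⟨N, ρ, S, hR⟩, hcon⟩ := Cfsg.Agent.H609.T5.Five.exists_local H L.ox L.fx
  obtain ⟨g, hg, hne⟩ := Cfsg.Agent.H609.T5.Five.al_all H L hR hcon hro
  have hfX : Finite (XX (Cfsg.Agent.LThreeMB.KChart.pi MFive.Row.hc x)) := Finite.of_surjective ρ hR.surj
  have hle : cj g A ≤ centralizer ({(x : ↥InstData.M.G)} : Set ↥InstData.M.G) := by
    rw [hAr]
    rintro _ ⟨y, hy, rfl⟩
    obtain ⟨i, rfl⟩ := mem_zpowers_iff.1 hy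
    have e : (MulAut.conj g).toMonoidHom (r ^ i) = (g * r * g⁻¹) ^ i := by rw [map_zpow]; rfl
    rw [e]
    exact zpow_mem hg i
  exact kill_section hp (by norm_num) ρ hR.surj (hJ _ hR.iso) (hA.conj g) hle
    ⟨g * r * g⁻¹, conj_mem_cj hrA, hne⟩

/-- `p = 7` -/
theorem seven {A : Subgroup MG} (hA : Pr 7 A) : ∃ z : MG, orderOf z = 2 ∧ A ≤ centralizer ({z} : Set MG) := by
  have hfin := MFive.Row.finite_model
  have hp : Nat.Prime 7 := by norm_num
  have h7 : ¬ 7 ^ 7 ∣ Nat.card ↥InstData.M.G := by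
    rw [H961.SevM.card_model]
    norm_num
  obtain ⟨y, v, s', a, c, w, hL, h5⟩ := H961.SevM.exists_data'
  obtain ⟨Q, hQ, -⟩ := H961.SevM.exists_qq hL h5
  obtain ⟨s1, hS⟩ := Cfsg.Agent.H609.T5.Seven.exists_sit hL hQ h5 h7
  obtain ⟨r, hrA, hro, hAr⟩ := Cfsg.Agent.H333.SLTwoLine.exists_gen hp A hA.card
  obtain ⟨k, m, hm, h1, h2⟩ := hS.good_all h7 hro
  obtain ⟨z, hz, hle⟩ := Seven.exists_inv (hA.conj k) (conj_mem_cj hrA) hS.wo hS.ww1 hS.aw hS.aw1 hm h1 h2
  refine ⟨k⁻¹ * z * k, ?_, ?_⟩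
  · have e : k⁻¹ * z * k = MulAut.conj k⁻¹ z := by rw [MulAut.conj_apply, inv_inv]
    rw [e, MulEquiv.orderOf_eq, hz]
  · intro b hb
    have h3 := mem_centralizer_singleton_iff.1 (hle (conj_mem_cj hb : k * b * k⁻¹ ∈ cj k A))
    rw [mem_centralizer_singleton_iff]
    calc b * (k⁻¹ * z * k) = k⁻¹ * (k * b * k⁻¹ * z) * k := by group
      _ = k⁻¹ * (z * (k * b * k⁻¹)) * k := by rw [h3]
      _ = k⁻¹ * z * k * b := by group

/-- `p = 11` -/
theorem eleven {A : Subgroup MG} (hA : Pr 11 A)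
    (hinv : ∀ z : MG, orderOf z = 2 → ∀ A : Subgroup MG, Pr 11 A → ¬ A ≤ centralizer ({z} : Set MG))
    (hM : ∀ (L : Type) [Group L] [Finite L], Spor.IsoM12 L → Kill 11 L) : False := by
  have hfin := BpSpor.MBigModel.finite
  have hsim := BpSpor.MBigModel.simple
  have hp : Nat.Prime 11 := by norm_num
  have hpf : Fact (Nat.Prime 11) := ⟨hp⟩
  obtain ⟨x, hx, hpx⟩ := H800.ME.Final.exists_x
  have hxo : orderOf (x : MG) = 11 := by rw [Subgroup.orderOf_coe, hx]
  have hd := H800.ME.Final.dvd_XX hxo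
  have hiso := H800.ME.Twelve.iso chart hx hpx hd
  have hzo : orderOf zz = 2 := BpSpor.MBigModel.orderOf_zz
  have hcard : Nat.card (centralizer ({(x : MG)} : Set MG)) = 11 * Nat.card (XX (x : MG)) := by
    rw [Subgroup.card_eq_card_quotient_mul_card_subgroup (Zx (x : MG)), mul_comm]
    congr 1
    rw [Zx, Nat.card_zpowers, LThreeMB.self, Subgroup.orderOf_mk, hxo]
  have hi : ¬ 11 ∣ (centralizer ({(x : MG)} : Set MG)).index := by
    intro h1
    apply H800.ME.Final.not_cube
    rw [← (centralizer ({(x : MG)} : Set MG)).card_mul_index, hcard, pow_succ, pow_two]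
    exact mul_dvd_mul (Nat.mul_dvd_mul_left _ hd) h1
  obtain ⟨g, hg⟩ := exists_cj_le hp hA.card hi
  by_cases hle : cj g A ≤ zpowers (x : MG)
  · refine hinv zz hzo _ (hA.conj g) (hle.trans ?_)
    rw [zpowers_le]
    exact x.2
  · obtain ⟨a, ha, hax⟩ : ∃ a ∈ cj g A, a ∉ zpowers (x : MG) := SetLike.not_le_iff_exists.1 hle
    have hfX : Finite (XX (x : MG)) := inferInstance
    refine kill_section hp (by norm_num) (QuotientGroup.mk' (Zx (x : MG))) (QuotientGroup.mk'_surjective _)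
      (hM _ hiso) (hA.conj g) hg ⟨a, ha, fun h1 => hax ?_⟩
    have h2 : (⟨a, hg ha⟩ : centralizer ({(x : MG)} : Set MG)) ∈ Zx (x : MG) := (QuotientGroup.eq_one_iff _).1 h1
    obtain ⟨i, hi⟩ := mem_zpowers_iff.1 h2
    exact mem_zpowers_iff.2 ⟨i, congrArg Subtype.val hi⟩

/-- **the model** -/
theorem kill_model {p : ℕ} (hp : p.Prime) (hp5 : 5 ≤ p)
    (hinv : ∀ z : MG, orderOf z = 2 → ∀ A : Subgroup MG, Pr p A → ¬ A ≤ centralizer ({z} : Set MG))
    (hJ : ∀ (L : Type) [Group L] [Finite L], Spor.IsoJ2 L → Kill p L)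
    (hM : ∀ (L : Type) [Group L] [Finite L], Spor.IsoM12 L → Kill p L) : Kill p MG := by
  intro A hA
  rcases Nat.lt_or_ge 12 p with h12 | h12
  · exact hinv tm orderOf_tm A hA (no_six hp h12 hA tm_sq order_le)
  obtain rfl | rfl | rfl : p = 5 ∨ p = 7 ∨ p = 11 := by
    interval_cases p <;> first | (exfalso; revert hp; norm_num; done) | simp
  · exact five hA hJ
  · obtain ⟨z, hz, hle⟩ := seven hA
    exact hinv z hz A hA hle
  · exact eleven hA hinv hM

/-- **the row `M`** -/
theorem kill_m {p : ℕ} (hp : p.Prime) (hp5 : 5 ≤ p) {G : Type u} [Group G] [Finite G] [IsSimpleGroup G]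
    (h : Spor.IsoM G)
    (hinv : ∀ z : G, orderOf z = 2 → ∀ A : Subgroup G, Pr p A → ¬ A ≤ centralizer ({z} : Set G))
    (ih : ∀ (K : Type u) [Group K] [Finite K] [IsSimpleGroup K], Nat.card K < Nat.card G →
      (¬ ∀ x y : K, x * y = y * x) → Row p K) : Kill p G := by
  obtain ⟨e1⟩ := h
  obtain ⟨e2⟩ := MonsterP.Equiv.equiv
  let e : MG ≃* G := (e1.trans e2).symm
  have hcard : Nat.card G = 808017424794512875886459904961710757005754368000000000 := by
    rw [← Nat.card_congr e.toEquiv, card_M]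
  refine Kill.congr e (kill_model hp hp5 ?_ ?_ ?_)
  · intro z hz A hA hle
    refine hinv (e z) (by rw [MulEquiv.orderOf_eq, hz]) (A.map e.toMonoidHom) (hA.map_equiv e) ?_
    rintro _ ⟨a, ha, rfl⟩
    have h1 := mem_centralizer_singleton_iff.1 (hle ha)
    rw [mem_centralizer_singleton_iff]
    show e a * e z = e z * e a
    rw [← map_mul, h1, map_mul]
  · rintro L _ _ ⟨f⟩
    have hs := S1620.result
    refine kill_small (G := G) hp hp5 ih ((MulEquiv.isSimpleGroup_congr f).2 hs.1)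
      (n := 604800) (by rw [Nat.card_congr f.toEquiv]; exact J2Sylow.SporSylow.card_J2) (by rw [hcard]; norm_num) (by norm_num)
      (ok_of_chk [25, 7] (by norm_num) (by decide +kernel))
  · rintro L _ _ ⟨f⟩
    have hs := Schreier.MTwelve.isSimpleGroup
    refine kill_small (G := G) hp hp5 ih ((MulEquiv.isSimpleGroup_congr f).2 hs)
      (n := 95040) (by rw [Nat.card_congr f.toEquiv]; exact MTwelveType.SylowModel.card_M12) (by rw [hcard]; norm_num)
      (by norm_num) (ok_of_chk [5, 11] (by norm_num) (by decide +kernel))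

end Cfsg.Agent.H339.Tor.M
end

-- part: H33/Tor/RowSpor
section
/-!
# S3235: the row of the sporadic groups (helper33)
-/

set_option autoImplicit false

namespace Cfsg.Agent.H33.Tor

open Subgroup Cfsg Cfsg.Agent.H103.Tor
open Cfsg.Agent.NotCT

universe u

/-- **No subgroup of a sporadic group has `Pr p`.** -/
theorem kill_sporadic {p : ℕ} (hp : p.Prime) (hp5 : 5 ≤ p) {G : Type u} [Group G] [Finite G] [IsSimpleGroup G]
    (hcl : ∀ (L : Type u) [Group L] [Finite L] [IsSimpleGroup L], IsKnownSimple' L) (ih : IHyp p G)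
    (hs : IsSporadicGroup G) : Kill p G := by
  have hinv : ∀ {N : ℕ}, Nat.card G = N → N ≠ 95040 → N ≠ 175560 → N ≠ 604800 →
      ∀ z : G, orderOf z = 2 → ∀ A : Subgroup G, Pr p A → ¬ A ≤ centralizer ({z} : Set G) :=
    fun hN h1 h2 h3 _ hz _ hA => no_inv hp hp5 hcl ih hs (fun _ => not_three hN h1 h2 h3) hz hA
  rcases id hs with h | h | h | h | h | h | h | h | h | h | h | h | h | h | h | h | h | h | h | h | h | h | h | h | h |
    h
  · exact kill_A hp hp5 hcl ih hs (by (clear * - G h; tauto))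
  · exact kill_m12 hp hp5 hcl ih hs h
  · exact kill_A hp hp5 hcl ih hs (by (clear * - h; tauto))
  · exact kill_A hp hp5 hcl ih hs (by (clear * - h; (solve | repeat (first | with_reducible assumption | exact Or.inl (by with_reducible assumption) | refine Or.inr ?_) | tauto)))
  · exact kill_A hp hp5 hcl ih hs (by (clear * - h; (solve | repeat (first | with_reducible assumption | exact Or.inl (by with_reducible assumption) | refine Or.inr ?_) | tauto)))
  · exact kill_j1 hp hp5 hcl ih hs h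
  · exact kill_j2 hp hp5 hcl ih hs h
  · exact kill_A hp hp5 hcl ih hs (by (clear * - h; (solve | repeat (first | with_reducible assumption | exact Or.inl (by with_reducible assumption) | refine Or.inr ?_) | tauto)))
  · exact kill_A hp hp5 hcl ih hs (by (clear * - h; (solve | repeat (first | with_reducible assumption | exact Or.inl (by with_reducible assumption) | refine Or.inr ?_) | tauto)))
  · exact kill_spor hp hp5 hcl ih hs (fun _ => not_three (Orders.co1 h) (by norm_num) (by norm_num) (by norm_num))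
      (H874.Tor.facts_coOne hp hp5 h)
  · exact kill_spor hp hp5 hcl ih hs (fun _ => not_three (Orders.co2 h) (by norm_num) (by norm_num) (by norm_num))
      (H874.Tor.facts_coTwo hp hp5 h)
  · exact kill_spor hp hp5 hcl ih hs (fun _ => not_three (Orders.co3 h) (by norm_num) (by norm_num) (by norm_num))
      (H874.Tor.facts_coThree hp hp5 h)
  · exact kill_A hp hp5 hcl ih hs (by (clear * - h; (solve | repeat (first | with_reducible assumption | exact Or.inl (by with_reducible assumption) | refine Or.inr ?_) | tauto)))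
  · exact kill_A hp hp5 hcl ih hs (by (clear * - h; (solve | repeat (first | with_reducible assumption | exact Or.inl (by with_reducible assumption) | refine Or.inr ?_) | tauto)))
  · exact kill_spor hp hp5 hcl ih hs (fun _ => not_three (Orders.suz h) (by norm_num) (by norm_num) (by norm_num))
      (H874.Tor.facts_suz hp hp5 h)
  · exact kill_he hp hp5 hcl ih hs h
  · exact kill_A hp hp5 hcl ih hs (by (clear * - h; (solve | repeat (first | with_reducible assumption | exact Or.inl (by with_reducible assumption) | refine Or.inr ?_) | tauto)))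
  · exact kill_on hp hp5 hcl ih hs h
  · exact kill_ly hp hp5 hcl ih hs h
  · exact kill_A hp hp5 hcl ih hs (by (clear * - h; (solve | repeat (first | with_reducible assumption | exact Or.inl (by with_reducible assumption) | refine Or.inr ?_) | tauto)))
  · exact kill_A hp hp5 hcl ih hs (by (clear * - h; (solve | simp only [*, true_or, or_true, and_self, true_and, and_true, not_false_eq_true] | tauto)))
  · exact kill_A hp hp5 hcl ih hs (by (clear * - h; (solve | repeat (first | with_reducible assumption | exact Or.inl (by with_reducible assumption) | refine Or.inr ?_) | tauto)))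
  · exact kill_spor hp hp5 hcl ih hs (fun _ => not_three (Orders.hn h) (by norm_num) (by norm_num) (by norm_num))
      (H682.Tor.facts_hn hp hp5 h)
  · exact kill_spor hp hp5 hcl ih hs (fun _ => not_three (Orders.th h) (by norm_num) (by norm_num) (by norm_num))
      (H682.Tor.facts_th hp hp5 h)
  · exact H339.Tor.B.kill_b hp hp5 h (hinv (Orders.b h) (by norm_num) (by norm_num) (by norm_num)) ih
  · exact H339.Tor.M.kill_m hp hp5 h (hinv (Orders.m h) (by norm_num) (by norm_num) (by norm_num)) ih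

/-- **the row of the sporadic groups** -/
theorem row_spor {p : ℕ} (hp : p.Prime) (hp5 : 5 ≤ p)
    (hcl : ∀ (L : Type u) [Group L] [Finite L] [IsSimpleGroup L], IsKnownSimple' L)
    {K : Type u} [Group K] [Finite K] [IsSimpleGroup K] (h : IsSporadicGroup K)
    (ih : ∀ (L : Type u) [Group L] [Finite L] [IsSimpleGroup L], Nat.card L < Nat.card K →
      (¬ ∀ x y : L, x * y = y * x) → Row p L) : Row p K :=
  Kill.row (kill_sporadic hp hp5 hcl ih h)

end Cfsg.Agent.H33.Tor
end
end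
end
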